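import Mathlib
import Cfsg.Agent.H424.DegTools
import Cfsg.Agent.H424.CentBound
import Cfsg.Agent.SmallSimple.LocalData
import Cfsg.Agent.SmallSimple.DegreeCheck
import Cfsg.Agent.Blocks.ExistsModular
import Cfsg.Agent.SmallSimple.InvolColumn
set_option linter.all false

/-!
# Degrees and Sylow subgroups of prime order

* `exists_block` : `BlockData` from the local data of the order toolkit (`LocalData`);
* `exists_block_of_card` : the same from orders only;
* `card_le_of_selfCent` : at most `e + t` irreducible characters have degree prime to `p` when the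
  Sylow `p`-subgroup of order `p` is self-centralizing;
* `exists_mul_dvd` : degrees divisible by `p * q`, by counting classes;
* `three_le`, `degs_three_le` : the nontrivial degrees of a nonabelian simple group are at least 3.
-/

set_option autoImplicit false

namespace Cfsg.Agent.H424.BlockTools

open Cfsg Cfsg.Agent.Characters.Core Cfsg.Agent.H424.DegTools Cfsg.Agent.H424.CentBound
open Cfsg.Agent.SmallSimple.LocalData Cfsg.Agent.SmallSimple.DegreeData
open Subgroup

universe u

variable {G : Type u} [Group G] [Finite G]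

theorem exists_block_of_card {p : ℕ} [Fact p.Prime] (hp2 : p ≠ 2) (P : Sylow p G)
    (hP : Nat.card P = p) {e c : ℕ} (hC : Nat.card (centralizer (P : Set G)) = c)
    (hN : Nat.card (normalizer (P : Set G)) = c * e) {t : ℕ} (ht : e * t = p - 1) :
    ∃ M : Ideal AlgInt, IsPModular p M ∧ Nonempty (BlockData p M P e t) := by
  obtain ⟨M, hM⟩ := Blocks.ExistsModular.exists_isPModular (p := p) (Fact.out : p.Prime)
  refine ⟨M, hM, exists_blockData p hp2 M hM P hP e t ?_ ht⟩
  have h1 : centralizer (P : Set G) ≤ normalizer (P : Set G) := centralizer_le_normalizer _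
  have h2 := Subgroup.relIndex_mul_relIndex ⊥ (centralizer (P : Set G)) (normalizer (P : Set G))
    bot_le h1
  rw [Subgroup.relIndex_bot_left, Subgroup.relIndex_bot_left] at h2
  rw [hC, hN] at h2
  have hc : 0 < c := hC ▸ Nat.card_pos
  exact Nat.eq_of_mul_eq_mul_left hc h2

theorem exists_block {p e k : ℕ} [Fact p.Prime] (h : Data G p e k) (hp2 : p ≠ 2) (P : Sylow p G)
    {t : ℕ} (ht : e * t = p - 1) :
    ∃ M : Ideal AlgInt, IsPModular p M ∧ Nonempty (BlockData p M P e t) :=
  exists_block_of_card hp2 P (h.card_eq P) (h.card_centralizer P)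
    (by rw [h.card_normalizer P]; ring) ht

/-- If `P` (of order `p`) is self-centralizing, at most `e + t` irreducible characters have degree
prime to `p`. -/
theorem card_le_of_selfCent {p e t : ℕ} [Fact p.Prime] {M : Ideal AlgInt} (hM : IsPModular p M)
    {P : Sylow p G} (D : BlockData p M P e t) (hP : Nat.card P = p)
    (hC : Nat.card (centralizer (P : Set G)) = p)
    (S : Finset (IrrCharacter G)) (hS : ∀ χ ∈ S, ¬ p ∣ charDegree (χ : G → ℂ)) :
    S.card ≤ e + t := by
  classical
  have hp : p.Prime := Fact.out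
  have hC' : centralizer (P : Set G) = (P : Subgroup G) := by
    have : IsCyclic (P : Subgroup G) := isCyclic_of_prime_card hP
    have : IsMulCommutative (P : Subgroup G) := inferInstance
    have h1 : (P : Subgroup G) ≤ centralizer (P : Set G) := Subgroup.le_centralizer (P : Subgroup G)
    exact (Subgroup.eq_of_le_of_card_ge h1 (by rw [hC, hP])).symm
  have h1 : S ⊆ (D.one :: D.l).toFinset ∪ D.X := by
    intro χ hχ
    by_contra hn
    have hn' : χ ∉ principalBlock M G := by
      rw [D.mem_block]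
      rw [Finset.mem_union, List.mem_toFinset] at hn
      exact hn
    have : Nontrivial (P : Subgroup G) := by
      rw [← Finite.one_lt_card_iff_nontrivial, hP]
      exact hp.one_lt
    obtain ⟨x, hx⟩ := exists_ne (1 : (P : Subgroup G))
    have hx1 : (x : G) ≠ 1 := fun h => hx (Subtype.ext h)
    have h2 := D.vanish hM hP hC' hn' x.2 hx1
    refine CentBound.apply_ne_zero (p := p) (isIrr_isCharacter χ.2)
      (Blocks.Basic.irr_one_eq_charDegree χ.2) (hS χ hχ) (g := (x : G)) (m := 1) ?_ h2
    have h3 : x ^ Nat.card P = 1 := pow_card_eq_one'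
    rw [hP] at h3
    rw [pow_one]
    exact congrArg Subtype.val h3
  have h2 := Finset.card_le_card h1
  have h3 : ((D.one :: D.l).toFinset ∪ D.X).card ≤ (D.one :: D.l).toFinset.card + D.X.card :=
    Finset.card_union_le _ _
  have h4 : (D.one :: D.l).toFinset.card = e := by
    rw [List.toFinset_card_of_nodup D.nodup, List.length_cons, D.length]
  rw [h4, D.card_X] at h3
  omega

/-- If at most `a` degrees are prime to `p`, at most `b` are prime to `q`, and there are at least
`a + b` classes, some degree is divisible by `p * q`. -/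
theorem exists_mul_dvd {p q a b : ℕ} (hp : p.Prime) (hq : q.Prime) (hpq : p ≠ q)
    (ha : ∀ S : Finset (IrrCharacter G), (∀ χ ∈ S, ¬ p ∣ charDegree (χ : G → ℂ)) → S.card ≤ a)
    (hb : ∀ S : Finset (IrrCharacter G), (∀ χ ∈ S, ¬ q ∣ charDegree (χ : G → ℂ)) → S.card ≤ b)
    (h : a + b ≤ Nat.card (ConjClasses G)) : ∃ d ∈ charDegrees G, p * q ∣ d := by
  classical
  by_contra hcon
  push Not at hcon
  have := finite_irr (G := G)
  have := Fintype.ofFinite (IrrCharacter G)
  have hcard : Nat.card (IrrCharacter G) = Nat.card (ConjClasses G) := card_irr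
  let A := Finset.univ.filter fun χ : IrrCharacter G => ¬ p ∣ charDegree (χ : G → ℂ)
  let B := Finset.univ.filter fun χ : IrrCharacter G => ¬ q ∣ charDegree (χ : G → ℂ)
  have hA : A.card ≤ a := ha A fun χ hχ => (Finset.mem_filter.1 hχ).2
  have hB : B.card ≤ b := hb B fun χ hχ => (Finset.mem_filter.1 hχ).2
  have hAB : A ∪ B = Finset.univ := by
    rw [Finset.eq_univ_iff_forall]
    intro χ
    rw [Finset.mem_union, Finset.mem_filter, Finset.mem_filter]
    by_contra hn
    push Not at hn
    exact hcon _ ⟨χ, rfl⟩ (Nat.Coprime.mul_dvd_of_dvd_of_dvd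
      ((Nat.coprime_primes hp hq).2 hpq) (hn.1 (Finset.mem_univ _)) (hn.2 (Finset.mem_univ _)))
  have hone : (⟨1, isIrr_one⟩ : IrrCharacter G) ∈ A ∩ B := by
    have h1 : charDegree (1 : G → ℂ) = 1 := Blocks.Knorr.charDegree_of_natCast (by simp)
    rw [Finset.mem_inter, Finset.mem_filter, Finset.mem_filter]
    refine ⟨⟨Finset.mem_univ _, ?_⟩, Finset.mem_univ _, ?_⟩
    · rw [h1]; exact fun h => hp.one_lt.ne' (Nat.dvd_one.1 h)
    · rw [h1]; exact fun h => hq.one_lt.ne' (Nat.dvd_one.1 h)
  have h1 := Finset.card_union_add_card_inter A B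
  rw [hAB, Finset.card_univ, ← Nat.card_eq_fintype_card, hcard] at h1
  have h2 : 0 < (A ∩ B).card := Finset.card_pos.2 ⟨_, hone⟩
  omega

/-- A degree of a nonabelian simple group of even order is 1 or at least 3. -/
theorem three_le [IsSimpleGroup G] (hG : ¬ (Nat.card G).Prime) (h2 : 2 ∣ Nat.card G)
    {χ : G → ℂ} (hχ : IsIrrCharacter G χ) (hne : χ ≠ 1) : 3 ≤ charDegree χ := by
  have : Fact (Nat.Prime 2) := ⟨Nat.prime_two⟩
  obtain ⟨t, ht⟩ := exists_prime_orderOf_dvd_card' 2 h2
  have ht2 : t ^ 2 = 1 := by rw [← ht]; exact pow_orderOf_eq_one t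
  have ht1 : t ≠ 1 := by
    rintro rfl
    rw [orderOf_one] at ht
    norm_num at ht
  obtain ⟨z, -, hz1, hz2⟩ := SmallSimple.InvolColumn.exists_int
    (MTwelve.SmallDegree.commutator_eq_top_of_card hG) hχ hne ht2 ht1
  rw [abs_lt] at hz1
  by_contra h3
  have h4 := Blocks.Knorr.charDegree_ne_zero hχ
  have h5 : charDegree χ = 1 ∨ charDegree χ = 2 := by omega
  rcases h5 with h5 | h5
  · have h6 : χ 1 = 1 := by rw [Blocks.Basic.irr_one_eq_charDegree hχ, h5, Nat.cast_one]
    obtain ⟨f, hf⟩ := Characters.Linear.exists_hom_of_isIrrCharacter hχ h6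
    apply hne
    funext g
    have h7 : commutator G ≤ f.ker := Abelianization.commutator_subset_ker f
    rw [MTwelve.SmallDegree.commutator_eq_top_of_card hG, top_le_iff] at h7
    have h8 : f g = 1 := by
      rw [← MonoidHom.mem_ker, h7]
      exact Subgroup.mem_top g
    rw [hf]
    change ((f g : ℂˣ) : ℂ) = 1
    rw [h8]
    rfl
  · rw [h5] at hz1 hz2
    omega

theorem degs_three_le [IsSimpleGroup G] (hG : ¬ (Nat.card G).Prime) (h2 : 2 ∣ Nat.card G)
    {p e t : ℕ} {M : Ideal AlgInt} {P : Sylow p G} (D : BlockData p M P e t) :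
    ∀ z ∈ D.degs, 3 ≤ z.natAbs := by
  intro z hz
  obtain ⟨χ, hχ, rfl⟩ := List.mem_map.1 hz
  rw [D.natAbs_sd (List.mem_cons_of_mem _ hχ)]
  refine three_le hG h2 χ.2 fun h => ?_
  have h3 : χ = D.one := Subtype.ext (h.trans D.coe_one.symm)
  have h4 := D.nodup
  rw [List.nodup_cons] at h4
  exact h4.1 (h3 ▸ hχ)

/-- The absolute values of the signed degrees are degrees. -/
theorem degs_mem {p e t : ℕ} {M : Ideal AlgInt} {P : Sylow p G} (D : BlockData p M P e t) {z : ℤ}
    (hz : z ∈ D.degs) : z.natAbs ∈ charDegrees G := by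
  obtain ⟨χ, hχ, rfl⟩ := List.mem_map.1 hz
  rw [D.natAbs_sd (List.mem_cons_of_mem _ hχ)]
  exact ⟨χ, rfl⟩

theorem dexc_mem {p e t : ℕ} [Fact p.Prime] {M : Ideal AlgInt} {P : Sylow p G}
    (D : BlockData p M P e t) (ht : e * t = p - 1) : (1 + D.degs.sum).natAbs ∈ charDegrees G := by
  obtain ⟨Θ, hΘ⟩ := D.exists_X ht
  rw [D.dexc_eq ht, D.natAbs_dexc, ← D.deg_X Θ hΘ]
  exact ⟨Θ, rfl⟩

end Cfsg.Agent.H424.BlockTools
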