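import Mathlib
import Cfsg.Agent.Classification.RTwo.UThreeThree
set_option linter.all false

-- part: H424/U33Codes
section
/-!
# Computations in `SU₃(3)`

Elements of the field with nine elements are coded by numbers `< 9`; centralizers of cyclic
matrices are computed by enumerating polynomials in the matrix.
-/

set_option autoImplicit false

namespace Cfsg.Agent.H424.U33Codes

open Matrix Cfsg Cfsg.Agent.Classification.RTwo.UThreeThree

/-- The element with a given code. -/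
def code (x : ℕ) : K9 := ⟨((x % 3 : ℕ) : ZMod 3), ((x / 3 % 3 : ℕ) : ZMod 3)⟩

theorem code_mod (x : ℕ) : code (x % 9) = code x := by
  have h1 : x % 9 % 3 = x % 3 := by omega
  have h2 : x % 9 / 3 % 3 = x / 3 % 3 := by omega
  rw [code, code, h1, h2]

/-- table lookup -/
def look (T x y : ℕ) : ℕ :=
  Nat.mod (Nat.shiftRight T (Nat.mul 4 (Nat.add (Nat.mul 9 (Nat.mod x 9)) (Nat.mod y 9)))) 16

/-- The addition table. -/
def TA : ℕ :=
  8986690708024339884259668388453865091868182506470258411551265922896781674643265104972283578167824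
/-- The multiplication table. -/
def TM : ℕ :=
  12992295474418726299168584010125499800446975643965808714274855111902658395364003326119775607717888
/-- The table of `x * y ^ 3`. -/
def TC : ℕ :=
  4734049774712850806497981311164739234785405282237278466415727854232555506328298177528284355493888

theorem spec_of {T : ℕ} {f : K9 → K9 → K9}
    (h : ∀ x : Fin 9, ∀ y : Fin 9, code (look T x y) = f (code x) (code y)) (x y : ℕ) :
    code (look T x y) = f (code x) (code y) := by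
  have h1 := h ⟨x % 9, Nat.mod_lt _ (by norm_num)⟩ ⟨y % 9, Nat.mod_lt _ (by norm_num)⟩
  have h2 : look T (x % 9) (y % 9) = look T x y := by
    have e1 : Nat.mod (x % 9) 9 = Nat.mod x 9 := Nat.mod_mod x 9
    have e2 : Nat.mod (y % 9) 9 = Nat.mod y 9 := Nat.mod_mod y 9
    rw [look, look, e1, e2]
  rw [← code_mod x, ← code_mod y, ← h1]
  change _ = code (look T (x % 9) (y % 9))
  rw [h2]

theorem code_add (x y : ℕ) : code (look TA x y) = code x + code y :=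
  spec_of (f := fun a b => a + b) (by decide +kernel) x y

theorem code_mul (x y : ℕ) : code (look TM x y) = code x * code y :=
  spec_of (f := fun a b => a * b) (by decide +kernel) x y

theorem code_cmul (x y : ℕ) : code (look TC x y) = code x * (code y * code y * code y) :=
  spec_of (f := fun a b => a * (b * b * b)) (by decide +kernel) x y

theorem exists_code (a : K9) : ∃ x : Fin 9, code x = a := by
  obtain ⟨a, b⟩ := a
  revert a b
  decide +kernel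

theorem code_inj {x y : ℕ} (h : code x = code y) : x % 9 = y % 9 := by
  have key : ∀ a b : Fin 9, code a = code b → a = b := by decide +kernel
  rw [← code_mod x, ← code_mod y] at h
  have := key ⟨x % 9, Nat.mod_lt _ (by norm_num)⟩ ⟨y % 9, Nat.mod_lt _ (by norm_num)⟩ h
  exact congrArg Fin.val this

theorem code_zero : code 0 = 0 := by decide +kernel
theorem code_one : code 1 = 1 := by decide +kernel
theorem code_two : code 2 = -1 := by decide +kernel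

/-- entry of a coded matrix -/
def ent (T i j : ℕ) : ℕ := Nat.mod (Nat.shiftRight T (Nat.mul 4 (Nat.add (Nat.mul 3 i) j))) 16

/-- the matrix with a given code -/
def mat (T : ℕ) : Matrix (Fin 3) (Fin 3) K9 := fun i j => code (ent T i j)

/-- the determinant and unitarity conditions on codes -/
def good (n : ℕ → ℕ → ℕ) : Bool :=
  let u := fun i j => look TA (look TA (look TC (n 0 i) (n 0 j)) (look TC (n 1 i) (n 1 j)))
    (look TC (n 2 i) (n 2 j))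
  let m := fun x y z => look TM (look TM x y) z
  let s := fun x y => look TA x (look TM 2 y)
  Nat.beq (Nat.mod (u 0 0) 9) 1 && (Nat.beq (Nat.mod (u 1 1) 9) 1 &&
    (Nat.beq (Nat.mod (u 2 2) 9) 1 && (Nat.beq (Nat.mod (u 0 1) 9) 0 &&
    (Nat.beq (Nat.mod (u 0 2) 9) 0 && (Nat.beq (Nat.mod (u 1 2) 9) 0 &&
    Nat.beq (Nat.mod (s (look TA (look TA (s (s (m (n 0 0) (n 1 1) (n 2 2)) (m (n 0 0) (n 1 2) (n 2 1)))
      (m (n 0 1) (n 1 0) (n 2 2))) (m (n 0 1) (n 1 2) (n 2 0))) (m (n 0 2) (n 1 0) (n 2 1)))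
      (m (n 0 2) (n 1 1) (n 2 0))) 9) 1)))))

theorem beq_one {x : ℕ} (h : code x = 1) : Nat.beq (Nat.mod x 9) 1 = true := by
  rw [← code_one] at h
  exact Nat.beq_eq.symm ▸ code_inj h

theorem beq_zero {x : ℕ} (h : code x = 0) : Nat.beq (Nat.mod x 9) 0 = true := by
  rw [← code_zero] at h
  exact Nat.beq_eq.symm ▸ code_inj h

theorem good_of_isGood {n : ℕ → ℕ → ℕ}
    (h : IsGood (fun i j : Fin 3 => code (n i j))) : good n = true := by
  obtain ⟨h1, h2⟩ := h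
  have hu : ∀ i j : Fin 3, code (look TA (look TA (look TC (n 0 i) (n 0 j))
      (look TC (n 1 i) (n 1 j))) (look TC (n 2 i) (n 2 j))) = if i = j then 1 else 0 := by
    intro i j
    rw [code_add, code_add, code_cmul, code_cmul, code_cmul, ← h2 i j]
    rfl
  rw [good]
  simp only [Bool.and_eq_true]
  refine ⟨beq_one (hu 0 0), beq_one (hu 1 1), beq_one (hu 2 2), beq_zero (hu 0 1),
    beq_zero (hu 0 2), beq_zero (hu 1 2), beq_one ?_⟩
  simp only [code_add, code_mul, code_two]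
  refine Eq.trans ?_ h1
  simp only [Fin.val_zero, Fin.val_one, Fin.val_two]
  ring

/-- the entries of the polynomial `a + b M + c M ^ 2`; `T`, `T'` = codes of `M`, `M ^ 2` -/
def pent (T T' a b c i j : ℕ) : ℕ :=
  look TA (look TA (cond (Nat.beq i j) a 0) (look TM b (ent T i j))) (look TM c (ent T' i j))

/-- the polynomials which are good -/
def sols (T T' : ℕ) : List ℕ :=
  (List.range 729).filter fun n => good (pent T T' (n / 81) (n / 9 % 9) (n % 9))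

/-- A matrix commuting with a cyclic matrix is a polynomial. -/
theorem eq_poly {K : Type*} [CommRing K] (M N : Matrix (Fin 3) (Fin 3) K) (h : N * M = M * N)
    (v : Fin 3 → K) (C C' : Matrix (Fin 3) (Fin 3) K)
    (hC : C = Matrix.of fun i => ![v i, (M *ᵥ v) i, ((M * M) *ᵥ v) i])
    (hCC' : C * C' = 1) : ∃ a b c : K, N = a • (1 : Matrix (Fin 3) (Fin 3) K) + b • M + c • (M * M) := by
  set w := C' *ᵥ (N *ᵥ v) with hw
  refine ⟨w 0, w 1, w 2, ?_⟩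
  set p := w 0 • (1 : Matrix (Fin 3) (Fin 3) K) + w 1 • M + w 2 • (M * M) with hp
  have h1 : C *ᵥ w = N *ᵥ v := by rw [hw, Matrix.mulVec_mulVec, hCC', Matrix.one_mulVec]
  have h2 : p *ᵥ v = C *ᵥ w := by
    rw [hp, Matrix.add_mulVec, Matrix.add_mulVec, Matrix.smul_mulVec, Matrix.smul_mulVec,
      Matrix.smul_mulVec, Matrix.one_mulVec]
    ext i
    rw [hC, Matrix.mulVec, dotProduct, Fin.sum_univ_three]
    simp [Pi.add_apply, Pi.smul_apply, smul_eq_mul, mul_comm]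
  have h3 : (N - p) *ᵥ v = 0 := by rw [Matrix.sub_mulVec, h2, h1, sub_self]
  have h4 : (N - p) * M = M * (N - p) := by
    rw [sub_mul, mul_sub, h, hp]
    congr 1
    rw [add_mul, add_mul, mul_add, mul_add, Matrix.smul_mul, Matrix.smul_mul, Matrix.smul_mul,
      Matrix.mul_smul, Matrix.mul_smul, Matrix.mul_smul, one_mul, mul_one, mul_assoc]
  have h5 : (N - p) *ᵥ (M *ᵥ v) = 0 := by
    rw [Matrix.mulVec_mulVec, h4, ← Matrix.mulVec_mulVec, h3, Matrix.mulVec_zero]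
  have h6 : (N - p) *ᵥ ((M * M) *ᵥ v) = 0 := by
    rw [← Matrix.mulVec_mulVec, Matrix.mulVec_mulVec, h4, ← Matrix.mulVec_mulVec, h5,
      Matrix.mulVec_zero]
  have h7 : (N - p) * C = 0 := by
    ext i k
    rw [Matrix.mul_apply]
    have e3 := congrFun h3 i
    have e5 := congrFun h5 i
    have e6 := congrFun h6 i
    rw [Matrix.mulVec, dotProduct] at e3 e5 e6
    rw [hC]
    fin_cases k
    · exact e3
    · exact e5
    · exact e6
  have h8 : N - p = 0 := by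
    rw [← mul_one (N - p), ← hCC', ← mul_assoc, h7, zero_mul]
  exact sub_eq_zero.1 h8

theorem mat_pent {T T' : ℕ} (a b c : ℕ) :
    (fun i j : Fin 3 => code (pent T T' a b c i j) : Matrix (Fin 3) (Fin 3) K9) =
      code a • (1 : Matrix (Fin 3) (Fin 3) K9) + code b • mat T + code c • mat T' := by
  refine Matrix.ext fun i j => ?_
  rw [pent, code_add, code_add, code_mul, code_mul]
  simp only [Matrix.add_apply, Matrix.smul_apply, smul_eq_mul, mat]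
  congr 2
  by_cases hij : i = j
  · subst hij
    rw [Matrix.one_apply_eq, Nat.beq_refl, mul_one]
    rfl
  · rw [Matrix.one_apply_ne hij, mul_zero]
    have : Nat.beq i j = false := by
      rw [Bool.eq_false_iff]
      intro h
      exact hij (Fin.ext (Nat.eq_of_beq_eq_true h))
    rw [this]
    exact code_zero

theorem isGood_mt (x : Cfsg.SU 3 K9 3) : IsGood (mt x) := by
  refine ⟨?_, fun i j => ?_⟩
  · have h := x.1.2
    rw [Matrix.det_fin_three] at h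
    exact h
  · have h := (LieClassical.GUOrder.mul_map_eq_one_iff card_k9' (mt x)).1 x.2
    have h1 := congrFun (congrFun h i) j
    rw [Matrix.mul_apply, Fin.sum_univ_three, Matrix.one_apply] at h1
    rw [← h1]
    simp only [Matrix.transpose_apply, Matrix.map_apply, LieClassical.GUOrder.frob_apply, pow_succ,
      pow_zero, one_mul]

theorem card_centralizer_le {x : Cfsg.SU 3 K9 3} {T T' : ℕ} (hx : mt x = mat T)
    (hx2 : mat T * mat T = mat T') (v : Fin 3 → K9) (C C' : Matrix (Fin 3) (Fin 3) K9)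
    (hC : C = Matrix.of fun i => ![v i, (mat T *ᵥ v) i, (mat T' *ᵥ v) i])
    (hCC' : C * C' = 1) {k : ℕ} (hk : (sols T T').length ≤ k) :
    Nat.card (Subgroup.centralizer ({x} : Set (Cfsg.SU 3 K9 3))) ≤ k := by
  classical
  let F : ℕ → Matrix (Fin 3) (Fin 3) K9 := fun n =>
    fun i j : Fin 3 => code (pent T T' (n / 81) (n / 9 % 9) (n % 9) i j)
  have hmem : ∀ g ∈ Subgroup.centralizer ({x} : Set (Cfsg.SU 3 K9 3)),
      mt g ∈ ((sols T T').map F).toFinset := by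
    intro g hg
    have hc : mt g * mat T = mat T * mt g := by
      have h1 := Subgroup.mem_centralizer_iff.1 hg x rfl
      rw [← hx, ← mt_mul, ← mt_mul, h1]
    obtain ⟨a, b, c, h⟩ := eq_poly (mat T) (mt g) hc v C C' (by rw [hC, hx2]) hCC'
    rw [hx2] at h
    obtain ⟨a', rfl⟩ := exists_code a
    obtain ⟨b', rfl⟩ := exists_code b
    obtain ⟨c', rfl⟩ := exists_code c
    rw [List.mem_toFinset, List.mem_map]
    have e1 : (81 * (a' : ℕ) + 9 * b' + c') / 81 = a' := by omega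
    have e2 : (81 * (a' : ℕ) + 9 * b' + c') / 9 % 9 = b' := by omega
    have e3 : (81 * (a' : ℕ) + 9 * b' + c') % 9 = c' := by omega
    have h2 : F (81 * (a' : ℕ) + 9 * b' + c') = mt g := by
      change (fun i j : Fin 3 => code (pent T T' _ _ _ i j)) = _
      rw [e1, e2, e3, mat_pent, h]
    refine ⟨81 * (a' : ℕ) + 9 * b' + c', ?_, h2⟩
    rw [sols, List.mem_filter, List.mem_range]
    refine ⟨by omega, ?_⟩
    apply good_of_isGood
    change IsGood (F _)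
    rw [h2]
    exact isGood_mt g
  calc Nat.card (Subgroup.centralizer ({x} : Set (Cfsg.SU 3 K9 3)))
      ≤ Nat.card ((sols T T').map F).toFinset := by
        refine Nat.card_le_card_of_injective (fun g => ⟨mt g.1, hmem g.1 g.2⟩) ?_
        intro g g' h
        have h' := congrArg Subtype.val h
        exact Subtype.ext (su_ext h')
    _ = ((sols T T').map F).toFinset.card := by rw [Nat.card_eq_fintype_card, Fintype.card_coe]
    _ ≤ ((sols T T').map F).length := List.toFinset_card_le _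
    _ = (sols T T').length := List.length_map _
    _ ≤ k := hk

end Cfsg.Agent.H424.U33Codes
end

-- part: H424/U33Classes
section
/-!
# Classes and centralizers in `SU₃(3)`

* `fourteen_le` : `SU₃(3)` has at least 14 conjugacy classes;
* `exists_seven`, `exists_two`, `exists_three` : elements with centralizers of order at most 7, 8, 9.
-/

set_option autoImplicit false

namespace Cfsg.Agent.H424.U33Classes

open Matrix Cfsg Cfsg.Agent.Classification.RTwo.UThreeThree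
open Cfsg.Agent.H424.U33Codes

theorem sols_seven : (sols 2214871808 22336135285).length ≤ 7 := by decide +kernel
theorem sols_eight : (sols 16974592 12885032963).length ≤ 8 := by decide +kernel
theorem sols_nine : (sols 536883968 102760544).length ≤ 9 := by decide +kernel

/-- an element of order 7 -/
def x7 : Matrix (Fin 3) (Fin 3) K9 :=
  !![⟨0, 0⟩, ⟨0, 0⟩, ⟨0, 1⟩; ⟨1, 1⟩, ⟨1, 1⟩, ⟨0, 0⟩; ⟨1, 1⟩, ⟨2, 2⟩, ⟨0, 0⟩]
/-- an element of order 8 -/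
def x8 : Matrix (Fin 3) (Fin 3) K9 :=
  !![⟨0, 0⟩, ⟨0, 0⟩, ⟨0, 1⟩; ⟨0, 0⟩, ⟨0, 1⟩, ⟨0, 0⟩; ⟨1, 0⟩, ⟨0, 0⟩, ⟨0, 0⟩]
/-- an element of order 3 -/
def x3 : Matrix (Fin 3) (Fin 3) K9 :=
  !![⟨0, 0⟩, ⟨0, 0⟩, ⟨0, 1⟩; ⟨0, 1⟩, ⟨0, 0⟩, ⟨0, 0⟩; ⟨0, 0⟩, ⟨2, 0⟩, ⟨0, 0⟩]

theorem good7 : IsGood x7 := by decide +kernel
theorem good8 : IsGood x8 := by decide +kernel
theorem good3 : IsGood x3 := by decide +kernel

theorem x7_eq : x7 = mat 2214871808 := by decide +kernel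
theorem x8_eq : x8 = mat 16974592 := by decide +kernel
theorem x3_eq : x3 = mat 536883968 := by decide +kernel

theorem x7_sq : mat 2214871808 * mat 2214871808 = mat 22336135285 := by decide +kernel
theorem x8_sq : mat 16974592 * mat 16974592 = mat 12885032963 := by decide +kernel
theorem x3_sq : mat 536883968 * mat 536883968 = mat 102760544 := by decide +kernel

theorem card_x7 : Nat.card (Subgroup.centralizer ({good7.su} : Set (Cfsg.SU 3 K9 3))) ≤ 7 :=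
  card_centralizer_le (x := good7.su) x7_eq x7_sq ![⟨0, 0⟩, ⟨0, 0⟩, ⟨1, 0⟩]
    !![⟨0, 0⟩, ⟨0, 1⟩, ⟨0, 0⟩; ⟨0, 0⟩, ⟨0, 0⟩, ⟨2, 1⟩; ⟨1, 0⟩, ⟨0, 0⟩, ⟨2, 1⟩]
    !![⟨0, 0⟩, ⟨2, 0⟩, ⟨1, 0⟩; ⟨0, 2⟩, ⟨0, 0⟩, ⟨0, 0⟩; ⟨0, 0⟩, ⟨1, 1⟩, ⟨0, 0⟩]
    (by decide +kernel) (by decide +kernel) sols_seven

theorem card_x8 : Nat.card (Subgroup.centralizer ({good8.su} : Set (Cfsg.SU 3 K9 3))) ≤ 8 :=
  card_centralizer_le (x := good8.su) x8_eq x8_sq ![⟨0, 0⟩, ⟨1, 0⟩, ⟨1, 0⟩]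
    !![⟨0, 0⟩, ⟨0, 1⟩, ⟨0, 0⟩; ⟨1, 0⟩, ⟨0, 1⟩, ⟨2, 0⟩; ⟨1, 0⟩, ⟨0, 0⟩, ⟨0, 1⟩]
    !![⟨1, 1⟩, ⟨2, 2⟩, ⟨2, 1⟩; ⟨0, 2⟩, ⟨0, 0⟩, ⟨0, 0⟩; ⟨2, 1⟩, ⟨1, 2⟩, ⟨2, 1⟩]
    (by decide +kernel) (by decide +kernel) sols_eight

theorem card_x3 : Nat.card (Subgroup.centralizer ({good3.su} : Set (Cfsg.SU 3 K9 3))) ≤ 9 :=
  card_centralizer_le (x := good3.su) x3_eq x3_sq ![⟨0, 0⟩, ⟨0, 0⟩, ⟨1, 0⟩]
    !![⟨0, 0⟩, ⟨0, 1⟩, ⟨0, 0⟩; ⟨0, 0⟩, ⟨0, 0⟩, ⟨2, 0⟩; ⟨1, 0⟩, ⟨0, 0⟩, ⟨0, 0⟩]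
    !![⟨0, 0⟩, ⟨0, 0⟩, ⟨1, 0⟩; ⟨0, 2⟩, ⟨0, 0⟩, ⟨0, 0⟩; ⟨0, 0⟩, ⟨2, 0⟩, ⟨0, 0⟩]
    (by decide +kernel) (by decide +kernel) sols_nine

theorem x7_pow : good7.su ^ 7 = 1 := by
  apply su_ext
  rw [pow_succ, pow_succ, pow_succ, pow_succ, pow_succ, pow_succ, pow_one]
  change x7 * x7 * x7 * x7 * x7 * x7 * x7 = 1
  decide +kernel

theorem x7_ne : good7.su ≠ 1 := by
  intro h
  have h1 : x7 = 1 := congrArg Classification.RTwo.UThreeThree.mt h
  have h2 : x7 0 0 = 1 := by rw [h1]; rfl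
  revert h2
  decide +kernel

theorem x8_pow : good8.su ^ 8 = 1 := by
  apply su_ext
  rw [pow_succ, pow_succ, pow_succ, pow_succ, pow_succ, pow_succ, pow_succ, pow_one]
  change x8 * x8 * x8 * x8 * x8 * x8 * x8 * x8 = 1
  decide +kernel

theorem x3_pow : good3.su ^ 3 = 1 := by
  apply su_ext
  rw [pow_succ, pow_succ, pow_one]
  change x3 * x3 * x3 = 1
  decide +kernel

/-- Representatives of the conjugacy classes. -/
def reps : List (Matrix (Fin 3) (Fin 3) K9) := [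
  !![⟨1, 0⟩, ⟨0, 0⟩, ⟨0, 0⟩; ⟨0, 0⟩, ⟨1, 0⟩, ⟨0, 0⟩; ⟨0, 0⟩, ⟨0, 0⟩, ⟨1, 0⟩],
  !![⟨0, 0⟩, ⟨0, 0⟩, ⟨0, 1⟩; ⟨0, 0⟩, ⟨2, 0⟩, ⟨0, 0⟩; ⟨0, 2⟩, ⟨0, 0⟩, ⟨0, 0⟩],
  !![⟨1, 0⟩, ⟨0, 0⟩, ⟨0, 0⟩; ⟨0, 0⟩, ⟨1, 1⟩, ⟨1, 1⟩; ⟨0, 0⟩, ⟨2, 1⟩, ⟨1, 2⟩],
  !![⟨0, 0⟩, ⟨0, 0⟩, ⟨0, 1⟩; ⟨0, 1⟩, ⟨0, 0⟩, ⟨0, 0⟩; ⟨0, 0⟩, ⟨2, 0⟩, ⟨0, 0⟩],
  !![⟨0, 1⟩, ⟨0, 0⟩, ⟨0, 0⟩; ⟨0, 0⟩, ⟨0, 1⟩, ⟨0, 0⟩; ⟨0, 0⟩, ⟨0, 0⟩, ⟨2, 0⟩],
  !![⟨0, 2⟩, ⟨0, 0⟩, ⟨0, 0⟩; ⟨0, 0⟩, ⟨0, 2⟩, ⟨0, 0⟩; ⟨0, 0⟩, ⟨0, 0⟩, ⟨2, 0⟩],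
  !![⟨0, 0⟩, ⟨0, 0⟩, ⟨0, 1⟩; ⟨0, 0⟩, ⟨1, 0⟩, ⟨0, 0⟩; ⟨0, 1⟩, ⟨0, 0⟩, ⟨0, 0⟩],
  !![⟨1, 0⟩, ⟨0, 0⟩, ⟨0, 0⟩; ⟨0, 0⟩, ⟨2, 1⟩, ⟨1, 1⟩; ⟨0, 0⟩, ⟨2, 1⟩, ⟨2, 2⟩],
  !![⟨0, 0⟩, ⟨0, 0⟩, ⟨0, 1⟩; ⟨1, 1⟩, ⟨1, 1⟩, ⟨0, 0⟩; ⟨1, 1⟩, ⟨2, 2⟩, ⟨0, 0⟩],
  !![⟨0, 0⟩, ⟨0, 0⟩, ⟨0, 1⟩; ⟨1, 1⟩, ⟨1, 2⟩, ⟨0, 0⟩; ⟨2, 1⟩, ⟨2, 2⟩, ⟨0, 0⟩],
  !![⟨0, 0⟩, ⟨0, 0⟩, ⟨0, 1⟩; ⟨0, 0⟩, ⟨0, 1⟩, ⟨0, 0⟩; ⟨1, 0⟩, ⟨0, 0⟩, ⟨0, 0⟩],
  !![⟨0, 0⟩, ⟨0, 0⟩, ⟨0, 1⟩; ⟨0, 0⟩, ⟨0, 2⟩, ⟨0, 0⟩; ⟨2, 0⟩, ⟨0, 0⟩, ⟨0, 0⟩],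
  !![⟨0, 0⟩, ⟨0, 0⟩, ⟨0, 1⟩; ⟨1, 1⟩, ⟨2, 1⟩, ⟨0, 0⟩; ⟨1, 2⟩, ⟨2, 2⟩, ⟨0, 0⟩],
  !![⟨0, 0⟩, ⟨0, 0⟩, ⟨0, 1⟩; ⟨1, 1⟩, ⟨2, 2⟩, ⟨0, 0⟩; ⟨2, 2⟩, ⟨2, 2⟩, ⟨0, 0⟩]]

/-- A class invariant. -/
def cinv (M : Matrix (Fin 3) (Fin 3) K9) : K9 × Bool × Bool × Bool :=
  (M.trace, decide (M * M = 1), decide (M * M * (M * M) = 1), decide ((M - 1) * (M - 1) = 0))

theorem reps_good : ∀ M ∈ reps, IsGood M := by
  simp only [reps, List.forall_mem_cons]
  refine ⟨?_, ?_, ?_, ?_, ?_, ?_, ?_, ?_, ?_, ?_, ?_, ?_, ?_, ?_, ?_⟩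
  on_goal 15 => exact fun _ h => absurd h List.not_mem_nil
  all_goals decide +kernel

theorem reps_nodup : (reps.map cinv).Nodup := by decide +kernel

theorem cinv_conj {M N C C' : Matrix (Fin 3) (Fin 3) K9} (h : N = C * M * C') (h1 : C' * C = 1) :
    cinv N = cinv M := by
  have h2 : C * C' = 1 := mul_eq_one_comm.1 h1
  have e1 : N * N = C * (M * M) * C' := by
    rw [h]
    calc C * M * C' * (C * M * C') = C * M * (C' * C) * M * C' := by simp only [mul_assoc]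
      _ = C * (M * M) * C' := by rw [h1, mul_one]; simp only [mul_assoc]
  have e2 : N * N * (N * N) = C * (M * M * (M * M)) * C' := by
    rw [e1]
    calc C * (M * M) * C' * (C * (M * M) * C') = C * (M * M) * (C' * C) * (M * M) * C' := by
          simp only [mul_assoc]
      _ = C * (M * M * (M * M)) * C' := by rw [h1, mul_one]; simp only [mul_assoc]
  have e3 : N - 1 = C * (M - 1) * C' := by
    rw [mul_sub, sub_mul, mul_one, h2, h]
  have e4 : (N - 1) * (N - 1) = C * ((M - 1) * (M - 1)) * C' := by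
    rw [e3]
    calc C * (M - 1) * C' * (C * (M - 1) * C') = C * (M - 1) * (C' * C) * (M - 1) * C' := by
          simp only [mul_assoc]
      _ = C * ((M - 1) * (M - 1)) * C' := by rw [h1, mul_one]; simp only [mul_assoc]
  have key : ∀ X Y : Matrix (Fin 3) (Fin 3) K9, C * X * C' = C * Y * C' ↔ X = Y := by
    intro X Y
    constructor
    · intro h3
      have h4 : C' * (C * X * C') * C = C' * (C * Y * C') * C := by rw [h3]
      have h5 : ∀ X : Matrix (Fin 3) (Fin 3) K9, C' * (C * X * C') * C = X := by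
        intro X
        calc C' * (C * X * C') * C = (C' * C) * X * (C' * C) := by simp only [mul_assoc]
          _ = X := by rw [h1, mul_one, one_mul]
      rwa [h5, h5] at h4
    · rintro rfl; rfl
  have one' : (1 : Matrix (Fin 3) (Fin 3) K9) = C * 1 * C' := by rw [mul_one, h2]
  have zero' : (0 : Matrix (Fin 3) (Fin 3) K9) = C * 0 * C' := by rw [mul_zero, zero_mul]
  have t1 : N.trace = M.trace := by
    rw [h, Matrix.trace_mul_comm, ← mul_assoc, h1, one_mul]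
  have t2 : (N * N = 1) ↔ (M * M = 1) := by
    rw [e1]; nth_rewrite 1 [one']; exact key _ _
  have t3 : (N * N * (N * N) = 1) ↔ (M * M * (M * M) = 1) := by
    rw [e2]; nth_rewrite 1 [one']; exact key _ _
  have t4 : ((N - 1) * (N - 1) = 0) ↔ ((M - 1) * (M - 1) = 0) := by
    rw [e4]; nth_rewrite 1 [zero']; exact key _ _
  rw [cinv, cinv, t1, decide_eq_decide.2 t2, decide_eq_decide.2 t3, decide_eq_decide.2 t4]

theorem cinv_isConj {x y : Cfsg.SU 3 K9 3} (h : IsConj x y) : cinv (mt y) = cinv (mt x) := by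
  obtain ⟨c, rfl⟩ := isConj_iff.1 h
  refine cinv_conj (C := mt c) (C' := mt c⁻¹) ?_ ?_
  · rw [mt_mul, mt_mul]
  · rw [← mt_mul, inv_mul_cancel]
    rfl

/-- `SU₃(3)` has at least 14 conjugacy classes. -/
theorem fourteen_le : 14 ≤ Nat.card (ConjClasses (Cfsg.SU 3 K9 3)) := by
  classical
  let f : ConjClasses (Cfsg.SU 3 K9 3) → K9 × Bool × Bool × Bool :=
    Quotient.lift (fun x => cinv (mt x)) fun a b h => (cinv_isConj h).symm
  have h1 : ((reps.map cinv).toFinset : Set (K9 × Bool × Bool × Bool)) ⊆ Set.range f := by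
    intro z hz
    rw [Finset.mem_coe, List.mem_toFinset, List.mem_map] at hz
    obtain ⟨M, hM, rfl⟩ := hz
    exact ⟨ConjClasses.mk (reps_good M hM).su, rfl⟩
  have h2 : ((reps.map cinv).toFinset : Set (K9 × Bool × Bool × Bool)).ncard = 14 := by
    rw [Set.ncard_coe_finset, List.toFinset_card_of_nodup reps_nodup]
    rfl
  have h3 : (Set.range f).ncard ≤ Nat.card (ConjClasses (Cfsg.SU 3 K9 3)) := by
    rw [← Set.image_univ, ← Set.ncard_univ]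
    exact Set.ncard_image_le (Set.toFinite _)
  rw [← h2]
  exact (Set.ncard_le_ncard h1 (Set.toFinite _)).trans h3

end Cfsg.Agent.H424.U33Classes
end
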