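import Mathlib
import Cfsg.Agent.H906.E9C
import Cfsg.Agent.H906.SL2Real
import Cfsg.Agent.H906.Cover_m3
import Cfsg.Agent.ClassicalGeometry.GUBasic
import Cfsg.Agent.S2088
import Cfsg.Agent.H218.SdDC
import Cfsg.Agent.H879.Nine.Ctx_m3
import Cfsg.Agent.H925.U52Form
import Cfsg.Agent.H887.DS.SixFive
import Cfsg.Agent.H905.MdP
import Cfsg.Agent.H927.LDTwF4
import Cfsg.Agent.H614.AMod.Main
import Cfsg.Agent.H614.AMod.EightF_m3
import Cfsg.Agent.H6.M11.Lin
import Mathlib.GroupTheory.SpecificGroups.Alternating.Centralizer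
import Mathlib.GroupTheory.Perm.Cycle.Concrete
import Cfsg.Agent.H936.List12c
import Cfsg.Agent.H937.T2Rep_m3
import Cfsg.Agent.H637.A7Main
import Cfsg.Agent.H464.L2StageOne_m3
import Cfsg.Agent.H936.U33All
import Cfsg.Agent.H936.U33Two
import Cfsg.Agent.H36.U52.Main
import Cfsg.Agent.H916.T8
import Cfsg.Agent.H814.SzEightCore
import Cfsg.Agent.H6.M11.Main11
import Cfsg.Agent.H4.LDM.Stage24
import Cfsg.Agent.H1.TJ1
import Cfsg.Agent.H1.TJ2
import Cfsg.Agent.H175.LD.Core33
import Cfsg.Agent.H6.M11.StageCover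
import Cfsg.Agent.H48.M12Three
import Cfsg.Agent.H24.M12.Main
import Cfsg.Agent.H921.M22.Final_m3
import Cfsg.Agent.H95.JT.Core
import Cfsg.Agent.H878.Sz.MainThree
import Cfsg.Agent.H878.Sz.MainP3
import Cfsg.Agent.H806.LsFiLe
import Cfsg.Agent.H876.D3.Main5_m3
import Cfsg.Agent.H937.G24.Row
import Cfsg.Agent.H13.M22.Twelve
import Cfsg.Agent.H908.CovFour
import Cfsg.Agent.FastGrp
import Cfsg.Agent.Prune
set_option linter.all false

section
prune_inst 0x7ffea9fbabf839dfdfff7e7fa69ecdfc39919fffa6dff94bffe069ff8bdf030209c56bad8de010fe1eb6c21410a87813f9ffceffe86bd87ffffd1ff41ffbee0ff5f7b508519488340fbc0ffe03f0778e7f3fffffffffffffffffffffffffffbeffbfffffffff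

-- part: H924/L34Wrap
section
prune_inst 0x100001000c00000000000000002000000000000000000000000002000301000000000000020000040000000100000040010000000040000004000000000000000000000000400000000010000000000000000000000000000000000000000000000000000
set_option linter.all false
open scoped Cfsg.Agent.FastGrp

-- part: H924/L34Joint
section
/-!
# Commuting involutions in dimension eight (helper924)
-/

set_option autoImplicit false

namespace Cfsg.Agent.H924.L34

open Module Matrix Polynomial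

theorem exists_joint {k V A : Type*} [Field k] [AddCommGroup V] [Module k V] [FiniteDimensional k V]
    (h2 : (2 : k) ≠ 0) (f : A → Module.End k V) (hcomm : ∀ a b, f a * f b = f b * f a) (hsq : ∀ a, f a * f a = 1)
    {κ : Type*} [Fintype κ] (hκ : Fintype.card κ = finrank k V) :
    ∃ (v : Basis κ k V) (χ : κ → A → k), ∀ i a, f a (v i) = χ i a • v i := by
  classical
  have hcomm' : ∀ i j, Commute (f i) (f j) := fun i j => hcomm i j
  have hss : ∀ i, Module.End.IsSemisimple (f i) := fun i => by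
    refine Module.End.isSemisimple_of_squarefree_aeval_eq_zero (p := Polynomial.X ^ 2 - 1) ?_ ?_
    · have h := Polynomial.separable_X_pow_sub_C (n := 2) (1 : k) (by exact_mod_cast h2) one_ne_zero
      rw [map_one] at h
      exact h.squarefree
    · have : f i ^ 2 = 1 := by rw [pow_two, hsq]
      simp [this]
  have heq : ∀ i μ, (f i).maxGenEigenspace μ = (f i).eigenspace μ := fun i μ =>
    (hss i).isFinitelySemisimple.maxGenEigenspace_eq_eigenspace μ
  have htop1 : ∀ i, ⨆ μ, (f i).eigenspace μ = ⊤ := by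
    intro i
    rw [eq_top_iff]
    intro v _
    have h1 : v = (2 : k)⁻¹ • (v + f i v) + (2 : k)⁻¹ • (v - f i v) := by
      rw [← smul_add, add_add_sub_cancel, ← two_smul k v, smul_smul, inv_mul_cancel₀ h2, one_smul]
    have hff : f i (f i v) = v := by
      have := LinearMap.congr_fun (hsq i) v
      exact this
    rw [h1]
    apply Submodule.add_mem
    · apply Submodule.mem_iSup_of_mem 1
      apply Submodule.smul_mem
      rw [Module.End.mem_eigenspace_iff, map_add, hff, one_smul, add_comm]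
    · apply Submodule.mem_iSup_of_mem (-1)
      apply Submodule.smul_mem
      rw [Module.End.mem_eigenspace_iff, map_sub, hff, neg_one_smul, neg_sub]
  have htop := Module.End.iSup_iInf_maxGenEigenspace_eq_top_of_iSup_maxGenEigenspace_eq_top_of_commute f
    (fun i j _ => hcomm' i j) (fun i => by
      simp only [heq]
      exact htop1 i)
  have hind := Module.End.independent_iInf_maxGenEigenspace_of_forall_mapsTo f
    (fun i j φ => Module.End.mapsTo_maxGenEigenspace_of_comm (hcomm' j i) φ)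
  have hint : DirectSum.IsInternal (fun χ : A → k => ⨅ i, (f i).maxGenEigenspace (χ i)) :=
    (DirectSum.isInternal_submodule_iff_iSupIndep_and_iSup_eq_top _).2 ⟨hind, htop⟩
  let b0 := hint.collectedBasis (fun χ => Module.Free.chooseBasis k
    ((⨅ i, (f i).maxGenEigenspace (χ i) : Submodule k V)))
  have hfin := Module.Finite.finite_basis b0
  obtain ⟨_⟩ := nonempty_fintype (Σ χ : A → k, Module.Free.ChooseBasisIndex k
    (⨅ i, (f i).maxGenEigenspace (χ i) : Submodule k V))
  have hcard := (Module.finrank_eq_card_basis b0).symm.trans hκ.symm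
  let e := Fintype.equivOfCardEq hcard
  refine ⟨b0.reindex e, fun i => (e.symm i).1, fun i y => ?_⟩
  rw [Basis.reindex_apply]
  have hmem := hint.collectedBasis_mem (fun χ => Module.Free.chooseBasis k
    ((⨅ i, (f i).maxGenEigenspace (χ i) : Submodule k V))) (e.symm i)
  have h2 := (Submodule.mem_iInf _).1 hmem y
  rw [heq] at h2
  exact Module.End.mem_eigenspace_iff.1 h2

/-- the eigenvalue multiset of a diagonalisable matrix -/
theorem charpoly_of_eig {k : Type*} [Field k] {n : ℕ} (Y : Matrix (Fin n) (Fin n) k)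
    (v : Basis (Fin n) k (Fin n → k)) (l : Fin n → k) (h : ∀ i, Y *ᵥ v i = l i • v i) :
    Y.charpoly = ∏ i, (X - C (l i)) := by
  have h1 : LinearMap.toMatrix v v (Matrix.toLin' Y) = Matrix.diagonal l := by
    ext i j
    rw [LinearMap.toMatrix_apply, Matrix.toLin'_apply, h, map_smul, Basis.repr_self, Finsupp.smul_apply,
      Finsupp.single_apply, smul_eq_mul, Matrix.diagonal_apply]
    by_cases hij : i = j
    · subst hij; simp
    · rw [if_neg (Ne.symm hij), if_neg hij, mul_zero]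
  have h2 : (Matrix.toLin' Y).charpoly = (Matrix.diagonal l).charpoly := by
    rw [← h1, LinearMap.charpoly_toMatrix]
  have h3 : (Matrix.toLin' Y).charpoly = Y.charpoly := by
    rw [← LinearMap.charpoly_toMatrix (Matrix.toLin' Y) (Pi.basisFun k (Fin n))]
    congr 1
    exact LinearMap.toMatrix'_toLin' Y
  rw [← h3, h2, Matrix.charpoly_diagonal]

/-- numbers of eigenvalues `1` of conjugate diagonalisable matrices -/
theorem count_eq {k : Type*} [Field k] [DecidableEq k] {n : ℕ} {Y Y' : Matrix (Fin n) (Fin n) k}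
    {v v' : Basis (Fin n) k (Fin n → k)} {l l' : Fin n → k} (h : ∀ i, Y *ᵥ v i = l i • v i)
    (h' : ∀ i, Y' *ᵥ v' i = l' i • v' i) (g : GL (Fin n) k)
    (hg : Y' = (g : Matrix (Fin n) (Fin n) k) * Y * ((g⁻¹ : GL (Fin n) k) : Matrix (Fin n) (Fin n) k)) (t : k) :
    (Finset.univ.filter fun i => l i = t).card = (Finset.univ.filter fun i => l' i = t).card := by
  have h1 := charpoly_of_eig Y v l h
  have h2 := charpoly_of_eig Y' v' l' h'
  have h3 : Y'.charpoly = Y.charpoly := by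
    rw [hg, Matrix.coe_units_inv]
    exact Matrix.charpoly_units_conj g Y
  rw [h1, h2] at h3
  have key : ∀ l : Fin n → k, (∏ i, (X - C (l i))).roots.count t = (Finset.univ.filter fun i => l i = t).card := by
    intro l
    have h5 : (∏ i, (X - C (l i))).roots = Finset.univ.val.map l := by
      have := Polynomial.roots_multiset_prod_X_sub_C (Finset.univ.val.map l)
      rw [Multiset.map_map] at this
      exact this
    rw [h5, Multiset.count_map, Finset.card_def, Finset.filter_val]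
    congr 2
    funext i
    exact propext eq_comm
  rw [← key, ← key, h3]

/-- a sign character of a group of order sixteen has kernel of order eight or sixteen -/
theorem eight_dvd_count {k : Type*} [Field k] [DecidableEq k] (h2 : (2 : k) ≠ 0) {E : Type*} [Group E] [Fintype E]
    (hE : Fintype.card E = 16) (ψ : E → k) (hm : ∀ a b, ψ (a * b) = ψ a * ψ b) (hs : ∀ a, ψ a = 1 ∨ ψ a = -1) :
    8 ∣ (Finset.univ.filter fun a => ψ a = 1).card := by
  classical
  have h11 : (-1 : k) ≠ 1 := by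
    intro h
    apply h2
    linear_combination -h
  by_cases hc : ∃ a0, ψ a0 = -1
  · obtain ⟨a0, ha0⟩ := hc
    have h3 : (Finset.univ.filter fun a => ψ a = 1).card = (Finset.univ.filter fun a => ¬ ψ a = 1).card := by
      apply Finset.card_bij (fun a _ => a * a0)
      · intro a ha
        rw [Finset.mem_filter] at ha ⊢
        refine ⟨Finset.mem_univ _, ?_⟩
        rw [hm, ha.2, ha0, one_mul]
        exact h11
      · intro a _ b _ hab
        exact mul_right_cancel hab
      · intro b hb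
        rw [Finset.mem_filter] at hb
        refine ⟨b * a0⁻¹, ?_, by rw [inv_mul_cancel_right]⟩
        rw [Finset.mem_filter]
        refine ⟨Finset.mem_univ _, ?_⟩
        have h4 : ψ b = ψ (b * a0⁻¹) * ψ a0 := by rw [← hm, inv_mul_cancel_right]
        rw [(hs b).resolve_left hb.2, ha0] at h4
        linear_combination h4
    have h4 := Finset.card_filter_add_card_filter_not (s := (Finset.univ : Finset E)) (fun a => ψ a = 1)
    rw [Finset.card_univ, hE] at h4
    omega
  · push Not at hc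
    have h3 : (Finset.univ.filter fun a => ψ a = 1) = Finset.univ := by
      ext a
      simp only [Finset.mem_filter, Finset.mem_univ, true_and, iff_true]
      exact (hs a).resolve_right (hc a)
    rw [h3, Finset.card_univ, hE]
    norm_num

/-- There is no elementary abelian group of order sixteen of commuting involutions, conjugate up to sign, in
dimension eight. -/
theorem no_commuting {k : Type*} [Field k] (h2 : (2 : k) ≠ 0) {E : Type*} [Group E] [Fintype E]
    (hE : Fintype.card E = 16) (y : E → Matrix (Fin 8) (Fin 8) k) (hcomm : ∀ a b, y a * y b = y b * y a)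
    (hsq : ∀ a, y a * y a = 1) (hmul : ∀ a b, ∃ c : k, y (a * b) = c • (y a * y b))
    (hcj : ∀ a b, a ≠ 1 → b ≠ 1 → ∃ (g : GL (Fin 8) k) (c : k),
      y b = c • ((g : Matrix (Fin 8) (Fin 8) k) * y a * ((g⁻¹ : GL (Fin 8) k) : Matrix (Fin 8) (Fin 8) k)))
    (hns : ∀ a, a ≠ 1 → ∀ c : k, y a ≠ c • 1) : False := by
  classical
  have h11 : (-1 : k) ≠ 1 := by
    intro h
    apply h2
    linear_combination -h
  obtain ⟨v, χ, hχ⟩ := exists_joint h2 (fun a => Matrix.toLin' (y a))
    (fun a b => by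
      change Matrix.toLin' (y a) ∘ₗ Matrix.toLin' (y b) = Matrix.toLin' (y b) ∘ₗ Matrix.toLin' (y a)
      rw [← Matrix.toLin'_mul, ← Matrix.toLin'_mul, hcomm])
    (fun a => by
      change Matrix.toLin' (y a) ∘ₗ Matrix.toLin' (y a) = 1
      rw [← Matrix.toLin'_mul, hsq, Matrix.toLin'_one]; rfl) (κ := Fin 8) (by simp)
  have hχ' : ∀ i a, y a *ᵥ v i = χ i a • v i := fun i a => hχ i a
  have hχ2 : ∀ i a, χ i a * χ i a = 1 := by
    intro i a
    have h3 : (y a * y a) *ᵥ v i = (χ i a * χ i a) • v i := by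
      rw [← Matrix.mulVec_mulVec, hχ', Matrix.mulVec_smul, hχ', smul_smul]
    rw [hsq, Matrix.one_mulVec] at h3
    have h4 : (1 - χ i a * χ i a) • v i = 0 := by rw [sub_smul, one_smul, ← h3, sub_self]
    rcases smul_eq_zero.1 h4 with h5 | h5
    · linear_combination -h5
    · exact absurd h5 (v.ne_zero i)
  -- twist by the first character
  set ψ : Fin 8 → E → k := fun i a => χ i a * χ 0 a with hψ
  have hψs : ∀ i a, ψ i a = 1 ∨ ψ i a = -1 := by
    intro i a
    apply mul_self_eq_one_iff.1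
    rw [hψ]
    linear_combination (χ 0 a * χ 0 a) * hχ2 i a + hχ2 0 a
  have hψm : ∀ i a b, ψ i (a * b) = ψ i a * ψ i b := by
    intro i a b
    obtain ⟨c, hc⟩ := hmul a b
    have h3 : ∀ j, χ j (a * b) = c * (χ j a * χ j b) := by
      intro j
      have h4 : y (a * b) *ᵥ v j = (c * (χ j a * χ j b)) • v j := by
        rw [hc, Matrix.smul_mulVec, ← Matrix.mulVec_mulVec, hχ', Matrix.mulVec_smul, hχ', smul_smul, smul_smul]
        congr 1
        ring
      rw [hχ'] at h4
      have h5 : (χ j (a * b) - c * (χ j a * χ j b)) • v j = 0 := by rw [sub_smul, h4, sub_self]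
      rcases smul_eq_zero.1 h5 with h6 | h6
      · exact sub_eq_zero.1 h6
      · exact absurd h6 (v.ne_zero j)
    have h4 : c * c = 1 := by
      have h5 := hχ2 0 (a * b)
      rw [h3] at h5
      linear_combination h5 - (c * c * (χ 0 b * χ 0 b)) * hχ2 0 a - c * c * hχ2 0 b
    change χ i (a * b) * χ 0 (a * b) = χ i a * χ 0 a * (χ i b * χ 0 b)
    rw [h3, h3]
    linear_combination (χ i a * χ i b * χ 0 a * χ 0 b) * h4
  -- the twisted matrices
  set w : E → Matrix (Fin 8) (Fin 8) k := fun a => χ 0 a • y a with hw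
  have hwv : ∀ a i, w a *ᵥ v i = ψ i a • v i := by
    intro a i
    rw [hw]
    change (χ 0 a • y a) *ᵥ v i = (χ i a * χ 0 a) • v i
    rw [Matrix.smul_mulVec, hχ', smul_smul, mul_comm]
  set r : E → ℕ := fun a => (Finset.univ.filter fun i => ψ i a = 1).card with hr
  have hψ0 : ∀ a, ψ 0 a = 1 := fun a => hχ2 0 a
  have hr1 : r 1 = 8 := by
    have h3 : ∀ i, ψ i 1 = 1 := by
      intro i
      have h4 := hψm i 1 1
      rw [mul_one] at h4
      rcases hψs i 1 with h5 | h5
      · exact h5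
      · rw [h5] at h4
        exfalso
        apply h11
        linear_combination h4
    rw [hr]
    change (Finset.univ.filter fun i => ψ i 1 = 1).card = 8
    rw [Finset.filter_true_of_mem (fun i _ => h3 i), Finset.card_univ, Fintype.card_fin]
  have hrpos : ∀ a, 1 ≤ r a := by
    intro a
    apply Finset.card_pos.2
    exact ⟨0, by simp [hψ0]⟩
  have hrlt : ∀ a, a ≠ 1 → r a ≤ 7 := by
    intro a ha
    by_contra hcon
    have h3 : (Finset.univ.filter fun i => ψ i a = 1).card = (Finset.univ : Finset (Fin 8)).card := by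
      apply le_antisymm (Finset.card_le_card (Finset.filter_subset _ _))
      rw [Finset.card_univ, Fintype.card_fin]
      change 8 ≤ r a
      omega
    have h4 : ∀ i, ψ i a = 1 := by
      intro i
      exact (Finset.card_filter_eq_iff.1 h3) i (Finset.mem_univ i)
    apply hns a ha (χ 0 a)
    have h5 : w a = 1 := by
      apply Matrix.toLin'.injective
      apply v.ext
      intro i
      rw [Matrix.toLin'_apply, Matrix.toLin'_apply, hwv, h4, one_smul, Matrix.one_mulVec]
    have h6 : y a = χ 0 a • w a := by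
      rw [hw]
      change y a = χ 0 a • (χ 0 a • y a)
      rw [smul_smul, hχ2, one_smul]
    rw [h6, h5]
  have hcmp : ∀ a b, a ≠ 1 → b ≠ 1 → r b = r a ∨ r b + r a = 8 := by
    intro a b ha hb
    obtain ⟨g, c, hg⟩ := hcj a b ha hb
    -- `w b = c' g w a g⁻¹`
    set c' : k := c * χ 0 a * χ 0 b with hc'
    have h3 : w b = (g : Matrix (Fin 8) (Fin 8) k) * (c' • w a) * ((g⁻¹ : GL (Fin 8) k) : Matrix (Fin 8) (Fin 8) k) := by
      rw [hw]
      change χ 0 b • y b = _ * (c' • χ 0 a • y a) * _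
      rw [hg, smul_smul, mul_smul_comm, mul_smul_comm, smul_mul_assoc, smul_mul_assoc, smul_smul, hc']
      congr 1
      linear_combination (-c * χ 0 b) * hχ2 0 a
    have hgg : ((g⁻¹ : GL (Fin 8) k) : Matrix (Fin 8) (Fin 8) k) * (g : Matrix (Fin 8) (Fin 8) k) = 1 := by
      rw [← Units.val_mul, inv_mul_cancel, Units.val_one]
    have hgg' : (g : Matrix (Fin 8) (Fin 8) k) * ((g⁻¹ : GL (Fin 8) k) : Matrix (Fin 8) (Fin 8) k) = 1 := by
      rw [← Units.val_mul, mul_inv_cancel, Units.val_one]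
    have hw2 : ∀ a, w a * w a = 1 := by
      intro a
      change (χ 0 a • y a) * (χ 0 a • y a) = 1
      rw [smul_mul_smul_comm, hsq, hχ2, one_smul]
    have h4 : c' * c' = 1 := by
      have h5 : w b * w b = (c' * c') • (1 : Matrix (Fin 8) (Fin 8) k) := by
        rw [h3]
        calc (g : Matrix (Fin 8) (Fin 8) k) * (c' • w a) * ((g⁻¹ : GL (Fin 8) k) : Matrix (Fin 8) (Fin 8) k) *
              ((g : Matrix (Fin 8) (Fin 8) k) * (c' • w a) * ((g⁻¹ : GL (Fin 8) k) : Matrix (Fin 8) (Fin 8) k))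
            = (g : Matrix (Fin 8) (Fin 8) k) * (c' • w a) * (((g⁻¹ : GL (Fin 8) k) : Matrix (Fin 8) (Fin 8) k) *
              (g : Matrix (Fin 8) (Fin 8) k)) * (c' • w a) * ((g⁻¹ : GL (Fin 8) k) : Matrix (Fin 8) (Fin 8) k) := by
              simp only [mul_assoc]
          _ = _ := by
            rw [hgg, mul_one, mul_assoc (g : Matrix (Fin 8) (Fin 8) k), smul_mul_smul_comm, hw2, mul_smul_comm,
              smul_mul_assoc, mul_one, hgg']
      rw [hw2] at h5
      have h6 := congrFun (congrFun h5 0) 0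
      rw [Matrix.one_apply_eq, Matrix.smul_apply, Matrix.one_apply_eq, smul_eq_mul, mul_one] at h6
      exact h6.symm
    have h5 : ∀ i, (c' • w a) *ᵥ v i = (c' * ψ i a) • v i := by
      intro i
      rw [Matrix.smul_mulVec, hwv, smul_smul]
    have h6 := count_eq (l := fun i => c' * ψ i a) (l' := fun i => ψ i b) h5 (hwv b) g h3 1
    rcases mul_self_eq_one_iff.1 h4 with h7 | h7
    · left
      rw [h7] at h6
      simp only [one_mul] at h6
      exact h6.symm
    · right
      rw [h7] at h6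
      have h8 : (Finset.univ.filter fun i => -1 * ψ i a = 1) = Finset.univ.filter fun i => ¬ ψ i a = 1 := by
        ext i
        simp only [Finset.mem_filter, Finset.mem_univ, true_and]
        constructor
        · intro h9 h10
          rw [h10, mul_one] at h9
          exact h11 h9
        · intro h9
          rw [(hψs i a).resolve_left h9]
          ring
      rw [h8] at h6
      have h9 := Finset.card_filter_add_card_filter_not (s := (Finset.univ : Finset (Fin 8))) (fun i => ψ i a = 1)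
      rw [Finset.card_univ, Fintype.card_fin] at h9
      change r b + r a = 8
      change (Finset.univ.filter fun i => ψ i a = 1).card + _ = 8 at h9
      rw [h6] at h9
      rw [add_comm]
      exact h9
  -- count
  have hsum : 8 ∣ ∑ a : E, r a := by
    have h3 : ∑ a : E, r a = ∑ i : Fin 8, (Finset.univ.filter fun a => ψ i a = 1).card := by
      rw [hr]
      simp only [Finset.card_filter]
      exact Finset.sum_comm
    rw [h3]
    apply Finset.dvd_sum
    intro i _
    exact eight_dvd_count h2 hE (ψ i) (hψm i) (hψs i)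
  have hne : ∃ a0 : E, a0 ≠ 1 := by
    by_contra hcon
    push Not at hcon
    have : Fintype.card E ≤ 1 := Fintype.card_le_one_iff.2 fun a b => by rw [hcon a, hcon b]
    omega
  obtain ⟨a0, ha0⟩ := hne
  have h3 : ∑ a : E, r a = 8 + ∑ a ∈ Finset.univ.erase (1 : E), r a := by
    rw [← Finset.add_sum_erase _ _ (Finset.mem_univ (1 : E)), hr1]
  set M := ((Finset.univ.erase (1 : E)).filter fun a => ¬ r a = r a0).card with hM
  have h4 : ∑ a ∈ Finset.univ.erase (1 : E), r a = (15 - M) * r a0 + M * (8 - r a0) := by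
    rw [← Finset.sum_filter_add_sum_filter_not (Finset.univ.erase (1 : E)) (fun a => r a = r a0)]
    congr 1
    · rw [Finset.sum_congr rfl (g := fun _ => r a0) (by
        intro a ha
        exact (Finset.mem_filter.1 ha).2), Finset.sum_const, smul_eq_mul]
      congr 1
      have h5 := Finset.card_filter_add_card_filter_not (s := Finset.univ.erase (1 : E)) (fun a => r a = r a0)
      rw [Finset.card_erase_of_mem (Finset.mem_univ _), Finset.card_univ, hE] at h5
      omega
    · rw [Finset.sum_congr rfl (g := fun _ => 8 - r a0) (by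
        intro a ha
        have h5 := Finset.mem_filter.1 ha
        have h6 := hcmp a0 a ha0 (Finset.mem_erase.1 h5.1).1
        have h7 := h6.resolve_left h5.2
        omega), Finset.sum_const, smul_eq_mul]
  have hM15 : M ≤ 15 := by
    have h5 := Finset.card_filter_le (Finset.univ.erase (1 : E)) (fun a => ¬ r a = r a0)
    rw [Finset.card_erase_of_mem (Finset.mem_univ _), Finset.card_univ, hE] at h5
    exact h5
  rw [h3, h4] at hsum
  have h5 := hrpos a0
  have h6 := hrlt a0 ha0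
  clear_value M
  generalize r a0 = R at *
  interval_cases R <;> (clear * - hM15 hsum; omega)

end Cfsg.Agent.H924.L34
end

-- part: H924/L34Rep
section
/-!
# Projective representations of degree eight (helper924)

`PR ρ π` : `ρ : Λ → M₈(k)` and `π : Λ ↠ X`, with `ρ g` scalar if `π g = 1`, `π g` central if `ρ g` is scalar, and
`ρ(Λ)` spans.  `PR.cj : X → End M₈(k)` is the conjugation action.
-/

set_option autoImplicit false

namespace Cfsg.Agent.H924.L34

open Module Matrix

abbrev M8 (k : Type*) := Matrix (Fin 8) (Fin 8) k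

variable {k : Type*} [Field k] {Λ X : Type*} [Group Λ] [Group X]

structure PR (ρ : Λ →* M8 k) (π : Λ →* X) : Prop where
  surj : Function.Surjective π
  scal : ∀ g, π g = 1 → ∃ c : k, ρ g = c • (1 : M8 k)
  cent : ∀ g, (∃ c : k, ρ g = c • (1 : M8 k)) → π g ∈ Subgroup.center X
  span : Submodule.span k (Set.range ρ) = ⊤

theorem mul_inv' (ρ : Λ →* M8 k) (g : Λ) : ρ g * ρ g⁻¹ = 1 := by rw [← map_mul, mul_inv_cancel, map_one]

theorem inv_mul' (ρ : Λ →* M8 k) (g : Λ) : ρ g⁻¹ * ρ g = 1 := by rw [← map_mul, inv_mul_cancel, map_one]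

theorem smul_one_inj {c d : k} (h : c • (1 : M8 k) = d • (1 : M8 k)) : c = d := by
  have := congrFun (congrFun h 0) 0
  simpa using this

variable {ρ : Λ →* M8 k} {π : Λ →* X}

namespace PR

variable (h : PR ρ π)

include h

theorem scal' {g : Λ} (hg : π g = 1) : ∃ c : k, c ≠ 0 ∧ ρ g = c • (1 : M8 k) := by
  obtain ⟨c, hc⟩ := h.scal g hg
  refine ⟨c, ?_, hc⟩
  rintro rfl
  rw [zero_smul] at hc
  have h1 := mul_inv' ρ g
  rw [hc, zero_mul] at h1
  exact zero_ne_one h1

theorem smul_of_eq {g g' : Λ} (hg : π g = π g') : ∃ c : k, c ≠ 0 ∧ ρ g' = c • ρ g := by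
  obtain ⟨c, hc0, hc⟩ := h.scal' (g := g' * g⁻¹) (by rw [map_mul, map_inv, hg, mul_inv_cancel])
  refine ⟨c, hc0, ?_⟩
  have h1 : ρ g' = ρ (g' * g⁻¹) * ρ g := by rw [← map_mul, inv_mul_cancel_right]
  rw [h1, hc, smul_mul_assoc, one_mul]

theorem comm_smul {g g' : Λ} (hg : π g * π g' = π g' * π g) : ∃ c : k, c ≠ 0 ∧ ρ g * ρ g' = c • (ρ g' * ρ g) := by
  obtain ⟨c, hc0, hc⟩ := h.smul_of_eq (g := g' * g) (g' := g * g') (by rw [map_mul, map_mul, hg])
  exact ⟨c, hc0, by rw [← map_mul, ← map_mul, hc]⟩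

theorem comm_or_anti {g g' : Λ} (hg : π g * π g' = π g' * π g) (h2 : π g * π g = 1) :
    ρ g * ρ g' = ρ g' * ρ g ∨ ρ g * ρ g' = -(ρ g' * ρ g) := by
  obtain ⟨c, hc0, hc⟩ := h.comm_smul hg
  obtain ⟨d, hd0, hd⟩ := h.scal' (g := g * g) (by rw [map_mul, h2])
  rw [map_mul] at hd
  have h3 : (ρ g * ρ g) * ρ g' = (c * c) • (ρ g' * (ρ g * ρ g)) := by
    rw [mul_assoc, hc, mul_smul_comm, ← mul_assoc, hc, smul_mul_assoc, smul_smul, mul_assoc]
  rw [hd, smul_mul_assoc, one_mul, mul_smul_comm, mul_one, smul_smul] at h3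
  have h4 : (d - c * c * d) • ρ g' = 0 := by rw [sub_smul, ← h3, sub_self]
  have h5 : d - c * c * d = 0 := by
    rcases smul_eq_zero.1 h4 with h6 | h6
    · exact h6
    · exfalso
      have h7 := mul_inv' ρ g'
      rw [h6, zero_mul] at h7
      exact zero_ne_one h7
  have h6 : c * c = 1 := by
    have : (c * c - 1) * d = 0 := by linear_combination -h5
    rcases mul_eq_zero.1 this with h7 | h7
    · linear_combination h7
    · exact absurd h7 hd0
  rcases mul_self_eq_one_iff.1 h6 with h7 | h7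
  · left; rw [hc, h7, one_smul]
  · right; rw [hc, h7, neg_one_smul]

theorem conj_eq {g g' : Λ} (hg : π g = π g') (A : M8 k) : ρ g * A * ρ g⁻¹ = ρ g' * A * ρ g'⁻¹ := by
  obtain ⟨c, hc0, hc⟩ := h.smul_of_eq hg
  have h1 : ρ g'⁻¹ = c⁻¹ • ρ g⁻¹ := by
    have h2 : ρ g'⁻¹ * ρ g' * ρ g⁻¹ = ρ g⁻¹ := by rw [inv_mul', one_mul]
    rw [hc, mul_smul_comm, smul_mul_assoc, mul_assoc, mul_inv', mul_one] at h2
    rw [← h2, smul_smul, inv_mul_cancel₀ hc0, one_smul]
  rw [hc, h1, smul_mul_assoc, smul_mul_assoc, mul_smul_comm, smul_smul, mul_inv_cancel₀ hc0, one_smul]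

/-- the conjugation action -/
noncomputable def cj : X →* Module.End k (M8 k) where
  toFun x :=
    { toFun := fun A => ρ (Function.surjInv h.surj x) * A * ρ (Function.surjInv h.surj x)⁻¹
      map_add' := fun A B => by rw [mul_add, add_mul]
      map_smul' := fun c A => by rw [mul_smul_comm, smul_mul_assoc]; rfl }
  map_one' := by
    apply LinearMap.ext
    intro A
    change ρ (Function.surjInv h.surj 1) * A * ρ (Function.surjInv h.surj 1)⁻¹ = A
    rw [h.conj_eq (g' := 1) (by rw [Function.surjInv_eq h.surj, map_one]), inv_one, map_one, one_mul, mul_one]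
  map_mul' x y := by
    apply LinearMap.ext
    intro A
    change ρ (Function.surjInv h.surj (x * y)) * A * ρ (Function.surjInv h.surj (x * y))⁻¹ =
      ρ (Function.surjInv h.surj x) * (ρ (Function.surjInv h.surj y) * A * ρ (Function.surjInv h.surj y)⁻¹) *
        ρ (Function.surjInv h.surj x)⁻¹
    rw [h.conj_eq (g' := Function.surjInv h.surj x * Function.surjInv h.surj y) (by
      rw [Function.surjInv_eq h.surj, map_mul, Function.surjInv_eq h.surj, Function.surjInv_eq h.surj]),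
      _root_.mul_inv_rev, map_mul, map_mul]
    simp only [mul_assoc]

theorem cj_apply (g : Λ) (A : M8 k) : h.cj (π g) A = ρ g * A * ρ g⁻¹ := by
  change ρ (Function.surjInv h.surj (π g)) * A * ρ (Function.surjInv h.surj (π g))⁻¹ = _
  exact h.conj_eq (Function.surjInv_eq h.surj _) A

theorem cj_mul_apply (x y : X) (A : M8 k) : h.cj (x * y) A = h.cj x (h.cj y A) := by rw [map_mul]; rfl

theorem cj_one_apply (A : M8 k) : h.cj 1 A = A := by rw [map_one]; rfl

theorem cj_inv_cj (x : X) (A : M8 k) : h.cj x⁻¹ (h.cj x A) = A := by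
  rw [← cj_mul_apply, inv_mul_cancel, cj_one_apply]

theorem cj_cj_inv (x : X) (A : M8 k) : h.cj x (h.cj x⁻¹ A) = A := by
  rw [← cj_mul_apply, mul_inv_cancel, cj_one_apply]

theorem cj_prod (x : X) (A B : M8 k) : h.cj x (A * B) = h.cj x A * h.cj x B := by
  obtain ⟨g, rfl⟩ := h.surj x
  rw [cj_apply, cj_apply, cj_apply]
  have h1 := inv_mul' ρ g
  calc ρ g * (A * B) * ρ g⁻¹ = ρ g * A * 1 * B * ρ g⁻¹ := by simp only [mul_assoc, one_mul]
    _ = ρ g * A * (ρ g⁻¹ * ρ g) * B * ρ g⁻¹ := by rw [h1]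
    _ = _ := by simp only [mul_assoc]

theorem cj_scalar (x : X) (c : k) : h.cj x (c • (1 : M8 k)) = c • 1 := by
  obtain ⟨g, rfl⟩ := h.surj x
  rw [cj_apply, mul_smul_comm, smul_mul_assoc, mul_one, mul_inv']

theorem cj_oneM (x : X) : h.cj x (1 : M8 k) = 1 := by
  have := h.cj_scalar x 1
  rwa [one_smul] at this

theorem trace_cj (x : X) (A : M8 k) : (h.cj x A).trace = A.trace := by
  obtain ⟨g, rfl⟩ := h.surj x
  rw [cj_apply, Matrix.trace_mul_comm, ← mul_assoc, inv_mul', one_mul]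

/-- the fixed space of a subgroup -/
noncomputable def Fx (E : Subgroup X) : Submodule k (M8 k) where
  carrier := {A | ∀ a ∈ E, h.cj a A = A}
  add_mem' := fun {A B} hA hB a ha => by rw [map_add, hA a ha, hB a ha]
  zero_mem' := fun a _ => map_zero _
  smul_mem' := fun c A hA a ha => by rw [map_smul, hA a ha]

theorem one_mem_Fx (E : Subgroup X) : (1 : M8 k) ∈ h.Fx E := fun a _ => h.cj_oneM a

theorem Fx_mono {E E' : Subgroup X} (hE : E ≤ E') : h.Fx E' ≤ h.Fx E := fun _ hA a ha => hA a (hE ha)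

/-- the normaliser acts on the fixed space -/
theorem cj_mem_Fx {E : Subgroup X} {x : X} (hx : ∀ a ∈ E, x⁻¹ * a * x ∈ E) {A : M8 k} (hA : A ∈ h.Fx E) :
    h.cj x A ∈ h.Fx E := by
  intro a ha
  have h1 := hA _ (hx a ha)
  rw [← cj_mul_apply, show a * x = x * (x⁻¹ * a * x) by group, cj_mul_apply, h1]

/-- the fixed space of the whole group -/
theorem scalar_of_fixed {A : M8 k} (hA : ∀ x, h.cj x A = A) : ∃ c : k, A = c • 1 := by
  have h1 : ∀ g, ρ g * A = A * ρ g := by
    intro g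
    have h2 := hA (π g)
    rw [cj_apply] at h2
    calc ρ g * A = ρ g * A * (ρ g⁻¹ * ρ g) := by rw [inv_mul', mul_one]
      _ = (ρ g * A * ρ g⁻¹) * ρ g := by simp only [mul_assoc]
      _ = A * ρ g := by rw [h2]
  have h3 : ∀ Y : M8 k, Y * A = A * Y := by
    intro Y
    have hY : Y ∈ Submodule.span k (Set.range ρ) := by rw [h.span]; trivial
    induction hY using Submodule.span_induction with
    | mem s hs =>
      obtain ⟨g, rfl⟩ := hs
      exact h1 g
    | zero => simp
    | add a b _ _ ha hb => rw [mul_add, add_mul, ha, hb]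
    | smul c a _ ha => rw [mul_smul_comm, smul_mul_assoc, ha]
  obtain ⟨c, hc⟩ := (Matrix.mem_range_scalar_iff_commute_single' (M := A)).2 (fun i j => h3 _)
  refine ⟨c, ?_⟩
  rw [← hc]
  simp [Matrix.smul_one_eq_diagonal]

/-- the elements fixing a submodule -/
noncomputable def fixer (C : Submodule k (M8 k)) : Subgroup X where
  carrier := {x | ∀ A ∈ C, h.cj x A = A}
  mul_mem' := fun {x y} hx hy A hA => by rw [cj_mul_apply, hy A hA, hx A hA]
  one_mem' := fun A _ => h.cj_one_apply A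
  inv_mem' := fun {x} hx A hA => by
    have := h.cj_inv_cj x A
    rwa [hx A hA] at this

theorem le_fixer_Fx (E : Subgroup X) : E ≤ h.fixer (h.Fx E) := fun a ha A hA => hA a ha

theorem conj_mem_fixer {C : Submodule k (M8 k)} {x t : X} (hx : x ∈ h.fixer C) (ht : ∀ A ∈ C, h.cj t⁻¹ A ∈ C) :
    t * x * t⁻¹ ∈ h.fixer C := by
  intro A hA
  rw [cj_mul_apply, cj_mul_apply, hx _ (ht A hA), cj_cj_inv]

section avg

variable (E : Subgroup X) [Fintype E]

/-- the average over a finite subgroup -/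
noncomputable def avg : Module.End k (M8 k) := (Fintype.card E : k)⁻¹ • ∑ a : E, h.cj (a : X)

omit h in
theorem avg_apply (h : PR ρ π) (A : M8 k) : h.avg E A = (Fintype.card E : k)⁻¹ • ∑ a : E, h.cj (a : X) A := by
  unfold avg
  rw [LinearMap.smul_apply, LinearMap.sum_apply]

omit h in
theorem cj_avg (h : PR ρ π) {b : X} (hb : b ∈ E) (A : M8 k) : h.cj b (h.avg E A) = h.avg E A := by
  rw [avg_apply, map_smul, map_sum]
  congr 1
  refine Fintype.sum_equiv (Equiv.mulLeft (⟨b, hb⟩ : E)) _ _ (fun a => ?_)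
  rw [← cj_mul_apply]; rfl

omit h in
theorem avg_cj (h : PR ρ π) {b : X} (hb : b ∈ E) (A : M8 k) : h.avg E (h.cj b A) = h.avg E A := by
  rw [avg_apply, avg_apply]
  congr 1
  refine Fintype.sum_equiv (Equiv.mulRight (⟨b, hb⟩ : E)) _ _ (fun a => ?_)
  rw [← cj_mul_apply]; rfl

omit h in
theorem avg_mem (h : PR ρ π) (A : M8 k) : h.avg E A ∈ h.Fx E := fun _ hb => cj_avg E h hb A

omit h in
theorem avg_of_mem (h : PR ρ π) (hE : (Fintype.card E : k) ≠ 0) {A : M8 k} (hA : A ∈ h.Fx E) : h.avg E A = A := by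
  have h1 : ∑ a : E, h.cj (a : X) A = ∑ _a : E, A := Finset.sum_congr rfl fun (a : E) _ => hA (a : X) a.2
  rw [avg_apply, h1, Finset.sum_const, Finset.card_univ,
    ← Nat.cast_smul_eq_nsmul k, smul_smul, inv_mul_cancel₀ hE, one_smul]

omit h in
theorem avg_mul (h : PR ρ π) (A : M8 k) {C : M8 k} (hC : C ∈ h.Fx E) : h.avg E (A * C) = h.avg E A * C := by
  rw [avg_apply, avg_apply, smul_mul_assoc, Finset.sum_mul]
  congr 1
  exact Finset.sum_congr rfl fun a _ => by rw [cj_prod, hC a a.2]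

omit h in
theorem trace_avg (h : PR ρ π) (hE : (Fintype.card E : k) ≠ 0) (A : M8 k) : (h.avg E A).trace = A.trace := by
  rw [avg_apply, Matrix.trace_smul, Matrix.trace_sum, Finset.sum_congr rfl (fun a _ => h.trace_cj _ _),
    Finset.sum_const, Finset.card_univ, nsmul_eq_mul, smul_eq_mul, ← mul_assoc, inv_mul_cancel₀ hE, one_mul]

end avg

end PR

/-! ### extraspecial behaviour -/

/-- every lift of a non-trivial element of `E` anticommutes with some lift of an element of `E` -/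
def Anti (ρ : Λ →* M8 k) (π : Λ →* X) (E : Subgroup X) : Prop :=
  ∀ g, π g ∈ E → π g ≠ 1 → ∃ g', π g' ∈ E ∧ ρ g * ρ g' = -(ρ g' * ρ g)

theorem PR.anti (h : PR ρ π) (h2 : (2 : k) ≠ 0) (E : Subgroup X) [Fintype E] (hcard : Fintype.card E = 16)
    (hsq : ∀ a ∈ E, a * a = 1) (hcomm : ∀ a ∈ E, ∀ b ∈ E, a * b = b * a)
    (hcen : ∀ a ∈ E, a ∈ Subgroup.center X → a = 1)
    (htrans : ∀ a ∈ E, ∀ b ∈ E, a ≠ 1 → b ≠ 1 → ∃ t : X, (∀ c, c ∈ E ↔ t * c * t⁻¹ ∈ E) ∧ t * a * t⁻¹ = b) :
    Anti ρ π E := by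
  classical
  intro x hx hx1
  by_contra hcon
  push Not at hcon
  have h1 : ∀ y : Λ, π y ∈ E → ρ x * ρ y = ρ y * ρ x := by
    intro y hy
    exact (h.comm_or_anti (hcomm _ hx _ hy) (hsq _ hx)).resolve_right (hcon y hy)
  have h3 : ∀ x' y : Λ, π x' ∈ E → π y ∈ E → ρ x' * ρ y = ρ y * ρ x' := by
    intro x' y hx' hy
    by_cases hx'1 : π x' = 1
    · obtain ⟨c, hc⟩ := h.scal _ hx'1
      rw [hc, smul_mul_assoc, mul_smul_comm, one_mul, mul_one]
    obtain ⟨t, ht, hta⟩ := htrans _ hx _ hx' hx1 hx'1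
    obtain ⟨τ, rfl⟩ := h.surj t
    obtain ⟨c, hc0, hc⟩ := h.smul_of_eq (g := τ * x * τ⁻¹) (g' := x') (by
      rw [map_mul, map_mul, map_inv, hta])
    have hy' : π (τ⁻¹ * y * τ) ∈ E := by
      rw [ht, map_mul, map_mul, map_inv]
      have : π τ * ((π τ)⁻¹ * π y * π τ) * (π τ)⁻¹ = π y := by group
      rw [this]
      exact hy
    have h4 := h1 _ hy'
    have h5 : ρ (τ * x * τ⁻¹) * ρ y = ρ y * ρ (τ * x * τ⁻¹) := by
      calc ρ (τ * x * τ⁻¹) * ρ y = ρ τ * (ρ x * ρ (τ⁻¹ * y * τ)) * ρ τ⁻¹ := by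
            rw [← map_mul, ← map_mul, ← map_mul, ← map_mul]
            congr 1
            group
        _ = ρ τ * (ρ (τ⁻¹ * y * τ) * ρ x) * ρ τ⁻¹ := by rw [h4]
        _ = ρ y * ρ (τ * x * τ⁻¹) := by
            rw [← map_mul, ← map_mul, ← map_mul, ← map_mul]
            congr 1
            group
    rw [hc, smul_mul_assoc, h5, mul_smul_comm]
  -- the algebraic closure
  choose s hs using fun a : E => h.surj (a : X)
  let K := AlgebraicClosure k
  let φ : k →+* K := algebraMap k K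
  have hφ : Function.Injective φ := φ.injective
  have h2' : (2 : K) ≠ 0 := by
    intro h0
    apply h2
    apply hφ
    rw [map_ofNat, map_zero, h0]
  have hsc : ∀ a : E, ∃ c : k, c ≠ 0 ∧ ρ (s a) * ρ (s a) = c • (1 : M8 k) := by
    intro a
    obtain ⟨c, hc0, hc⟩ := h.scal' (g := s a * s a) (by rw [map_mul, hs, hsq a a.2])
    exact ⟨c, hc0, by rw [← map_mul, hc]⟩
  choose c hc0 hc using hsc
  have hd : ∀ a : E, ∃ d : K, d * d = (φ (c a))⁻¹ := by
    intro a
    obtain ⟨d, hd⟩ := IsAlgClosed.exists_pow_nat_eq (φ (c a))⁻¹ (n := 2) (by norm_num)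
    exact ⟨d, by rw [← pow_two, hd]⟩
  choose d hd using hd
  have hcφ : ∀ a, φ (c a) ≠ 0 := fun a h0 => hc0 a (hφ (by rw [h0, map_zero]))
  have hd0 : ∀ a, d a ≠ 0 := by
    intro a h0
    have := hd a
    rw [h0, mul_zero] at this
    exact hcφ a (inv_eq_zero.1 this.symm)
  let y : E → M8 K := fun a => d a • (ρ (s a)).map φ
  have hy : ∀ a, y a = d a • (ρ (s a)).map φ := fun _ => rfl
  have hmap : ∀ (A B : M8 k), (A * B).map φ = A.map φ * B.map φ := fun A B => Matrix.map_mul
  have hmaps : ∀ (e : k) (A : M8 k), (e • A).map φ = φ e • A.map φ := by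
    intro e A
    ext i j
    simp
  have hmap1 : (1 : M8 k).map φ = 1 := by
    exact Matrix.map_one φ (map_zero _) (map_one _)
  refine no_commuting h2' (E := E) hcard y ?_ ?_ ?_ ?_ ?_
  · intro a b
    rw [hy, hy, smul_mul_smul_comm, smul_mul_smul_comm, ← hmap, ← hmap,
      h3 (s a) (s b) (by rw [hs]; exact a.2) (by rw [hs]; exact b.2), mul_comm (d a)]
  · intro a
    rw [hy, smul_mul_smul_comm, ← hmap, hc, hmaps, hmap1, smul_smul, hd, inv_mul_cancel₀ (hcφ a), one_smul]
  · intro a b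
    obtain ⟨e, he0, he⟩ := h.smul_of_eq (g := s a * s b) (g' := s (a * b)) (by
      rw [map_mul, hs, hs, hs]; rfl)
    refine ⟨d (a * b) * φ e * (d a * d b)⁻¹, ?_⟩
    rw [hy, hy, hy, he, hmaps, map_mul, hmap, smul_mul_smul_comm, smul_smul, smul_smul]
    congr 1
    rw [inv_mul_cancel_right₀ (mul_ne_zero (hd0 a) (hd0 b))]
  · intro a b ha hb
    obtain ⟨t, ht, hta⟩ := htrans a a.2 b b.2 (fun h0 => ha (Subtype.ext h0)) (fun h0 => hb (Subtype.ext h0))
    obtain ⟨τ, rfl⟩ := h.surj t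
    obtain ⟨e, he0, he⟩ := h.smul_of_eq (g := τ * s a * τ⁻¹) (g' := s b) (by
      rw [map_mul, map_mul, map_inv, hs, hs, hta])
    have hu1 : (ρ τ).map φ * (ρ τ⁻¹).map φ = 1 := by rw [← hmap, mul_inv', hmap1]
    have hu2 : (ρ τ⁻¹).map φ * (ρ τ).map φ = 1 := by rw [← hmap, inv_mul', hmap1]
    refine ⟨⟨(ρ τ).map φ, (ρ τ⁻¹).map φ, hu1, hu2⟩, d b * φ e * (d a)⁻¹, ?_⟩
    change y b = (d b * φ e * (d a)⁻¹) • ((ρ τ).map φ * y a * (ρ τ⁻¹).map φ)
    rw [hy, hy, he, hmaps, map_mul, map_mul, hmap, hmap, mul_smul_comm, smul_mul_assoc, smul_smul, smul_smul]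
    congr 1
    rw [inv_mul_cancel_right₀ (hd0 a)]
  · intro a ha e he
    have h4 : (ρ (s a)).map φ = ((d a)⁻¹ * e) • (1 : M8 K) := by
      rw [mul_smul, ← he, hy, smul_smul, inv_mul_cancel₀ (hd0 a), one_smul]
    have h5 : ρ (s a) = (ρ (s a) 0 0) • (1 : M8 k) := by
      ext i j
      apply hφ
      have h6 := congrFun (congrFun h4 i) j
      have h7 := congrFun (congrFun h4 0) 0
      rw [Matrix.map_apply, Matrix.smul_apply, smul_eq_mul] at h6 h7
      rw [Matrix.one_apply_eq, mul_one] at h7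
      rw [Matrix.smul_apply, smul_eq_mul, map_mul, h6, h7]
      congr 1
      by_cases hij : i = j
      · subst hij; rw [Matrix.one_apply_eq, Matrix.one_apply_eq, map_one]
      · rw [Matrix.one_apply_ne hij, Matrix.one_apply_ne hij, map_zero]
    have h6 := h.cent (s a) ⟨_, h5⟩
    rw [hs] at h6
    exact ha (Subtype.ext (hcen a a.2 h6))

end Cfsg.Agent.H924.L34
end

-- part: H924/L34Dim
section
/-!
# Centralisers in dimension eight (helper924)
-/

set_option autoImplicit false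

namespace Cfsg.Agent.H924.L34

open Module Matrix

variable {k : Type*} [Field k] {Λ X : Type*} [Group Λ] [Group X] {ρ : Λ →* M8 k} {π : Λ →* X}

theorem finrank_M8 : finrank k (M8 k) = 64 := by
  rw [Module.finrank_matrix, Fintype.card_fin, Module.finrank_self]

namespace PR

variable (h : PR ρ π)

include h

theorem avg_eq_zero (h2 : (2 : k) ≠ 0) (E : Subgroup X) [Fintype E] (ha : Anti ρ π E) {g : Λ} (hg : π g ∈ E)
    (hg1 : π g ≠ 1) : h.avg E (ρ g) = 0 := by
  obtain ⟨g', hg', hgg⟩ := ha g hg hg1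
  have h1 : h.cj (π g') (ρ g) = -ρ g := by
    rw [cj_apply]
    have : ρ g' * ρ g = -(ρ g * ρ g') := by rw [hgg, neg_neg]
    rw [this, neg_mul, mul_assoc, mul_inv', mul_one]
  have h3 := PR.avg_cj E h hg' (ρ g)
  rw [h1, map_neg] at h3
  have h4 : (2 : k) • h.avg E (ρ g) = 0 := by
    rw [two_smul]
    nth_rewrite 1 [← h3]
    rw [neg_add_cancel]
  exact (smul_eq_zero.1 h4).resolve_left h2

theorem finrank_Fx (h2 : (2 : k) ≠ 0) (E : Subgroup X) [Fintype E] (hcard : Fintype.card E = 16)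
    (ha : Anti ρ π E) : finrank k (h.Fx E) = 4 := by
  classical
  have hE : (Fintype.card E : k) ≠ 0 := by
    rw [hcard]
    have : ((16 : ℕ) : k) = 2 ^ 4 := by norm_num
    rw [this]
    exact pow_ne_zero _ h2
  choose s hs using fun a : E => h.surj (a : X)
  -- the inverse of the matrix of a lift
  have hone : h.avg E 1 = 1 := PR.avg_of_mem E h hE (h.one_mem_Fx E)
  have hav : ∀ a b : E, h.avg E (ρ (s b)⁻¹ * ρ (s a)) = if a = b then 1 else 0 := by
    intro a b
    by_cases hab : a = b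
    · subst hab
      rw [if_pos rfl, inv_mul', hone]
    · rw [if_neg hab, ← map_mul]
      have h3 : π ((s b)⁻¹ * s a) = ((b⁻¹ * a : E) : X) := by
        rw [map_mul, map_inv, hs, hs]; rfl
      apply h.avg_eq_zero h2 E ha
      · rw [h3]; exact (b⁻¹ * a : E).2
      · rw [h3]
        intro h4
        apply hab
        have h5 : b⁻¹ * a = 1 := Subtype.ext h4
        exact (inv_mul_eq_one.1 h5).symm
  have hsum : ∀ x : E, ∑ a : E, ρ (s a) * h.cj (x : X) (ρ (s a)⁻¹) = if x = 1 then (Fintype.card E : k) • 1 else 0 := by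
    intro x
    have h3 : ∀ a : E, ρ (s a) * h.cj (x : X) (ρ (s a)⁻¹) = h.cj (a : X) (ρ (s x)) * ρ (s x)⁻¹ := by
      intro a
      conv_lhs => rw [← hs x, cj_apply]
      conv_rhs => rw [← hs a, cj_apply]
      simp only [mul_assoc]
    rw [Finset.sum_congr rfl fun a _ => h3 a, ← Finset.sum_mul]
    have h4 : ∑ a : E, h.cj (a : X) (ρ (s x)) = (Fintype.card E : k) • h.avg E (ρ (s x)) := by
      rw [PR.avg_apply, smul_smul, mul_inv_cancel₀ hE, one_smul]
    rw [h4]
    by_cases hx : x = 1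
    · subst hx
      rw [if_pos rfl]
      obtain ⟨c, hc0, hc⟩ := h.scal' (g := s 1) (by rw [hs]; rfl)
      have h5 : h.avg E (ρ (s 1)) = ρ (s 1) := by
        rw [hc, map_smul, hone]
      rw [h5, smul_mul_assoc, mul_inv']
    · rw [if_neg hx, h.avg_eq_zero h2 E ha (by rw [hs]; exact x.2) (by
        rw [hs]
        intro h0
        exact hx (Subtype.ext h0)), smul_zero, zero_mul]
  let Φ : (E → h.Fx E) →ₗ[k] M8 k :=
    { toFun := fun c => ∑ a : E, ρ (s a) * (c a : M8 k)
      map_add' := fun c d => by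
        rw [← Finset.sum_add_distrib]
        exact Finset.sum_congr rfl fun a _ => by rw [Pi.add_apply, Submodule.coe_add, mul_add]
      map_smul' := fun t c => by
        rw [Finset.smul_sum]
        exact Finset.sum_congr rfl fun a _ => by
          rw [Pi.smul_apply, Submodule.coe_smul, mul_smul_comm]; rfl }
  let Ψ : M8 k →ₗ[k] (E → h.Fx E) :=
    { toFun := fun A a => ⟨h.avg E (ρ (s a)⁻¹ * A), PR.avg_mem E h _⟩
      map_add' := fun A B => by
        funext a
        apply Subtype.ext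
        change h.avg E (ρ (s a)⁻¹ * (A + B)) = h.avg E (ρ (s a)⁻¹ * A) + h.avg E (ρ (s a)⁻¹ * B)
        rw [mul_add, map_add]
      map_smul' := fun t A => by
        funext a
        apply Subtype.ext
        change h.avg E (ρ (s a)⁻¹ * (t • A)) = t • h.avg E (ρ (s a)⁻¹ * A)
        rw [mul_smul_comm, map_smul] }
  have h3 : Φ ∘ₗ Ψ = LinearMap.id := by
    apply LinearMap.ext
    intro A
    change ∑ a : E, ρ (s a) * h.avg E (ρ (s a)⁻¹ * A) = A
    have h4 : ∀ a : E, ρ (s a) * h.avg E (ρ (s a)⁻¹ * A) =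
        (Fintype.card E : k)⁻¹ • ∑ x : E, (ρ (s a) * h.cj (x : X) (ρ (s a)⁻¹)) * h.cj (x : X) A := by
      intro a
      rw [PR.avg_apply, mul_smul_comm, Finset.mul_sum]
      congr 1
      exact Finset.sum_congr rfl fun x _ => by rw [cj_prod, mul_assoc]
    rw [Finset.sum_congr rfl fun a _ => h4 a, ← Finset.smul_sum, Finset.sum_comm,
      Finset.sum_congr rfl fun x _ => (Finset.sum_mul _ _ _).symm,
      Finset.sum_congr rfl fun x _ => by rw [hsum x]]
    rw [Finset.sum_eq_single (1 : E)]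
    · rw [if_pos rfl, smul_mul_assoc, one_mul, smul_smul, inv_mul_cancel₀ hE, one_smul]
      exact h.cj_one_apply A
    · intro b _ hb
      rw [if_neg hb, zero_mul]
    · intro h0
      exact absurd (Finset.mem_univ _) h0
  have h4 : Ψ ∘ₗ Φ = LinearMap.id := by
    apply LinearMap.ext
    intro c
    funext b
    apply Subtype.ext
    change h.avg E (ρ (s b)⁻¹ * ∑ a : E, ρ (s a) * (c a : M8 k)) = (c b : M8 k)
    rw [Finset.mul_sum, map_sum]
    have h5 : ∀ a : E, h.avg E (ρ (s b)⁻¹ * (ρ (s a) * (c a : M8 k))) = (if a = b then 1 else 0) * (c a : M8 k) := by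
      intro a
      rw [← mul_assoc, PR.avg_mul E h _ (c a).2, hav]
    rw [Finset.sum_congr rfl fun a _ => h5 a, Finset.sum_eq_single b]
    · rw [if_pos rfl, one_mul]
    · intro a _ hab
      rw [if_neg hab, zero_mul]
    · intro h0
      exact absurd (Finset.mem_univ _) h0
  let e : (E → h.Fx E) ≃ₗ[k] M8 k := LinearEquiv.ofLinear Φ Ψ h3 h4
  have h5 := e.finrank_eq
  rw [finrank_M8, Module.finrank_pi_fintype, Finset.sum_const, Finset.card_univ, hcard, smul_eq_mul] at h5
  omega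

end PR

/-! ### four-groups acting on a four-dimensional space -/

theorem finrank_split (h2 : (2 : k) ≠ 0) {V : Type*} [AddCommGroup V] [Module k V] [FiniteDimensional k V]
    (f : Module.End k V) (hf : ∀ v, f (f v) = v) (W : Submodule k V) (hW : ∀ v ∈ W, f v ∈ W) :
    finrank k W = finrank k (W ⊓ f.eigenspace 1 : Submodule k V) + finrank k (W ⊓ f.eigenspace (-1) : Submodule k V) := by
  rw [← Submodule.finrank_sup_add_finrank_inf_eq]
  have h1 : (W ⊓ f.eigenspace 1) ⊓ (W ⊓ f.eigenspace (-1)) = ⊥ := by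
    rw [eq_bot_iff]
    rintro v ⟨⟨-, h1⟩, ⟨-, h3⟩⟩
    have h1' := Module.End.mem_eigenspace_iff.1 h1
    have h3' := Module.End.mem_eigenspace_iff.1 h3
    rw [one_smul] at h1'
    rw [h1', neg_one_smul] at h3'
    have h4 : (2 : k) • v = 0 := by
      rw [two_smul]
      nth_rewrite 1 [h3']
      rw [neg_add_cancel]
    exact (smul_eq_zero.1 h4).resolve_left h2
  have h3 : (W ⊓ f.eigenspace 1) ⊔ (W ⊓ f.eigenspace (-1)) = W := by
    apply le_antisymm (sup_le inf_le_left inf_le_left)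
    intro v hv
    have h4 : v = (2 : k)⁻¹ • (v + f v) + (2 : k)⁻¹ • (v - f v) := by
      rw [← smul_add, add_add_sub_cancel, ← two_smul k v, smul_smul, inv_mul_cancel₀ h2, one_smul]
    rw [h4]
    apply Submodule.add_mem_sup
    · refine ⟨W.smul_mem _ (W.add_mem hv (hW v hv)), ?_⟩
      rw [SetLike.mem_coe, Module.End.mem_eigenspace_iff, map_smul, map_add, hf, one_smul, add_comm]
    · refine ⟨W.smul_mem _ (W.sub_mem hv (hW v hv)), ?_⟩
      rw [SetLike.mem_coe, Module.End.mem_eigenspace_iff, map_smul, map_sub, hf, neg_one_smul, ← smul_neg, neg_sub]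
  rw [h1, h3, finrank_bot, add_zero]

theorem PR.klein (h : PR ρ π) (h2 : (2 : k) ≠ 0) (C : Submodule k (M8 k)) (hC1 : (1 : M8 k) ∈ C)
    (hC : finrank k C = 4) {u v t : X} (hu : u * u = 1) (hv : v * v = 1) (huv : u * v = v * u)
    (htu : v * t = t * u) (htv : u * t = t * (u * v)) (hCu : ∀ A ∈ C, h.cj u A ∈ C) (hCv : ∀ A ∈ C, h.cj v A ∈ C)
    (hCt : ∀ A ∈ C, h.cj t A ∈ C) :
    (∀ A ∈ C, h.cj u A = A) ∨
      (∀ A ∈ C, h.cj u A = A → h.cj v A = A → ∃ c : k, A = c • 1) := by
  set W : k → k → Submodule k (M8 k) := fun a b => (C ⊓ (h.cj u).eigenspace a) ⊓ (h.cj v).eigenspace b with hW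
  have hmem : ∀ a b A, A ∈ W a b ↔ A ∈ C ∧ h.cj u A = a • A ∧ h.cj v A = b • A := by
    intro a b A
    rw [hW]
    change A ∈ (C ⊓ (h.cj u).eigenspace a) ⊓ (h.cj v).eigenspace b ↔ _
    rw [Submodule.mem_inf, Submodule.mem_inf, Module.End.mem_eigenspace_iff, Module.End.mem_eigenspace_iff, and_assoc]
  have huu : ∀ A, h.cj u (h.cj u A) = A := fun A => by rw [← PR.cj_mul_apply, hu, PR.cj_one_apply]
  have hvv : ∀ A, h.cj v (h.cj v A) = A := fun A => by rw [← PR.cj_mul_apply, hv, PR.cj_one_apply]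
  have huv' : ∀ A, h.cj u (h.cj v A) = h.cj v (h.cj u A) := fun A => by
    rw [← PR.cj_mul_apply, ← PR.cj_mul_apply, huv]
  have hsum : finrank k C = (finrank k (W 1 1) + finrank k (W 1 (-1))) + (finrank k (W (-1) 1) + finrank k (W (-1) (-1))) := by
    rw [finrank_split h2 (h.cj u) huu C hCu]
    congr 1
    · apply finrank_split h2 (h.cj v) hvv
      intro A hA
      obtain ⟨h3, h4⟩ := hA
      rw [SetLike.mem_coe, Module.End.mem_eigenspace_iff] at h4
      refine ⟨hCv A h3, ?_⟩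
      rw [SetLike.mem_coe, Module.End.mem_eigenspace_iff, huv', h4, map_smul]
    · apply finrank_split h2 (h.cj v) hvv
      intro A hA
      obtain ⟨h3, h4⟩ := hA
      rw [SetLike.mem_coe, Module.End.mem_eigenspace_iff] at h4
      refine ⟨hCv A h3, ?_⟩
      rw [SetLike.mem_coe, Module.End.mem_eigenspace_iff, huv', h4, map_smul]
  have hvt : ∀ A, h.cj v (h.cj t A) = h.cj t (h.cj u A) := fun A => by
    rw [← PR.cj_mul_apply, ← PR.cj_mul_apply, htu]
  have hut : ∀ A, h.cj u (h.cj t A) = h.cj t (h.cj u (h.cj v A)) := fun A => by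
    rw [← PR.cj_mul_apply, ← PR.cj_mul_apply, ← PR.cj_mul_apply, htv, mul_assoc]
  have hle : ∀ a b c d : k, b * a = c → a = d → finrank k (W a b) ≤ finrank k (W c d) := by
    intro a b c d hc hd
    have h3 : ∀ A : W a b, h.cj t (A : M8 k) ∈ W c d := by
      intro A
      obtain ⟨h4, h5, h6⟩ := (hmem a b _).1 A.2
      rw [hmem]
      refine ⟨hCt _ h4, ?_, ?_⟩
      · rw [hut, h6, map_smul, h5, smul_smul, map_smul, hc]
      · rw [hvt, h5, map_smul, ← hd]
    have h4 : Function.Injective (LinearMap.codRestrict (W c d) ((h.cj t).domRestrict (W a b)) h3) := by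
      intro A B hAB
      have h5 : h.cj t (A : M8 k) = h.cj t (B : M8 k) := congrArg Subtype.val hAB
      apply Subtype.ext
      rw [← h.cj_inv_cj t A, h5, PR.cj_inv_cj]
    exact LinearMap.finrank_le_finrank_of_injective h4
  have h3 := hle 1 (-1) (-1) 1 (by ring) rfl
  have h4 := hle (-1) 1 (-1) (-1) (by ring) rfl
  have h5 := hle (-1) (-1) 1 (-1) (by ring) rfl
  have h1mem : (1 : M8 k) ∈ W 1 1 := by
    rw [hmem]
    exact ⟨hC1, by rw [PR.cj_oneM, one_smul], by rw [PR.cj_oneM, one_smul]⟩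
  have h11 : 1 ≤ finrank k (W 1 1) := by
    rw [Nat.one_le_iff_ne_zero]
    intro h0
    rw [Submodule.finrank_eq_zero] at h0
    rw [h0, Submodule.mem_bot] at h1mem
    exact one_ne_zero h1mem
  rw [hC] at hsum
  by_cases hm : finrank k (W 1 (-1)) = 0
  · left
    have h6 : finrank k (W 1 1) = finrank k C := by omega
    have h7 : W 1 1 ≤ C := fun A hA => ((hmem 1 1 A).1 hA).1
    have h8 := Submodule.eq_of_le_of_finrank_eq h7 h6
    intro A hA
    rw [← h8, hmem] at hA
    rw [hA.2.1, one_smul]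
  · right
    have h6 : finrank k (W 1 1) = 1 := by omega
    intro A hA hA1 hA2
    have h7 : A ∈ W 1 1 := by
      rw [hmem]
      exact ⟨hA, by rw [hA1, one_smul], by rw [hA2, one_smul]⟩
    have h8 := (finrank_eq_one_iff_of_nonzero' (⟨1, h1mem⟩ : W 1 1) (by
      intro h0
      exact one_ne_zero (congrArg Subtype.val h0))).1 h6 ⟨A, h7⟩
    obtain ⟨c, hc⟩ := h8
    exact ⟨c, (congrArg Subtype.val hc).symm⟩

/-! ### a subgroup of order 64 with scalar centraliser -/

section Full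

variable (h : PR ρ π) (h2 : (2 : k) ≠ 0) (U : Subgroup X) [Fintype U] (hU : Fintype.card U = 64)
  (hs : ∀ A ∈ h.Fx U, ∃ c : k, A = c • (1 : M8 k))

include h h2 hU hs

theorem PR.sum_conj (A : M8 k) : ∑ a : U, h.cj (a : X) A = (8 * A.trace) • (1 : M8 k) := by
  have hE : (Fintype.card U : k) ≠ 0 := by
    rw [hU]
    have : ((64 : ℕ) : k) = 2 ^ 6 := by norm_num
    rw [this]
    exact pow_ne_zero _ h2
  obtain ⟨c, hc⟩ := hs _ (PR.avg_mem U h A)
  have h3 : ∑ a : U, h.cj (a : X) A = (Fintype.card U : k) • h.avg U A := by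
    rw [PR.avg_apply, smul_smul, mul_inv_cancel₀ hE, one_smul]
  have h4 := PR.trace_avg U h hE A
  rw [hc, Matrix.trace_smul, Matrix.trace_one, Fintype.card_fin, smul_eq_mul] at h4
  rw [h3, hc, smul_smul, hU, ← h4]
  congr 1
  push_cast
  ring

theorem PR.span_image : Submodule.span k (ρ '' {g | π g ∈ U}) = ⊤ := by
  classical
  have h8 : (8 : k) ≠ 0 := by
    have : (8 : k) = 2 ^ 3 := by norm_num
    rw [this]
    exact pow_ne_zero _ h2
  choose s hs' using fun a : U => h.surj (a : X)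
  rw [eq_top_iff]
  intro A _
  rw [Matrix.matrix_eq_sum_single A]
  refine Submodule.sum_mem _ fun l _ => Submodule.sum_mem _ fun j _ => ?_
  have h3 : Matrix.single l j (A l j) = (A l j * 8⁻¹) • ∑ a : U, (ρ (s a)⁻¹) j l • ρ (s a) := by
    ext m i
    have h4 := PR.sum_conj h h2 U hU hs (Matrix.single i j (1 : k))
    have h5 := congrFun (congrFun h4 m) l
    have h6 : (∑ a : U, h.cj (a : X) (Matrix.single i j (1 : k))) m l =
        ∑ a : U, (ρ (s a)⁻¹) j l * (ρ (s a)) m i := by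
      rw [Matrix.sum_apply]
      refine Finset.sum_congr rfl fun a _ => ?_
      rw [← hs' a, PR.cj_apply, Matrix.mul_apply]
      rw [Finset.sum_eq_single j]
      · rw [Matrix.mul_apply, Finset.sum_eq_single i]
        · rw [Matrix.single_apply_same]
          ring
        · intro b _ hb
          rw [Matrix.single_apply_of_row_ne hb.symm, mul_zero]
        · intro h0; exact absurd (Finset.mem_univ _) h0
      · intro b _ hb
        rw [Matrix.mul_apply, Finset.sum_eq_zero, zero_mul]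
        intro x _
        rw [Matrix.single_apply_of_col_ne _ _ hb.symm, mul_zero]
      · intro h0; exact absurd (Finset.mem_univ _) h0
    rw [h6] at h5
    rw [Matrix.smul_apply, Matrix.sum_apply, Finset.sum_congr rfl fun a _ => by
      rw [Matrix.smul_apply, smul_eq_mul], h5, Matrix.smul_apply, smul_eq_mul, smul_eq_mul]
    by_cases hij : i = j
    · subst hij
      rw [Matrix.trace_single_eq_same]
      by_cases hml : m = l
      · subst hml
        rw [Matrix.single_apply_same, Matrix.one_apply_eq]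
        field_simp
      · rw [Matrix.single_apply_of_row_ne (Ne.symm hml), Matrix.one_apply_ne hml]
        ring
    · rw [Matrix.trace_single_eq_of_ne _ _ _ hij, Matrix.single_apply_of_col_ne _ _ (Ne.symm hij)]
      ring
  rw [h3]
  refine Submodule.smul_mem _ _ (Submodule.sum_mem _ fun a _ => Submodule.smul_mem _ _ (Submodule.subset_span ?_))
  exact ⟨s a, by rw [Set.mem_setOf_eq, hs']; exact a.2, rfl⟩

theorem PR.trace_eq_zero {g : Λ} (hg : π g ∈ U) (hg1 : π g ≠ 1) : (ρ g).trace = 0 := by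
  classical
  have h8 : (8 : k) ≠ 0 := by
    have : (8 : k) = 2 ^ 3 := by norm_num
    rw [this]
    exact pow_ne_zero _ h2
  choose s hs' using fun a : U => h.surj (a : X)
  have hspan : ⊤ ≤ Submodule.span k (Set.range fun a : U => ρ (s a)) := by
    rw [← PR.span_image h h2 U hU hs, Submodule.span_le]
    rintro _ ⟨x, hx, rfl⟩
    obtain ⟨c, -, hc⟩ := h.smul_of_eq (g := s ⟨π x, hx⟩) (g' := x) (by rw [hs'])
    rw [hc]
    exact Submodule.smul_mem _ _ (Submodule.subset_span ⟨_, rfl⟩)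
  have hli : LinearIndependent k (fun a : U => ρ (s a)) :=
    linearIndependent_of_top_le_span_of_card_eq_finrank hspan (by rw [hU, finrank_M8])
  by_contra htr
  have h3 := PR.sum_conj h h2 U hU hs (ρ g)
  have h4 : ρ (s 1) ∉ Submodule.span k ((fun a : U => ρ (s a)) '' {a | a ≠ 1}) :=
    hli.notMem_span_image (by simp)
  apply h4
  obtain ⟨c, hc0, hc⟩ := h.scal' (g := s 1) (by rw [hs']; rfl)
  have h5 : ρ (s 1) = (c * (8 * (ρ g).trace)⁻¹) • ∑ a : U, h.cj (a : X) (ρ g) := by
    rw [h3, smul_smul, hc, inv_mul_cancel_right₀ (mul_ne_zero h8 htr)]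
  rw [h5]
  refine Submodule.smul_mem _ _ (Submodule.sum_mem _ fun a _ => ?_)
  have h6 : h.cj (a : X) (ρ g) = ρ (s a * g * (s a)⁻¹) := by
    conv_lhs => rw [← hs' a]
    rw [PR.cj_apply, ← map_mul, ← map_mul]
  have h7 : π (s a * g * (s a)⁻¹) = ((a * ⟨π g, hg⟩ * a⁻¹ : U) : X) := by
    rw [map_mul, map_mul, map_inv, hs']; rfl
  obtain ⟨d, -, hd⟩ := h.smul_of_eq (g := s (a * ⟨π g, hg⟩ * a⁻¹)) (g' := s a * g * (s a)⁻¹) (by rw [hs', h7])
  rw [h6, hd]
  refine Submodule.smul_mem _ _ (Submodule.subset_span ⟨_, ?_, rfl⟩)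
  intro h0
  apply hg1
  have h9 : (⟨π g, hg⟩ : U) = 1 := by
    have := conj_eq_one_iff.1 h0
    exact this
  exact congrArg Subtype.val h9

end Full

end Cfsg.Agent.H924.L34
end

-- part: H924/L34SL
section
/-!
# `SL₃(4)` in dimension eight: unitriangular matrices (helper924)
-/

set_option autoImplicit false

namespace Cfsg.Agent.H924.L34

open Module Matrix Cfsg.Agent.H906.SL3Par Cfsg.Agent.H906.L34
open scoped commutatorElement

section Field4

variable {K : Type*} [Field K] [Fintype K]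

theorem two_eq_zero (hK : Fintype.card K = 4) : (2 : K) = 0 := by
  have h4 : ((4 : ℕ) : K) = 0 := by rw [← hK]; exact Nat.cast_card_eq_zero K
  have h5 : (2 : K) * 2 = 0 := by rw [← h4]; norm_num
  rcases mul_eq_zero.1 h5 with h6 | h6 <;> exact h6

theorem pow_four' (hK : Fintype.card K = 4) (x : K) : x * x * x * x = x := by
  have := FiniteField.pow_card x
  rw [hK] at this
  linear_combination this

/-- `x² = x + 1` for `x ≠ 0, 1` -/
theorem sq_eq (hK : Fintype.card K = 4) {x : K} (h0 : x ≠ 0) (h1 : x ≠ 1) : x * x = x + 1 := by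
  have h2 := two_eq_zero hK
  have h4 := pow_four' hK x
  have h5 : x * ((x - 1) * (x * x + x + 1)) = 0 := by linear_combination h4
  rcases mul_eq_zero.1 h5 with h6 | h6
  · exact absurd h6 h0
  · rcases mul_eq_zero.1 h6 with h7 | h7
    · exact absurd (sub_eq_zero.1 h7) h1
    · linear_combination h7 - (x + 1) * h2

theorem exists_omega (hK : Fintype.card K = 4) : ∃ a : K, a ≠ 0 ∧ a ≠ 1 := by
  classical
  by_contra hcon
  push Not at hcon
  have hsub : (Finset.univ : Finset K) ⊆ {0, 1} := by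
    intro x _
    by_cases hx : x = 0
    · simp only [hx, _root_.Finset.mem_insert, _root_.Finset.mem_singleton, _root_.zero_ne_one, _root_.or_false]
    · simp only [hcon x hx, _root_.Finset.mem_insert, _root_.one_ne_zero, _root_.Finset.mem_singleton, _root_.or_true]
  have h6 := Finset.card_le_card hsub
  rw [Finset.card_univ, hK] at h6
  have h7 : ({0, 1} : Finset K).card ≤ 2 := Finset.card_le_two
  omega

end Field4

section Uni

variable {K : Type*} [Field K]

theorem uni_inj {a b c a' b' c' : K} (h : uni a b c = uni a' b' c') : a = a' ∧ b = b' ∧ c = c' := by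
  have e := congrArg Subtype.val h
  have e1 := congrFun (congrFun e 0) 1
  have e2 := congrFun (congrFun e 1) 2
  have e3 := congrFun (congrFun e 0) 2
  simp only [uni, _root_.Fin.isValue, _root_.Matrix.of_apply, _root_.Matrix.cons_val', _root_.Matrix.cons_val_one, _root_.Matrix.cons_val_zero, _root_.Matrix.cons_val_fin_one, _root_.Matrix.cons_val] at e1 e2 e3
  exact ⟨e1, e2, e3⟩

theorem uni_center {a b c : K} (h : uni a b c ∈ Subgroup.center (X K)) : uni a b c = 1 := by
  have h1 : pj K (uni a b c) = pj K (uni 0 0 0) := by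
    rw [uni_zero, map_one]
    exact (QuotientGroup.eq_one_iff _).2 h
  rw [pj_uni_inj h1, uni_zero]

theorem card_Qa [Fintype K] (hK : Fintype.card K = 4) [Fintype (Qa K)] : Fintype.card (Qa K) = 16 := by
  have e : K × K ≃ Qa K := Equiv.ofBijective (fun x => ⟨uni 0 x.1 x.2, ⟨x.1, x.2, rfl⟩⟩) ⟨by
    intro x y hxy
    have := uni_inj (congrArg Subtype.val hxy)
    exact Prod.ext this.2.1 this.2.2, by
    rintro ⟨_, ⟨b, c, rfl⟩⟩
    exact ⟨(b, c), rfl⟩⟩
  rw [← Fintype.card_congr e, Fintype.card_prod, hK]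

theorem card_Qb [Fintype K] (hK : Fintype.card K = 4) [Fintype (Qb K)] : Fintype.card (Qb K) = 16 := by
  have e : K × K ≃ Qb K := Equiv.ofBijective (fun x => ⟨uni x.1 0 x.2, ⟨x.1, x.2, rfl⟩⟩) ⟨by
    intro x y hxy
    have := uni_inj (congrArg Subtype.val hxy)
    exact Prod.ext this.1 this.2.2, by
    rintro ⟨_, ⟨b, c, rfl⟩⟩
    exact ⟨(b, c), rfl⟩⟩
  rw [← Fintype.card_congr e, Fintype.card_prod, hK]

theorem card_U [Fintype K] (hK : Fintype.card K = 4) [Fintype (U K)] : Fintype.card (U K) = 64 := by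
  have e : K × K × K ≃ U K := Equiv.ofBijective (fun x => ⟨uni x.1 x.2.1 x.2.2, ⟨x.1, x.2.1, x.2.2, rfl⟩⟩) ⟨by
    intro x y hxy
    have := uni_inj (congrArg Subtype.val hxy)
    exact Prod.ext this.1 (Prod.ext this.2.1 this.2.2), by
    rintro ⟨_, ⟨a, b, c, rfl⟩⟩
    exact ⟨(a, b, c), rfl⟩⟩
  rw [← Fintype.card_congr e, Fintype.card_prod, Fintype.card_prod, hK]

end Uni

section Main

variable {k : Type*} [Field k] {Λ : Type*} [Group Λ] {K : Type*} [Field K] [Fintype K]
  {ρ : Λ →* M8 k} {π : Λ →* X K}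

theorem anti_Qa (h : PR ρ π) (h2 : (2 : k) ≠ 0) (hK : Fintype.card K = 4) : Anti ρ π (Qa K) := by
  classical
  have k2 := two_eq_zero hK
  have : Fintype (Qa K) := Fintype.ofFinite _
  have e1 : ∀ b c b' c' : K, uni 0 b c * uni 0 b' c' = uni 0 (b + b') (c + c') := by
    intro b c b' c'
    rw [uni_mul]
    congr 1 <;> ring
  apply h.anti h2 (Qa K) (card_Qa hK)
  · rintro _ ⟨b, c, rfl⟩
    rw [e1, show b + b = 0 by linear_combination b * k2, show c + c = 0 by linear_combination c * k2, uni_zero]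
  · rintro _ ⟨b, c, rfl⟩ _ ⟨b', c', rfl⟩
    rw [e1, e1, add_comm b, add_comm c]
  · rintro _ ⟨b, c, rfl⟩ h3
    exact uni_center h3
  · exact _root_.Cfsg.Agent.H906.L34.trans_of (Qa K) (Pa K) Qa_normal (uni 0 0 1) (by
      rintro _ ⟨b, c, rfl⟩ h3
      exact trans_a h3)

theorem anti_Qb (h : PR ρ π) (h2 : (2 : k) ≠ 0) (hK : Fintype.card K = 4) : Anti ρ π (Qb K) := by
  classical
  have k2 := two_eq_zero hK
  have : Fintype (Qb K) := Fintype.ofFinite _
  have e1 : ∀ b c b' c' : K, uni b 0 c * uni b' 0 c' = uni (b + b') 0 (c + c') := by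
    intro b c b' c'
    rw [uni_mul]
    congr 1 <;> ring
  apply h.anti h2 (Qb K) (card_Qb hK)
  · rintro _ ⟨b, c, rfl⟩
    rw [e1, show b + b = 0 by linear_combination b * k2, show c + c = 0 by linear_combination c * k2, uni_zero]
  · rintro _ ⟨b, c, rfl⟩ _ ⟨b', c', rfl⟩
    rw [e1, e1, add_comm b, add_comm c]
  · rintro _ ⟨b, c, rfl⟩ h3
    exact uni_center h3
  · exact _root_.Cfsg.Agent.H906.L34.trans_of (Qb K) (Pb K) Qb_normal (uni 0 0 1) (by
      rintro _ ⟨b, c, rfl⟩ h3
      exact trans_b h3)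

theorem finrank_Qa (h : PR ρ π) (h2 : (2 : k) ≠ 0) (hK : Fintype.card K = 4) : finrank k (h.Fx (Qa K)) = 4 := by
  classical
  have : Fintype (Qa K) := Fintype.ofFinite _
  exact h.finrank_Fx h2 (Qa K) (card_Qa hK) (anti_Qa h h2 hK)

theorem finrank_Qb (h : PR ρ π) (h2 : (2 : k) ≠ 0) (hK : Fintype.card K = 4) : finrank k (h.Fx (Qb K)) = 4 := by
  classical
  have : Fintype (Qb K) := Fintype.ofFinite _
  exact h.finrank_Fx h2 (Qb K) (card_Qb hK) (anti_Qb h h2 hK)

/-- the torus element `diag(1, s, s⁻¹)` -/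
def ts {s : K} (hs : s ≠ 0) : X K := dg ![1, s, s⁻¹] (by simp [hs])

theorem ts_mem {s : K} (hs : s ≠ 0) : ts hs ∈ Pb K := dg_mem_Pb _ _

theorem ts_conj {s : K} (hs : s ≠ 0) (b : K) : ts hs * uni 0 b 0 * (ts hs)⁻¹ = uni 0 (s * s * b) 0 := by
  rw [← tv12, ← tv12]
  exact dg_conj _ _ h12 (s * s) (by simp [hs]) b

theorem uni_split (a b c : K) : uni a b c = uni 0 b 0 * uni a 0 c := by
  rw [uni_mul]
  congr 1 <;> ring

/-- **The element `uni 0 1 0` does not centralise the centraliser of `Qb`.** -/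
theorem not_fix (h : PR ρ π) (h2 : (2 : k) ≠ 0) (hK : Fintype.card K = 4)
    (hfix : ∀ A ∈ h.Fx (Qb K), h.cj (uni 0 1 0) A = A) : False := by
  classical
  set D := h.fixer (h.Fx (Qb K)) with hD
  have hPb : ∀ x ∈ D, ∀ t ∈ Pb K, t * x * t⁻¹ ∈ D := by
    intro x hx t ht
    apply h.conj_mem_fixer hx
    intro A hA
    exact h.cj_mem_Fx (Qb_normal _ (inv_mem ht)) hA
  have hQb : Qb K ≤ D := h.le_fixer_Fx _
  have h1 : uni 0 1 0 ∈ D := hfix
  have h3 : ∀ b : K, uni 0 b 0 ∈ D := by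
    intro b
    by_cases hb : b = 0
    · rw [hb, uni_zero]; exact D.one_mem
    · have hs : b * b ≠ 0 := mul_ne_zero hb hb
      have h4 := hPb _ h1 _ (ts_mem hs)
      rw [ts_conj, mul_one, show b * b * (b * b) = b by linear_combination pow_four' hK b] at h4
      exact h4
  have hU : U K ≤ D := by
    rintro _ ⟨a, b, c, rfl⟩
    rw [uni_split]
    exact D.mul_mem (h3 b) (hQb ⟨a, c, rfl⟩)
  have hle : h.Fx (Qb K) ≤ h.Fx (Qa K) := fun A hA a ha => hU (Qa_le ha) A hA
  have heq : h.Fx (Qb K) = h.Fx (Qa K) := Submodule.eq_of_le_of_finrank_eq hle (by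
    rw [finrank_Qa h h2 hK, finrank_Qb h h2 hK])
  have hPa : ∀ x ∈ D, ∀ t ∈ Pa K, t * x * t⁻¹ ∈ D := by
    intro x hx t ht
    apply h.conj_mem_fixer hx
    intro A hA
    rw [heq] at hA ⊢
    exact h.cj_mem_Fx (Qa_normal _ (inv_mem ht)) hA
  have t10 : ∀ c : K, tv h10 c ∈ D := by
    intro c
    have h5 := hPa _ (hU ⟨-c, 0, 0, rfl⟩) _ n12_mem
    have h6 : n12 K * uni (-c) 0 0 * (n12 K)⁻¹ = tv h10 c := by
      rw [mul_inv_eq_iff_eq_mul]
      apply Cfsg.Agent.H906.SL3Par.ext'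
      intro i j
      rw [mul_entry, mul_entry, tv_val]
      fin_cases i <;> fin_cases j <;> simp [uni, n12]
    rwa [h6] at h5
  have t21 : ∀ c : K, tv h21 c ∈ D := by
    intro c
    have h5 := hPb _ (hU ⟨0, -c, 0, rfl⟩) _ n23_mem
    have h6 : n23 K * uni 0 (-c) 0 * (n23 K)⁻¹ = tv h21 c := by
      rw [mul_inv_eq_iff_eq_mul]
      apply Cfsg.Agent.H906.SL3Par.ext'
      intro i j
      rw [mul_entry, mul_entry, tv_val]
      fin_cases i <;> fin_cases j <;> simp [uni, n23]
    rwa [h6] at h5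
  have t20 : ∀ c : K, tv h20 c ∈ D := by
    intro c
    have h3 := Cfsg.Agent.LieClassical.SLGen.commutator_transvection (F := K) h20 h21 h10 c 1
    have h4 : ⁅tv h21 c, tv h10 1⁆ = tv h20 c := by
      rw [mul_one] at h3
      exact h3
    rw [← h4, commutatorElement_def]
    have m1 := t21 c
    have m2 := t10 1
    exact D.mul_mem (D.mul_mem (D.mul_mem m1 m2) (D.inv_mem m1)) (D.inv_mem m2)
  have htop : D = ⊤ := by
    rw [eq_top_iff, ← Cfsg.Agent.LieClassical.SLGen.closure_transvections (ι := Fin 3) (F := K), Subgroup.closure_le]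
    rintro _ ⟨i, j, hij, c, rfl⟩
    change tv hij c ∈ D
    fin_cases i <;> fin_cases j
    · exact absurd rfl hij
    · have := hU ⟨c, 0, 0, rfl⟩
      rw [← tv01] at this
      exact this
    · have := hU ⟨0, 0, c, rfl⟩
      rw [← tv02] at this
      exact this
    · exact t10 c
    · exact absurd rfl hij
    · have := hU ⟨0, c, 0, rfl⟩
      rw [← tv12] at this
      exact this
    · exact t20 c
    · exact t21 c
    · exact absurd rfl hij
  have hsc : h.Fx (Qb K) ≤ Submodule.span k {(1 : M8 k)} := by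
    intro A hA
    obtain ⟨c, hc⟩ := h.scalar_of_fixed (A := A) (fun x => by
      have hx : x ∈ D := by rw [htop]; trivial
      exact hx A hA)
    rw [Submodule.mem_span_singleton]
    exact ⟨c, hc.symm⟩
  have h5 := Submodule.finrank_mono hsc
  rw [finrank_Qb h h2 hK] at h5
  have h6 := finrank_span_le_card (R := k) ({(1 : M8 k)} : Set (M8 k))
  simp at h6
  omega

/-- **The centraliser of the unitriangular group is scalar.** -/
theorem Fx_U (h : PR ρ π) (h2 : (2 : k) ≠ 0) (hK : Fintype.card K = 4) :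
    ∀ A ∈ h.Fx (U K), ∃ c : k, A = c • (1 : M8 k) := by
  have k2 := two_eq_zero hK
  obtain ⟨w, hw0, hw1⟩ := exists_omega hK
  have hww := sq_eq hK hw0 hw1
  have hs : w * w ≠ 0 := mul_ne_zero hw0 hw0
  have hw4 : w * w * (w * w) = w := by linear_combination pow_four' hK w
  have hPbC : ∀ t ∈ Pb K, ∀ A ∈ h.Fx (Qb K), h.cj t A ∈ h.Fx (Qb K) := fun t ht A hA =>
    h.cj_mem_Fx (Qb_normal t ht) hA
  have e1 : ∀ b b' : K, uni 0 b 0 * uni 0 b' 0 = uni 0 (b + b') 0 := by
    intro b b'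
    rw [uni_mul]
    congr 1 <;> ring
  have e2 : ∀ b : K, ts hs * uni 0 b 0 = uni 0 (w * b) 0 * ts hs := by
    intro b
    rw [← mul_inv_eq_iff_eq_mul, ts_conj, hw4]
  have h3 := h.klein h2 (h.Fx (Qb K)) (h.one_mem_Fx _) (finrank_Qb h h2 hK) (u := uni 0 1 0) (v := uni 0 w 0)
    (t := ts hs)
    (by rw [e1, show (1 : K) + 1 = 0 by linear_combination k2, uni_zero])
    (by rw [e1, show w + w = 0 by linear_combination w * k2, uni_zero])
    (by rw [e1, e1, add_comm])
    (by rw [e2, mul_one])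
    (by rw [e1, e2, show w * (1 + w) = 1 by linear_combination hww + w * k2])
    (hPbC _ (uni_mem_Pb 0 1 0)) (hPbC _ (uni_mem_Pb 0 w 0)) (hPbC _ (ts_mem hs))
  rcases h3 with h3 | h3
  · exact (not_fix h h2 hK h3).elim
  · intro A hA
    exact h3 A (h.Fx_mono Qb_le hA) (hA _ ⟨0, 1, 0, rfl⟩) (hA _ ⟨0, w, 0, rfl⟩)

theorem span_U (h : PR ρ π) (h2 : (2 : k) ≠ 0) (hK : Fintype.card K = 4) :
    Submodule.span k (ρ '' {g | π g ∈ U K}) = ⊤ := by
  classical
  have : Fintype (U K) := Fintype.ofFinite _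
  exact PR.span_image h h2 (U K) (card_U hK) (Fx_U h h2 hK)

theorem trace_U (h : PR ρ π) (h2 : (2 : k) ≠ 0) (hK : Fintype.card K = 4) {g : Λ} (hg : π g ∈ U K)
    (hg1 : π g ≠ 1) : (ρ g).trace = 0 := by
  classical
  have : Fintype (U K) := Fintype.ofFinite _
  exact PR.trace_eq_zero h h2 (U K) (card_U hK) (Fx_U h h2 hK) hg hg1

end Main

end Cfsg.Agent.H924.L34
end

-- part: H924/L34Tr
section
/-!
# `SL₃(4)` in dimension eight: traces on the parabolic subgroups (helper924)
-/

set_option autoImplicit false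

namespace Cfsg.Agent.H924.L34

open Module Matrix Cfsg.Agent.H906.SL3Par Cfsg.Agent.H906.L34

/-- stabiliser of the vector `e₁` -/
def Pb1 (K : Type*) [Field K] : Subgroup (X K) where
  carrier := {g | g.1 0 0 = 1 ∧ g.1 1 0 = 0 ∧ g.1 2 0 = 0}
  mul_mem' := by
    rintro g h ⟨hg0, hg1, hg2⟩ ⟨hh0, hh1, hh2⟩
    have e0 := mul_entry g h 0 0
    have e1 := mul_entry g h 1 0
    have e2 := mul_entry g h 2 0
    rw [hh0, hh1, hh2] at e0 e1 e2
    refine ⟨e0.trans ?_, e1.trans ?_, e2.trans ?_⟩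
    · rw [hg0]; ring
    · rw [hg1]; ring
    · rw [hg2]; ring
  one_mem' := by refine ⟨?_, ?_, ?_⟩ <;> simp
  inv_mem' := by
    rintro g ⟨hg0, hg1, hg2⟩
    have hd := det_eq g
    rw [hg0, hg1, hg2] at hd
    refine ⟨?_, ?_, ?_⟩ <;> (rw [inv_val, Matrix.adjugate_fin_three]; simp only [hg1, hg2, _root_.Fin.isValue, _root_.MulZeroClass.zero_mul, _root_.neg_zero, _root_.MulZeroClass.mul_zero, _root_.add_zero, _root_.sub_zero, _root_.sub_self, _root_.Matrix.of_apply, _root_.Matrix.cons_val', _root_.Matrix.cons_val_zero, _root_.Matrix.cons_val_fin_one, _root_.Matrix.cons_val_one, _root_.Matrix.cons_val])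
    linear_combination hd

/-- stabiliser of the linear form `e₃*` -/
def Pa1 (K : Type*) [Field K] : Subgroup (X K) where
  carrier := {g | g.1 2 0 = 0 ∧ g.1 2 1 = 0 ∧ g.1 2 2 = 1}
  mul_mem' := by
    rintro g h ⟨hg0, hg1, hg2⟩ ⟨hh0, hh1, hh2⟩
    have e0 := mul_entry g h 2 0
    have e1 := mul_entry g h 2 1
    have e2 := mul_entry g h 2 2
    rw [hg0, hg1, hg2] at e0 e1 e2
    refine ⟨e0.trans ?_, e1.trans ?_, e2.trans ?_⟩
    · rw [hh0]; ring
    · rw [hh1]; ring
    · rw [hh2]; ring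
  one_mem' := by refine ⟨?_, ?_, ?_⟩ <;> simp
  inv_mem' := by
    rintro g ⟨hg0, hg1, hg2⟩
    have hd := det_eq g
    rw [hg0, hg1, hg2] at hd
    refine ⟨?_, ?_, ?_⟩ <;> (rw [inv_val, Matrix.adjugate_fin_three]; simp only [hg0, hg1, _root_.Fin.isValue, _root_.MulZeroClass.mul_zero, _root_.sub_zero, _root_.add_zero, _root_.sub_self, _root_.neg_zero, _root_.Matrix.of_apply, _root_.Matrix.cons_val', _root_.Matrix.cons_val_zero, _root_.Matrix.cons_val_fin_one, _root_.Matrix.cons_val, _root_.Matrix.cons_val_one])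
    linear_combination hd

section Emb

variable {K : Type*} [Field K]

/-- `A ↦ diag(1, A)` -/
def emb (K : Type*) [Field K] : _root_.Matrix.SpecialLinearGroup (Fin 2) K →* X K where
  toFun A := ⟨!![1, 0, 0; 0, A.1 0 0, A.1 0 1; 0, A.1 1 0, A.1 1 1], by
    have := A.2
    rw [Matrix.det_fin_two] at this
    simp [Matrix.det_fin_three]
    exact this⟩
  map_one' := by
    apply Cfsg.Agent.H906.SL3Par.ext'
    intro i j
    (revert i j; simp only [_root_.Fin.forall_fin_succ, Fin.isValue, _root_.Matrix.SpecialLinearGroup.coe_one, _root_.Matrix.one_apply_eq, _root_.ne_eq, _root_.zero_ne_one, _root_.not_false_eq_true, _root_.Matrix.one_apply_ne, _root_.one_ne_zero, _root_.Matrix.of_apply, _root_.Matrix.cons_val', _root_.Matrix.cons_val_fin_one, _root_.Matrix.cons_val_zero, _root_.Matrix.cons_val_succ, _root_.IsEmpty.forall_iff, _root_.and_true, Nat.reduceAdd, _root_.Fin.succ_zero_eq_one, _root_.Fin.succ_one_eq_two, Fin.reduceEq, _root_.and_self, _root_.Fin.succ_ne_zero,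 _root_.true_and])
  map_mul' A B := by
    apply Cfsg.Agent.H906.SL3Par.ext'
    intro i j
    refine Eq.trans ?_ (mul_entry _ _ i j).symm
    (revert i j; simp only [Matrix.mul_apply, Fin.sum_univ_two, _root_.Fin.forall_fin_succ, Fin.isValue, _root_.Matrix.SpecialLinearGroup.coe_mul, _root_.Matrix.of_apply, _root_.Matrix.cons_val', _root_.Matrix.cons_val_fin_one, _root_.Matrix.cons_val_zero, _root_.Matrix.cons_val_one, _root_.Matrix.cons_val, _root_.mul_one, _root_.MulZeroClass.mul_zero, _root_.add_zero, _root_.Matrix.cons_val_succ, _root_.zero_add, _root_.forall_const, _root_.true_and, _root_.MulZeroClass.zero_mul, _root_.and_self, _root_.implies_true])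

theorem emb_val (A : _root_.Matrix.SpecialLinearGroup (Fin 2) K) :
    (emb K A).1 = !![1, 0, 0; 0, A.1 0 0, A.1 0 1; 0, A.1 1 0, A.1 1 1] := rfl

theorem sl2_sq (A : _root_.Matrix.SpecialLinearGroup (Fin 2) K) : A.1 * A.1 = (A.1 0 0 + A.1 1 1) • A.1 - 1 := by
  have hd := A.2
  rw [Matrix.det_fin_two] at hd
  ext i j
  rw [Matrix.mul_apply, Fin.sum_univ_two, Matrix.sub_apply, Matrix.smul_apply, smul_eq_mul]
  (revert i j; simp only [_root_.Fin.forall_fin_succ, Fin.isValue, _root_.Fin.succ_zero_eq_one, _root_.IsEmpty.forall_iff, _root_.Matrix.one_apply_eq, Nat.reduceAdd, _root_.ne_eq, _root_.zero_ne_one, _root_.not_false_eq_true, _root_.Matrix.one_apply_ne, _root_.sub_zero, _root_.Fin.succ_ne_zero, _root_.and_true, _root_.true_and]) <;> (repeat' with_reducible apply And.intro)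
  · linear_combination -hd
  · ring
  · ring
  · linear_combination -hd

theorem sl2_pow_three (hK2 : (2 : K) = 0) (A : _root_.Matrix.SpecialLinearGroup (Fin 2) K) (ht : A.1 0 0 + A.1 1 1 = 1) :
    A ^ 3 = 1 := by
  apply Subtype.ext
  have h1 := sl2_sq A
  rw [ht, one_smul] at h1
  change (A ^ 3).1 = 1
  rw [pow_succ, pow_two]
  change A.1 * A.1 * A.1 = 1
  rw [h1, sub_mul, h1, one_mul, sub_sub_cancel_left]
  ext i j
  rw [Matrix.neg_apply]
  linear_combination (-(1 : Matrix (Fin 2) (Fin 2) K) i j) * hK2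

theorem sl2_pow_five (hK2 : (2 : K) = 0) (A : _root_.Matrix.SpecialLinearGroup (Fin 2) K)
    (ht : (A.1 0 0 + A.1 1 1) * (A.1 0 0 + A.1 1 1) = A.1 0 0 + A.1 1 1 + 1) :
    A ^ 5 = 1 := by
  apply Subtype.ext
  have h1 := sl2_sq A
  generalize A.1 0 0 + A.1 1 1 = t at ht h1
  have hneg : ∀ M : Matrix (Fin 2) (Fin 2) K, -M = M := by
    intro M
    ext i j
    rw [Matrix.neg_apply]
    linear_combination (-M i j) * hK2
  have h2 : A.1 * A.1 = t • A.1 + 1 := by rw [h1, sub_eq_add_neg, hneg]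
  have h3 : A.1 * A.1 * A.1 = t • A.1 + t • 1 := by
    rw [h2, add_mul, one_mul, smul_mul_assoc, h2, smul_add, smul_smul, ht, add_smul, one_smul]
    have : A.1 + A.1 = 0 := by
      nth_rewrite 1 [← hneg A.1]
      rw [neg_add_cancel]
    calc t • A.1 + A.1 + t • 1 + A.1 = t • A.1 + t • 1 + (A.1 + A.1) := by abel
      _ = _ := by rw [this, add_zero]
  have h4 : A.1 * A.1 * (A.1 * A.1 * A.1) = 1 := by
    rw [h3, h2, mul_add, add_mul, add_mul, mul_smul_comm, smul_mul_assoc, h2, one_mul, mul_smul_comm, mul_one, one_mul]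
    ext i j
    simp only [Matrix.add_apply, Matrix.smul_apply, smul_eq_mul]
    generalize A.1 i j = a
    generalize (1 : Matrix (Fin 2) (Fin 2) K) i j = o
    linear_combination (a * (t + 2) + o) * ht + (a * (2 * t + 1) + o * t) * hK2
  change (A ^ 5).1 = 1
  have h5 : A ^ 5 = A * A * (A * A * A) := by
    rw [pow_succ, pow_succ, pow_succ, pow_two]
    simp only [mul_assoc]
  rw [h5]
  exact h4

/-- unipotent elements of `SL₂` are conjugate to upper unitriangular ones -/
theorem sl2_unip (hK2 : (2 : K) = 0) (A : _root_.Matrix.SpecialLinearGroup (Fin 2) K) (ht : A.1 0 0 + A.1 1 1 = 0) :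
    ∃ B : _root_.Matrix.SpecialLinearGroup (Fin 2) K, (B * A * B⁻¹).1 0 0 = 1 ∧ (B * A * B⁻¹).1 1 0 = 0 ∧ (B * A * B⁻¹).1 1 1 = 1 := by
  have hd := A.2
  rw [Matrix.det_fin_two] at hd
  by_cases hc : A.1 1 0 = 0
  · refine ⟨1, ?_⟩
    rw [one_mul, inv_one, mul_one]
    have h1 : (A.1 0 0 - 1) * (A.1 0 0 - 1) = 0 := by
      linear_combination A.1 0 0 * ht - hd - A.1 0 1 * hc - A.1 0 0 * hK2
    have h2 : A.1 0 0 = 1 := by
      rcases mul_eq_zero.1 h1 with h3 | h3 <;> exact sub_eq_zero.1 h3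
    refine ⟨h2, hc, ?_⟩
    linear_combination ht - h2 - hK2
  · -- `B⁻¹` has columns `(a + 1, c)`, `(c⁻¹, 0)`
    have key : ∃ B : _root_.Matrix.SpecialLinearGroup (Fin 2) K, B.1 = !![0, (A.1 1 0)⁻¹; A.1 1 0, A.1 0 0 + 1] := by
      refine ⟨⟨!![0, (A.1 1 0)⁻¹; A.1 1 0, A.1 0 0 + 1], ?_⟩, rfl⟩
      rw [Matrix.det_fin_two]
      simp [hc]
      linear_combination (-1) * hK2
    obtain ⟨B, hB⟩ := key
    have hBi : (B⁻¹).1 = !![A.1 0 0 + 1, -(A.1 1 0)⁻¹; -(A.1 1 0), 0] := by
      rw [Matrix.SpecialLinearGroup.coe_inv, hB, Matrix.adjugate_fin_two]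
      simp
    have hm : ∀ i j, (B * A * B⁻¹).1 i j = (B.1 * A.1 * (B⁻¹).1) i j := fun i j => rfl
    have h11 : A.1 1 1 = A.1 0 0 := by linear_combination ht - A.1 0 0 * hK2
    rw [h11] at hd
    refine ⟨B, ?_, ?_, ?_⟩
    · rw [hm, hB, hBi, Matrix.mul_apply, Fin.sum_univ_two, Matrix.mul_apply, Matrix.mul_apply, Fin.sum_univ_two,
        Fin.sum_univ_two]
      simp only [_root_.Fin.isValue, _root_.Matrix.of_apply, _root_.Matrix.cons_val', _root_.Matrix.cons_val_zero, _root_.Matrix.cons_val_fin_one, _root_.MulZeroClass.zero_mul, _root_.Matrix.cons_val_one, _root_.zero_add, _root_.mul_neg]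
      rw [h11]
      field_simp
      ring
    · rw [hm, hB, hBi, Matrix.mul_apply, Fin.sum_univ_two, Matrix.mul_apply, Matrix.mul_apply, Fin.sum_univ_two,
        Fin.sum_univ_two]
      simp only [_root_.Fin.isValue, _root_.Matrix.of_apply, _root_.Matrix.cons_val', _root_.Matrix.cons_val_zero, _root_.Matrix.cons_val_fin_one, _root_.Matrix.cons_val_one, _root_.mul_neg]
      rw [h11]
      linear_combination A.1 1 0 * hd + A.1 1 0 * (A.1 0 0 + 1) * hK2
    · rw [hm, hB, hBi, Matrix.mul_apply, Fin.sum_univ_two, Matrix.mul_apply, Matrix.mul_apply, Fin.sum_univ_two,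
        Fin.sum_univ_two]
      simp only [_root_.Fin.isValue, _root_.Matrix.of_apply, _root_.Matrix.cons_val', _root_.Matrix.cons_val_zero, _root_.Matrix.cons_val_fin_one, _root_.Matrix.cons_val_one, _root_.mul_neg, _root_.MulZeroClass.mul_zero, _root_.add_zero]
      field_simp
      linear_combination (-1 - A.1 0 0) * hK2

/-- the lower right block -/
def lr (K : Type*) [Field K] : Pb1 K →* _root_.Matrix.SpecialLinearGroup (Fin 2) K where
  toFun g := ⟨!![g.1.1 1 1, g.1.1 1 2; g.1.1 2 1, g.1.1 2 2], by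
    have hd := det_eq g.1
    obtain ⟨h0, h1, h2⟩ := g.2
    rw [h0, h1, h2] at hd
    rw [Matrix.det_fin_two]
    simp
    linear_combination hd⟩
  map_one' := by
    apply Subtype.ext
    ext i j
    (revert i j; simp only [_root_.Fin.forall_fin_succ, _root_.OneMemClass.coe_one, Fin.isValue, _root_.Matrix.SpecialLinearGroup.coe_one, _root_.Matrix.one_apply_eq, _root_.ne_eq, Fin.reduceEq, _root_.not_false_eq_true, _root_.Matrix.one_apply_ne, _root_.Matrix.of_apply, _root_.Matrix.cons_val', _root_.Matrix.cons_val_fin_one, _root_.Matrix.cons_val_zero, _root_.Matrix.cons_val_succ, _root_.IsEmpty.forall_iff, _root_.and_true, Nat.reduceAdd, _root_.Fin.succ_zero_eq_one, _root_.zero_ne_one, _root_.and_self, _root_.Fin.succ_ne_zero, _root_.true_and])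
  map_mul' g h := by
    obtain ⟨h0, h1, h2⟩ := g.2
    apply Subtype.ext
    have e : ∀ i j, ((g * h : Pb1 K) : X K).1 i j =
      g.1.1 i 0 * h.1.1 0 j + g.1.1 i 1 * h.1.1 1 j + g.1.1 i 2 * h.1.1 2 j := fun i j => mul_entry g.1 h.1 i j
    change !![(g * h : Pb1 K).1.1 1 1, (g * h : Pb1 K).1.1 1 2; (g * h : Pb1 K).1.1 2 1, (g * h : Pb1 K).1.1 2 2] =
      !![g.1.1 1 1, g.1.1 1 2; g.1.1 2 1, g.1.1 2 2] * !![h.1.1 1 1, h.1.1 1 2; h.1.1 2 1, h.1.1 2 2]
    rw [Matrix.mul_fin_two, e, e, e, e, h1, h2]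
    simp only [_root_.Fin.isValue, _root_.MulZeroClass.zero_mul, _root_.zero_add]

theorem emb_mem (A : _root_.Matrix.SpecialLinearGroup (Fin 2) K) : emb K A ∈ Pb1 K := by
  refine ⟨?_, ?_, ?_⟩ <;> simp only [emb_val, _root_.Fin.isValue, _root_.Matrix.of_apply, _root_.Matrix.cons_val', _root_.Matrix.cons_val_zero, _root_.Matrix.cons_val_fin_one, _root_.Matrix.cons_val_one, _root_.Matrix.cons_val]

theorem lr_emb (A : _root_.Matrix.SpecialLinearGroup (Fin 2) K) : lr K ⟨emb K A, emb_mem A⟩ = A := by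
  apply Subtype.ext
  ext i j
  fin_cases i <;> fin_cases j <;> rfl

theorem lr_00 (g : Pb1 K) : (lr K g).1 0 0 = g.1.1 1 1 := rfl
theorem lr_01 (g : Pb1 K) : (lr K g).1 0 1 = g.1.1 1 2 := rfl
theorem lr_10 (g : Pb1 K) : (lr K g).1 1 0 = g.1.1 2 1 := rfl
theorem lr_11 (g : Pb1 K) : (lr K g).1 1 1 = g.1.1 2 2 := rfl

theorem exists_conj_emb (g : Pb1 K) (ht : (2 : K) - ((lr K g).1 0 0 + (lr K g).1 1 1) ≠ 0) :
    ∃ u : X K, (g : X K) = u * emb K (lr K g) * u⁻¹ := by
  obtain ⟨h0, h1, h2⟩ := g.2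
  have hd := det_eq g.1
  rw [h0, h1, h2] at hd
  rw [lr_00, lr_11] at ht
  set t' := (2 : K) - (g.1.1 1 1 + g.1.1 2 2) with ht'
  have hdt : (g.1.1 1 1 - 1) * (g.1.1 2 2 - 1) - g.1.1 1 2 * g.1.1 2 1 = t' := by
    rw [ht']
    linear_combination hd
  refine ⟨uni ((g.1.1 0 1 * (g.1.1 2 2 - 1) - g.1.1 0 2 * g.1.1 2 1) / t') 0
    ((g.1.1 0 2 * (g.1.1 1 1 - 1) - g.1.1 0 1 * g.1.1 1 2) / t'), ?_⟩
  rw [eq_mul_inv_iff_mul_eq]
  apply Cfsg.Agent.H906.SL3Par.ext'
  intro i j
  rw [mul_entry, mul_entry]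
  fin_cases i <;> fin_cases j <;> simp only [uni, emb_val, lr_00, lr_01, lr_10, lr_11, h0, h1, h2, _root_.Fin.zero_eta, _root_.Fin.isValue, _root_.Matrix.of_apply, _root_.Matrix.cons_val', _root_.Matrix.cons_val_zero, _root_.Matrix.cons_val_fin_one, _root_.mul_one, _root_.Matrix.cons_val_one, _root_.MulZeroClass.mul_zero, _root_.add_zero, _root_.Matrix.cons_val, _root_.Fin.mk_one, _root_.one_mul, _root_.zero_add, _root_.Fin.reduceFinMk, _root_.MulZeroClass.zero_mul]
  · field_simp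
    linear_combination (-g.1.1 0 1) * hdt
  · field_simp
    linear_combination (-g.1.1 0 2) * hdt

/-- elements of the stabiliser of a vector in `SL₃(4)` -/
theorem pb1_cases [Fintype K] (hK : Fintype.card K = 4) {x : X K} (hx : x ∈ Pb1 K) :
    (∃ y, y * x * y⁻¹ ∈ U K) ∨ ∃ n, (n = 3 ∨ n = 5) ∧ x ^ n = 1 ∧ ∃ y, y * x * y⁻¹ = x⁻¹ := by
  have k2 := two_eq_zero hK
  set A := lr K ⟨x, hx⟩ with hA
  by_cases ht : A.1 0 0 + A.1 1 1 = 0
  · left
    obtain ⟨B, hB0, hB1, hB2⟩ := sl2_unip k2 A ht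
    refine ⟨emb K B, ?_⟩
    have hmem : emb K B * x * (emb K B)⁻¹ ∈ Pb1 K :=
      (Pb1 K).mul_mem ((Pb1 K).mul_mem (emb_mem B) hx) ((Pb1 K).inv_mem (emb_mem B))
    have h1 : lr K ⟨emb K B * x * (emb K B)⁻¹, hmem⟩ = B * A * B⁻¹ := by
      have h2 : (⟨emb K B * x * (emb K B)⁻¹, hmem⟩ : Pb1 K) = ⟨emb K B, emb_mem B⟩ * ⟨x, hx⟩ * ⟨emb K B, emb_mem B⟩⁻¹ :=
        rfl
      rw [h2, map_mul, map_mul, map_inv, lr_emb]
    rw [← h1] at hB0 hB1 hB2
    rw [lr_00] at hB0
    rw [lr_10] at hB1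
    rw [lr_11] at hB2
    obtain ⟨m0, m1, m2⟩ := hmem
    refine ⟨(emb K B * x * (emb K B)⁻¹).1 0 1, (emb K B * x * (emb K B)⁻¹).1 1 2,
      (emb K B * x * (emb K B)⁻¹).1 0 2, ?_⟩
    apply Cfsg.Agent.H906.SL3Par.ext'
    intro i j
    fin_cases i <;> fin_cases j
    · exact m0
    · rfl
    · rfl
    · exact m1
    · exact hB0
    · rfl
    · exact m2
    · exact hB1
    · exact hB2
  · right
    obtain ⟨u, hu⟩ := exists_conj_emb ⟨x, hx⟩ (by
      rw [← hA]
      intro h0
      apply ht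
      linear_combination k2 - h0)
    rw [← hA] at hu
    change x = _ at hu
    have hpow : ∀ n, A ^ n = 1 → x ^ n = 1 := by
      intro n hn
      rw [hu, conj_pow, ← map_pow, hn, map_one, mul_one, mul_inv_cancel]
    obtain ⟨B, hB⟩ := Cfsg.Agent.H906.SL2_conj_inv A (by
      intro h0
      apply ht
      have h1 : (A.1 0 0 + A.1 1 1) * (A.1 0 0 + A.1 1 1) = 0 := by linear_combination h0 + 2 * k2
      rcases mul_eq_zero.1 h1 with h2 | h2 <;> exact h2)
    have hreal : ∃ y, y * x * y⁻¹ = x⁻¹ := by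
      refine ⟨u * emb K B * u⁻¹, ?_⟩
      have h1 : emb K B * emb K A * (emb K B)⁻¹ = (emb K A)⁻¹ := by
        rw [← map_mul, ← map_inv, ← map_mul, hB, map_inv]
      calc u * emb K B * u⁻¹ * x * (u * emb K B * u⁻¹)⁻¹
          = u * (emb K B * emb K A * (emb K B)⁻¹) * u⁻¹ := by rw [hu]; group
        _ = x⁻¹ := by rw [h1, hu]; group
    by_cases ht1 : A.1 0 0 + A.1 1 1 = 1
    · exact ⟨3, Or.inl rfl, hpow 3 (sl2_pow_three k2 A ht1), hreal⟩
    · exact ⟨5, Or.inr rfl, hpow 5 (sl2_pow_five k2 A (sq_eq hK ht ht1)), hreal⟩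

end Emb

section Tr

variable {k : Type*} [Field k] {Λ : Type*} [Group Λ] {G : Type*} [Group G] {ρ : Λ →* M8 k} {π : Λ →* G}

/-- the trace data of an element -/
def Good (ρ : Λ →* M8 k) (Q : ℕ) (g : Λ) : Prop :=
  ∃ c τ : k, c ^ 4 = 1 ∧ τ ^ Q = τ ∧ (ρ g).trace = c * τ ∧ (ρ g⁻¹).trace = c⁻¹ * τ

theorem nat_pow_char (p : ℕ) [hp : Fact p.Prime] [CharP k p] (e m : ℕ) : ((m : ℕ) : k) ^ p ^ e = m := by
  have := map_natCast (iterateFrobenius k p e) m
  rwa [iterateFrobenius_def] at this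

theorem good_of_scalar (p : ℕ) [hp : Fact p.Prime] [CharP k p] (e : ℕ) {g : Λ} {c : k} (hc4 : c ^ 4 = 1)
    (hc : ρ g = c • (1 : M8 k)) : Good ρ (p ^ e) g := by
  have hc0 : c ≠ 0 := by
    rintro rfl
    norm_num at hc4
  have h1 : ρ g⁻¹ = c⁻¹ • (1 : M8 k) := by
    have h2 := inv_mul' ρ g
    rw [hc, mul_smul_comm, mul_one] at h2
    rw [← h2, smul_smul, inv_mul_cancel₀ hc0, one_smul]
  refine ⟨c, 8, hc4, ?_, ?_, ?_⟩
  · have := nat_pow_char (k := k) p e 8
    exact_mod_cast this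
  · rw [hc, Matrix.trace_smul, Matrix.trace_one, Fintype.card_fin, smul_eq_mul]
    norm_num
  · rw [h1, Matrix.trace_smul, Matrix.trace_one, Fintype.card_fin, smul_eq_mul]
    norm_num

theorem good_conj {Q : ℕ} {g y : Λ} (h : Good ρ Q (y * g * y⁻¹)) : Good ρ Q g := by
  obtain ⟨c, τ, h1, h2, h3, h4⟩ := h
  refine ⟨c, τ, h1, h2, ?_, ?_⟩
  · rw [← h3, map_mul, Matrix.trace_mul_comm, ← map_mul, inv_mul_cancel_left]
  · rw [← h4, show (y * g * y⁻¹)⁻¹ = y * g⁻¹ * y⁻¹ by group, map_mul, Matrix.trace_mul_comm, ← map_mul,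
      inv_mul_cancel_left]

theorem good_of_real (h : PR ρ π) (p : ℕ) [hp : Fact p.Prime] [CharP k p] (e : ℕ)
    (hQ : p ^ e % 5 = 0 ∨ p ^ e % 5 = 1 ∨ p ^ e % 5 = 4)
    (hZ : ∀ g, π g = 1 → ∃ c : k, c ^ 4 = 1 ∧ ρ g = c • (1 : M8 k)) {g : Λ} {n : ℕ} (hn : n = 3 ∨ n = 5)
    (hgn : π g ^ n = 1) (hreal : ∃ y, y * π g * y⁻¹ = (π g)⁻¹) : Good ρ (p ^ e) g := by
  -- the element of order `n`
  have h15 : π g ^ 15 = 1 := by
    rcases hn with rfl | rfl
    · rw [show 15 = 3 * 5 by norm_num, pow_mul, hgn, one_pow]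
    · rw [show 15 = 5 * 3 by norm_num, pow_mul, hgn, one_pow]
  obtain ⟨c, hc4, hc⟩ := hZ (g ^ 15) (by rw [map_pow, h15])
  have hc0 : c ≠ 0 := by
    rintro rfl
    norm_num at hc4
  set g' := g ^ 16 with hg'
  have hπg' : π g' = π g := by rw [hg', map_pow, pow_succ, h15, one_mul]
  have hρg' : ρ g' = c • ρ g := by rw [hg', pow_succ, map_mul, hc, smul_mul_assoc, one_mul]
  obtain ⟨d, hd4, hd⟩ := hZ (g ^ n) (by rw [map_pow, hgn])
  have hMn : ρ g' ^ n = 1 := by
    rw [← map_pow, hg', ← pow_mul, mul_comm 16 n, pow_mul, map_pow, hd, smul_pow, one_pow,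
      show d ^ 16 = (d ^ 4) ^ 4 by ring, hd4, one_pow, one_smul]
  have hMin : ρ g'⁻¹ ^ n = 1 := by
    have h1 : ρ g' ^ n * ρ g'⁻¹ ^ n = 1 := by
      rw [← map_pow, ← map_pow, inv_pow, mul_inv']
    rwa [hMn, one_mul] at h1
  have hMi : ρ g' ^ (n - 1) = ρ g'⁻¹ := by
    have h1 : ρ g' ^ (n - 1) * ρ g' = 1 := by
      rw [← pow_succ, Nat.sub_add_cancel (by rcases hn with rfl | rfl <;> norm_num), hMn]
    calc ρ g' ^ (n - 1) = ρ g' ^ (n - 1) * (ρ g' * ρ g'⁻¹) := by rw [mul_inv', mul_one]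
      _ = ρ g'⁻¹ := by rw [← mul_assoc, h1, one_mul]
  -- real
  have htr : (ρ g'⁻¹).trace = (ρ g').trace := by
    obtain ⟨y, hy⟩ := hreal
    obtain ⟨Y, rfl⟩ := h.surj y
    obtain ⟨f, hf4, hf⟩ := hZ (Y * g' * Y⁻¹ * g') (by
      rw [map_mul, map_mul, map_mul, map_inv, hπg', hy, inv_mul_cancel])
    have h1 : ρ (Y * g' * Y⁻¹) = f • ρ g'⁻¹ := by
      have h2 : ρ (Y * g' * Y⁻¹ * g') * ρ g'⁻¹ = ρ (Y * g' * Y⁻¹) := by
        rw [← map_mul, mul_inv_cancel_right]
      rw [← h2, hf, smul_mul_assoc, one_mul]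
    have h3 : ρ (Y * g' * Y⁻¹) ^ n = 1 := by
      rw [← map_pow, conj_pow, map_mul, map_mul, map_pow, hMn, mul_one, mul_inv']
    rw [h1, smul_pow, hMin] at h3
    have h4 : f ^ n = 1 := by
      apply smul_one_inj (k := k)
      rw [h3, one_smul]
    have h5 : f = 1 := by
      rcases hn with rfl | rfl
      · calc f = f ^ 4 * (f ^ 3)⁻¹ := by
              rw [h4, inv_one, mul_one, show f ^ 4 = f ^ 3 * f by ring, h4, one_mul]
          _ = 1 := by rw [hf4, h4, inv_one, mul_one]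
      · calc f = f ^ 4 * f := by rw [hf4, one_mul]
          _ = f ^ 5 := by ring
          _ = 1 := h4
    rw [h5, one_smul] at h1
    rw [← h1, map_mul, Matrix.trace_mul_comm, ← map_mul, inv_mul_cancel_left]
  -- Frobenius
  have hQ' : p ^ e % n = 0 ∨ p ^ e % n = 1 ∨ p ^ e % n = n - 1 := by
    rcases hn with rfl | rfl
    · omega
    · exact hQ
  have hFr : (ρ g').trace ^ p ^ e = (ρ g').trace := by
    have h1 : (ρ g' ^ p ^ e).trace = (ρ g').trace ^ p ^ e := H911.Base.trace_pow_char_pow p _ e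
    have h2 : ρ g' ^ p ^ e = ρ g' ^ (p ^ e % n) := by
      conv_lhs => rw [← Nat.div_add_mod (p ^ e) n, pow_add, pow_mul, hMn, one_pow, one_mul]
    rcases hQ' with h3 | h3 | h3
    · rw [h2, h3, pow_zero, Matrix.trace_one, Fintype.card_fin] at h1
      have h4 := nat_pow_char (k := k) p e 8
      have h5 : ((ρ g').trace - ((8 : ℕ) : k)) ^ p ^ e = 0 := by
        rw [sub_pow_char_pow, ← h1, h4, sub_self]
      have h6 := sub_eq_zero.1 ((pow_eq_zero_iff (pow_ne_zero _ hp.out.ne_zero)).1 h5)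
      rw [h6, h4]
    · rw [h2, h3, pow_one] at h1
      exact h1.symm
    · rw [h2, h3, hMi, htr] at h1
      exact h1.symm
  -- conclusion
  have hρ : ρ g = c⁻¹ • ρ g' := by rw [hρg', smul_smul, inv_mul_cancel₀ hc0, one_smul]
  have hρi : ρ g⁻¹ = c • ρ g'⁻¹ := by
    have h1 : ρ g⁻¹ * ρ g * ρ g'⁻¹ = ρ g'⁻¹ := by rw [inv_mul', one_mul]
    rw [hρ, mul_smul_comm, smul_mul_assoc, mul_assoc, mul_inv', mul_one] at h1
    rw [← h1, smul_smul, mul_inv_cancel₀ hc0, one_smul]
  refine ⟨c⁻¹, (ρ g').trace, by rw [inv_pow, hc4, inv_one], hFr, ?_, ?_⟩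
  · rw [hρ, Matrix.trace_smul, smul_eq_mul]
  · rw [hρi, Matrix.trace_smul, smul_eq_mul, inv_inv, htr]

end Tr

section Par

variable {k : Type*} [Field k] {Λ : Type*} [Group Λ] {K : Type*} [Field K] [Fintype K]
  {ρ : Λ →* M8 k} {π : Λ →* X K}

theorem good_Pb1 (h : PR ρ π) (h2 : (2 : k) ≠ 0) (hK : Fintype.card K = 4) (p : ℕ) [hp : Fact p.Prime] [CharP k p]
    (e : ℕ) (hQ : p ^ e % 5 = 0 ∨ p ^ e % 5 = 1 ∨ p ^ e % 5 = 4)
    (hZ : ∀ g, π g = 1 → ∃ c : k, c ^ 4 = 1 ∧ ρ g = c • (1 : M8 k)) {g : Λ} (hg : π g ∈ Pb1 K) :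
    Good ρ (p ^ e) g := by
  rcases pb1_cases hK hg with ⟨y, hy⟩ | ⟨n, hn, hgn, hreal⟩
  · obtain ⟨Y, rfl⟩ := h.surj y
    rw [← map_inv, ← map_mul, ← map_mul] at hy
    apply good_conj (y := Y)
    by_cases h1 : π (Y * g * Y⁻¹) = 1
    · obtain ⟨c, hc4, hc⟩ := hZ _ h1
      exact good_of_scalar p e hc4 hc
    · refine ⟨1, 0, one_pow _, zero_pow (pow_ne_zero _ hp.out.ne_zero), ?_, ?_⟩
      · rw [trace_U h h2 hK hy h1, mul_zero]
      · rw [trace_U h h2 hK (g := (Y * g * Y⁻¹)⁻¹) (by rw [map_inv]; exact inv_mem hy) (by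
          rw [map_inv]
          intro h0
          exact h1 (inv_eq_one.1 h0)), mul_zero]
  · exact good_of_real h p e hQ hZ hn hgn hreal

end Par

end Cfsg.Agent.H924.L34
end

-- part: H924/L34Glue
section
/-!
# `SL₃(4)` in dimension eight: Frobenius and duality (helper924)
-/

set_option autoImplicit false

namespace Cfsg.Agent.H924.L34

open Module Matrix Cfsg.Agent.H906.SL3Par Cfsg.Agent.H906.L34

/-! ### the graph automorphism -/

section Graph

variable {K : Type*} [Field K]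

/-- `x ↦ w x⁻ᵀ w` -/
def gr (K : Type*) [Field K] : X K →* X K where
  toFun x := ⟨((x⁻¹).1)ᵀ.submatrix Fin.rev Fin.rev, by
    have h1 : (((x⁻¹).1)ᵀ.submatrix Fin.revPerm Fin.revPerm).det = (((x⁻¹).1)ᵀ).det :=
      Matrix.det_submatrix_equiv_self Fin.revPerm _
    rw [Matrix.det_transpose, (x⁻¹).2] at h1
    exact h1⟩
  map_one' := by
    apply Subtype.ext
    change (((1 : X K)⁻¹).1)ᵀ.submatrix Fin.rev Fin.rev = 1
    rw [inv_one]
    change ((1 : Matrix (Fin 3) (Fin 3) K))ᵀ.submatrix Fin.rev Fin.rev = 1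
    rw [Matrix.transpose_one]
    exact Matrix.submatrix_one Fin.rev Fin.rev_injective
  map_mul' x y := by
    apply Subtype.ext
    change (((x * y)⁻¹).1)ᵀ.submatrix Fin.rev Fin.rev =
      ((x⁻¹).1)ᵀ.submatrix Fin.rev Fin.rev * ((y⁻¹).1)ᵀ.submatrix Fin.rev Fin.rev
    rw [_root_.mul_inv_rev, coe_mul', Matrix.transpose_mul]
    exact (Matrix.submatrix_mul_equiv _ _ Fin.rev Fin.revPerm Fin.rev).symm

theorem gr_apply (x : X K) (i j : Fin 3) : (gr K x).1 i j = (x⁻¹).1 (Fin.rev j) (Fin.rev i) := rfl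

theorem gr_gr (x : X K) : gr K (gr K x) = x := by
  apply Cfsg.Agent.H906.SL3Par.ext'
  intro i j
  rw [gr_apply, ← map_inv, gr_apply, inv_inv, Fin.rev_rev, Fin.rev_rev]

theorem gr_surjective : Function.Surjective (gr K) := fun x => ⟨gr K x, gr_gr x⟩

theorem gr_mem {x : X K} (hx : x ∈ Pa1 K) : gr K x ∈ Pb1 K := by
  obtain ⟨h0, h1, h2⟩ := (Pa1 K).inv_mem hx
  exact ⟨h2, h1, h0⟩

theorem pr_gr {k : Type*} [Field k] {Λ : Type*} [Group Λ] {ρ : Λ →* M8 k} {π : Λ →* X K} (h : PR ρ π) :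
    PR ρ ((gr K).comp π) where
  surj := gr_surjective.comp h.surj
  scal := fun g hg => h.scal g (by
    have h1 : gr K (π g) = 1 := hg
    rw [← gr_gr (π g), h1, map_one])
  cent := fun g hg => by
    have h1 := h.cent g hg
    rw [Subgroup.mem_center_iff] at h1 ⊢
    intro y
    change y * gr K (π g) = gr K (π g) * y
    rw [← gr_gr y, ← map_mul, ← map_mul, h1]
  span := h.span

theorem Pb1_sup_Pa1 : Pb1 K ⊔ Pa1 K = ⊤ := by
  rw [eq_top_iff, ← Cfsg.Agent.LieClassical.SLGen.closure_transvections (ι := Fin 3) (F := K), Subgroup.closure_le]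
  rintro _ ⟨i, j, hij, c, rfl⟩
  set S := Pb1 K ⊔ Pa1 K with hS
  have lb : Pb1 K ≤ S := le_sup_left
  have la : Pa1 K ≤ S := le_sup_right
  change tv hij c ∈ S
  have t21 : ∀ c : K, tv h21 c ∈ S := by
    intro c
    apply lb
    refine ⟨?_, ?_, ?_⟩ <;> simp [tv_val]
  have t10 : ∀ c : K, tv h10 c ∈ S := by
    intro c
    apply la
    refine ⟨?_, ?_, ?_⟩ <;> simp [tv_val]
  have t20 : tv h20 c ∈ S := by
    have h3 := Cfsg.Agent.LieClassical.SLGen.commutator_transvection (F := K) h20 h21 h10 c 1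
    rw [mul_one] at h3
    change tv h21 c * tv h10 1 * (tv h21 c)⁻¹ * (tv h10 1)⁻¹ = tv h20 c at h3
    rw [← h3]
    exact S.mul_mem (S.mul_mem (S.mul_mem (t21 c) (t10 1)) (S.inv_mem (t21 c))) (S.inv_mem (t10 1))
  fin_cases i <;> fin_cases j
  · exact absurd rfl hij
  · apply lb
    refine ⟨?_, ?_, ?_⟩ <;> simp [tv_val]
  · apply lb
    refine ⟨?_, ?_, ?_⟩ <;> simp [tv_val]
  · exact t10 c
  · exact absurd rfl hij
  · apply lb
    refine ⟨?_, ?_, ?_⟩ <;> simp [tv_val]
  · exact t20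
  · exact t21 c
  · exact absurd rfl hij

theorem U_le_Pb1 : U K ≤ Pb1 K := by
  rintro _ ⟨a, b, c, rfl⟩
  refine ⟨?_, ?_, ?_⟩ <;> simp [uni]

theorem U_le_Pa1 : U K ≤ Pa1 K := by
  rintro _ ⟨a, b, c, rfl⟩
  refine ⟨?_, ?_, ?_⟩ <;> simp [uni]

end Graph

/-! ### glueing -/

theorem glue {F : Type*} [Field F] {ι : Type} [Fintype ι] [DecidableEq ι] [Nonempty ι] {Γ : Type*} [Group Γ]
    (ρ₁ ρ₂ : Γ →* Matrix ι ι F) (V H1 H2 : Subgroup Γ) (hV1 : V ≤ H1) (hV2 : V ≤ H2)
    (hs₁ : Submodule.span F (ρ₁ '' V) = ⊤) (hs₂ : Submodule.span F (ρ₂ '' V) = ⊤)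
    (t1 : ∀ g ∈ H1, (ρ₁ g).trace = (ρ₂ g).trace) (t2 : ∀ g ∈ H2, (ρ₁ g).trace = (ρ₂ g).trace)
    (hgen : H1 ⊔ H2 = ⊤) (g : Γ) : (ρ₁ g).trace = (ρ₂ g).trace := by
  have mono : ∀ (ρ : Γ →* Matrix ι ι F) (H : Subgroup Γ), V ≤ H → Submodule.span F (ρ '' V) = ⊤ →
      Submodule.span F (ρ '' H) = ⊤ := by
    intro ρ H hVH hs
    rw [eq_top_iff, ← hs]
    exact Submodule.span_mono (Set.image_mono hVH)
  obtain ⟨B, hB⟩ := exists_agree ρ₁ ρ₂ H1 (mono _ _ hV1 hs₁) (mono _ _ hV1 hs₂) t1
  obtain ⟨C, hC⟩ := exists_agree ρ₁ ρ₂ H2 (mono _ _ hV2 hs₁) (mono _ _ hV2 hs₂) t2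
  have h1 := agree_eq hs₁ (hV1.trans hB) (hV2.trans hC)
  have h2 : g ∈ agree ρ₁ ρ₂ B := by
    have h3 : (⊤ : Subgroup Γ) ≤ agree ρ₁ ρ₂ B := by
      rw [← hgen]
      exact sup_le hB (h1 ▸ hC)
    exact h3 trivial
  rw [← mem_agree.1 h2, cjB_apply, Matrix.trace_mul_comm, ← mul_assoc]
  rw [← Units.val_mul, inv_mul_cancel, Units.val_one, one_mul]

section Main

variable {k : Type*} [Field k] [Finite k] {Λ : Type*} [Group Λ] {K : Type*} [Field K] [Fintype K]
  {ρ : Λ →* M8 k} {π : Λ →* X K}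

theorem image_eq_range (ρ : Λ →* M8 k) (V : Subgroup Λ) : ρ '' V = Set.range (ρ.comp V.subtype) := by
  ext A
  constructor
  · rintro ⟨g, hg, rfl⟩
    exact ⟨⟨g, hg⟩, rfl⟩
  · rintro ⟨g, rfl⟩
    exact ⟨g, g.2, rfl⟩

/-- the Frobenius automorphism -/
noncomputable def frE (k : Type*) [Field k] [Finite k] (p : ℕ) [hp : Fact p.Prime] [CharP k p] (e : ℕ) : k ≃+* k :=
  RingEquiv.ofBijective (iterateFrobenius k p e)
    ⟨iterateFrobenius_inj k p e, Finite.injective_iff_surjective.1 (iterateFrobenius_inj k p e)⟩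

theorem frE_apply (p : ℕ) [hp : Fact p.Prime] [CharP k p] (e : ℕ) (x : k) : frE k p e x = x ^ p ^ e :=
  iterateFrobenius_def p e x

theorem good_H (h : PR ρ π) (h2 : (2 : k) ≠ 0) (hK : Fintype.card K = 4) (p : ℕ) [hp : Fact p.Prime] [CharP k p]
    (e : ℕ) (hQ : p ^ e % 5 = 0 ∨ p ^ e % 5 = 1 ∨ p ^ e % 5 = 4)
    (hZ : ∀ g, π g = 1 → ∃ c : k, c ^ 4 = 1 ∧ ρ g = c • (1 : M8 k)) {g : Λ} (hg : π g ∈ Pb1 K ∨ π g ∈ Pa1 K) :
    Good ρ (p ^ e) g := by
  rcases hg with hg | hg
  · exact good_Pb1 h h2 hK p e hQ hZ hg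
  · exact good_Pb1 (pr_gr h) h2 hK p e hQ (fun g hg => hZ g (by
      have h1 : gr K (π g) = 1 := hg
      rw [← gr_gr (π g), h1, map_one])) (gr_mem hg)

theorem main_aux (h : PR ρ π) (h2 : (2 : k) ≠ 0) (hK : Fintype.card K = 4) (ρ₁ ρ₂ : Λ →* M8 k)
    (hs₁ : Submodule.span k (ρ₁ '' {g | π g ∈ U K}) = ⊤) (hs₂ : Submodule.span k (ρ₂ '' {g | π g ∈ U K}) = ⊤)
    (ht : ∀ g, (π g ∈ Pb1 K ∨ π g ∈ Pa1 K) → (ρ₁ g).trace = (ρ₂ g).trace) (g : Λ) :
    (ρ₁ g).trace = (ρ₂ g).trace := by
  refine glue ρ₁ ρ₂ ((U K).comap π) ((Pb1 K).comap π) ((Pa1 K).comap π) (Subgroup.comap_mono U_le_Pb1)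
    (Subgroup.comap_mono U_le_Pa1) hs₁ hs₂ (fun g hg => ht g (Or.inl hg)) (fun g hg => ht g (Or.inr hg)) ?_ g
  rw [Subgroup.comap_sup_eq _ _ _ h.surj, Pb1_sup_Pa1, Subgroup.comap_top]

theorem span_twist' (ρ : Λ →* M8 k) (σ : k ≃+* k) (V : Subgroup Λ) (hs : Submodule.span k (ρ '' V) = ⊤) :
    Submodule.span k (H906.twist σ ρ '' V) = ⊤ := by
  have e1 : (H906.twist σ ρ).comp V.subtype = H906.twist σ (ρ.comp V.subtype) := MonoidHom.ext fun _ => rfl
  rw [image_eq_range ρ V] at hs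
  rw [image_eq_range (H906.twist σ ρ) V, e1]
  exact H906.span_twist σ hs

theorem span_contra' (ρ : Λ →* M8 k) (V : Subgroup Λ) (hs : Submodule.span k (ρ '' V) = ⊤) :
    Submodule.span k (H906.contra ρ '' V) = ⊤ := by
  have e1 : (H906.contra ρ).comp V.subtype = H906.contra (ρ.comp V.subtype) := by
    apply MonoidHom.ext
    intro x
    change (ρ ((x : Λ)⁻¹))ᵀ = (ρ ((x⁻¹ : V) : Λ))ᵀ
    rw [Subgroup.coe_inv]
  rw [image_eq_range ρ V] at hs
  rw [image_eq_range (H906.contra ρ) V, e1]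
  exact H906.span_contra hs

/-- **Frobenius** -/
theorem fr_all (h : PR ρ π) (h2 : (2 : k) ≠ 0) (hK : Fintype.card K = 4) (p : ℕ) [hp : Fact p.Prime] [CharP k p]
    (e : ℕ) (hQ : p ^ e % 5 = 0 ∨ p ^ e % 5 = 1 ∨ p ^ e % 5 = 4) (hQ4 : p ^ e % 4 = 1)
    (hZ : ∀ g, π g = 1 → ∃ c : k, c ^ 4 = 1 ∧ ρ g = c • (1 : M8 k)) (g : Λ) :
    (ρ g).trace ^ p ^ e = (ρ g).trace := by
  have hs := span_U h h2 hK
  have h1 := main_aux h h2 hK ρ (H906.twist (frE k p e) ρ) hs (span_twist' ρ _ ((U K).comap π) hs) (by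
    intro g hg
    obtain ⟨c, τ, hc4, hτ, h3, h4⟩ := good_H h h2 hK p e hQ hZ hg
    rw [H906.twist_apply, H906.map_trace', frE_apply, h3, mul_pow, hτ]
    congr 1
    conv_rhs => rw [← Nat.div_add_mod (p ^ e) 4, hQ4, pow_add, pow_mul, hc4, one_pow, one_mul, pow_one]) g
  rw [H906.twist_apply, H906.map_trace', frE_apply] at h1
  exact h1.symm

/-- **Frobenius and duality** -/
theorem cj_all (h : PR ρ π) (h2 : (2 : k) ≠ 0) (hK : Fintype.card K = 4) (p : ℕ) [hp : Fact p.Prime] [CharP k p]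
    (e : ℕ) (hQ : p ^ e % 5 = 0 ∨ p ^ e % 5 = 1 ∨ p ^ e % 5 = 4) (hQ4 : p ^ e % 4 = 3)
    (hZ : ∀ g, π g = 1 → ∃ c : k, c ^ 4 = 1 ∧ ρ g = c • (1 : M8 k)) (g : Λ) :
    (ρ g).trace ^ p ^ e = (ρ g⁻¹).trace := by
  have hs := span_U h h2 hK
  have h1 := main_aux h h2 hK (H906.contra ρ) (H906.twist (frE k p e) ρ) (span_contra' ρ ((U K).comap π) hs)
    (span_twist' ρ _ ((U K).comap π) hs) (by
    intro g hg
    obtain ⟨c, τ, hc4, hτ, h3, h4⟩ := good_H h h2 hK p e hQ hZ hg
    have hc0 : c ≠ 0 := by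
      rintro rfl
      norm_num at hc4
    rw [H906.twist_apply, H906.map_trace', frE_apply, h3, mul_pow, hτ, H906.contra_apply, Matrix.trace_transpose, h4]
    congr 1
    conv_rhs => rw [← Nat.div_add_mod (p ^ e) 4, hQ4, pow_add, pow_mul, hc4, one_pow, one_mul]
    rw [inv_eq_iff_eq_inv, eq_comm, inv_eq_iff_eq_inv]
    apply eq_inv_of_mul_eq_one_left
    rw [← pow_succ, hc4]) g
  rw [H906.twist_apply, H906.map_trace', frE_apply, H906.contra_apply, Matrix.trace_transpose] at h1
  exact h1.symm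

end Main

end Cfsg.Agent.H924.L34
end

-- part: H924/L34Small
section
/-!
# `SL₃(4)` in dimension eight: the field is not too small (helper924)
-/

set_option autoImplicit false

namespace Cfsg.Agent.H924.L34

open Module Matrix Cfsg.Agent.H906.SL3Par Cfsg.Agent.H906.L34

section Act

variable {k : Type*} [Field k] {Λ : Type*} [Group Λ] {G : Type*} [Group G] {ρ : Λ →* M8 k} {π : Λ →* G}

/-- An element of order five fixes an invariant additive group of order `p⁴` containing `1`, `p ≡ ±2 mod 5`. -/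
theorem fixes_of_five (h : PR ρ π) {p : ℕ} (hp : p.Prime) (hp5 : p % 5 = 2 ∨ p % 5 = 3) (Hs : AddSubgroup (M8 k))
    [Finite Hs] (hcard : Nat.card Hs = p ^ 4) (h1 : (1 : M8 k) ∈ Hs) {x : G} (hx : x ^ 5 = 1)
    (hst : ∀ y ∈ Subgroup.zpowers x, ∀ A ∈ Hs, h.cj y A ∈ Hs) : ∀ A ∈ Hs, h.cj x A = A := by
  classical
  have f5 : Fact (Nat.Prime 5) := ⟨by norm_num⟩
  let act : MulAction (Subgroup.zpowers x) Hs :=
    { smul := fun y A => ⟨h.cj (y : G) (A : M8 k), hst y y.2 A A.2⟩
      one_smul := fun A => Subtype.ext (h.cj_one_apply _)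
      mul_smul := fun y z A => Subtype.ext (h.cj_mul_apply _ _ _) }
  have hsm : ∀ (y : Subgroup.zpowers x) (A : Hs), ((y • A : Hs) : M8 k) = h.cj (y : G) (A : M8 k) := fun _ _ => rfl
  have hpg : IsPGroup 5 (Subgroup.zpowers x) := by
    rintro ⟨y, hy⟩
    refine ⟨1, ?_⟩
    obtain ⟨n, rfl⟩ := Subgroup.mem_zpowers_iff.1 hy
    apply Subtype.ext
    change (x ^ n) ^ (5 ^ 1) = 1
    rw [pow_one, ← zpow_natCast, ← _root_.zpow_mul, mul_comm, _root_.zpow_mul, zpow_natCast, hx,
      _root_.one_zpow]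
  have hmod := hpg.card_modEq_card_fixedPoints Hs
  let Fi : AddSubgroup (M8 k) :=
    { carrier := {A | A ∈ Hs ∧ h.cj x A = A}
      add_mem' := fun {A B} hA hB => ⟨Hs.add_mem hA.1 hB.1, by rw [map_add, hA.2, hB.2]⟩
      zero_mem' := ⟨Hs.zero_mem, map_zero _⟩
      neg_mem' := fun {A} hA => ⟨Hs.neg_mem hA.1, by rw [map_neg, hA.2]⟩ }
  have hFi : ∀ A, A ∈ Fi ↔ A ∈ Hs ∧ h.cj x A = A := fun _ => Iff.rfl
  have hle : Fi ≤ Hs := fun A hA => hA.1
  have hzp : ∀ A : M8 k, h.cj x A = A → ∀ y ∈ Subgroup.zpowers x, h.cj y A = A := by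
    intro A hA y hy
    have h3 : x ∈ h.fixer (Submodule.span k {A}) := by
      intro B hB
      obtain ⟨c, rfl⟩ := Submodule.mem_span_singleton.1 hB
      rw [map_smul, hA]
    have h4 : Subgroup.zpowers x ≤ h.fixer (Submodule.span k {A}) := by
      rw [Subgroup.zpowers_le]
      exact h3
    exact h4 hy A (Submodule.mem_span_singleton_self A)
  have hcf : Nat.card (MulAction.fixedPoints (Subgroup.zpowers x) Hs) = Nat.card Fi := by
    refine Nat.card_congr ⟨fun A => ⟨(A : Hs), A.1.2, ?_⟩, fun A => ⟨⟨A, A.2.1⟩, ?_⟩, fun A => rfl, fun A => rfl⟩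
    · have h3 := A.2 (⟨x, Subgroup.mem_zpowers x⟩ : Subgroup.zpowers x)
      exact congrArg Subtype.val h3
    · intro y
      apply Subtype.ext
      exact hzp A A.2.2 y y.2
  rw [hcf, hcard] at hmod
  have hfinFi : Finite Fi := Finite.of_injective (AddSubgroup.inclusion hle) (AddSubgroup.inclusion_injective hle)
  have hdvd : Nat.card Fi ∣ p ^ 4 := by
    rw [← hcard]
    exact AddSubgroup.card_dvd_of_le hle
  obtain ⟨j, hj, hjc⟩ := (Nat.dvd_prime_pow hp).1 hdvd
  have hj4 : j = 4 := by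
    by_contra hj4
    have hj0 : j ≠ 0 := by
      rintro rfl
      rw [pow_zero] at hjc
      have hs : Subsingleton Fi := (Nat.card_eq_one_iff_unique.1 hjc).1
      have h3 : (⟨1, h1, h.cj_oneM x⟩ : Fi) = ⟨0, Fi.zero_mem⟩ := Subsingleton.elim _ _
      exact one_ne_zero (congrArg Subtype.val h3)
    rw [hjc] at hmod
    unfold Nat.ModEq at hmod
    have hj' : j = 1 ∨ j = 2 ∨ j = 3 := by omega
    rcases hp5 with h5 | h5 <;> rcases hj' with rfl | rfl | rfl <;>
      (rw [Nat.pow_mod, Nat.pow_mod p _, h5] at hmod; norm_num at hmod)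
  rw [hj4, ← hcard] at hjc
  have heq : Fi = Hs := AddSubgroup.eq_of_le_of_card_ge hle hjc.ge
  intro A hA
  rw [← heq] at hA
  exact hA.2

end Act

section Main

variable {k : Type*} [Field k] [Finite k] {Λ : Type*} [Group Λ] {K : Type*} [Field K] [Fintype K]
  {ρ : Λ →* M8 k} {π : Λ →* X K}

theorem emb_pow {A : _root_.Matrix.SpecialLinearGroup (Fin 2) K} {n : ℕ} (h : A ^ n = 1) : emb K A ^ n = 1 := by
  rw [← map_pow, h, map_one]

/-- the transvection is a product of two elements of order five -/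
theorem exists_five (hK : Fintype.card K = 4) : ∃ A B : _root_.Matrix.SpecialLinearGroup (Fin 2) K,
    A ^ 5 = 1 ∧ B ^ 5 = 1 ∧ emb K A * emb K B = uni 0 1 0 := by
  have k2 := two_eq_zero hK
  obtain ⟨w, hw0, hw1⟩ := exists_omega hK
  have hww := sq_eq hK hw0 hw1
  obtain ⟨A, hA⟩ : ∃ A : _root_.Matrix.SpecialLinearGroup (Fin 2) K, A.1 = !![0, 1; 1, w] :=
    ⟨⟨!![0, 1; 1, w], by rw [Matrix.det_fin_two]; simp; linear_combination (-1) * k2⟩, rfl⟩
  obtain ⟨B, hB⟩ : ∃ B : _root_.Matrix.SpecialLinearGroup (Fin 2) K, B.1 = !![w, w + 1; 1, 1] :=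
    ⟨⟨!![w, w + 1; 1, 1], by rw [Matrix.det_fin_two]; simp; linear_combination (-1) * k2⟩, rfl⟩
  refine ⟨A, B, ?_, ?_, ?_⟩
  · apply sl2_pow_five k2
    rw [hA]
    simp
    exact hww
  · apply sl2_pow_five k2
    rw [hB]
    simp
    linear_combination hww + w * k2
  · rw [← map_mul]
    apply Cfsg.Agent.H906.SL3Par.ext'
    intro i j
    have hAB : (A * B).1 = !![1, 1; 0, 1] := by
      change A.1 * B.1 = _
      rw [hA, hB, Matrix.mul_fin_two]
      ext i j
      (revert i j; simp only [_root_.Fin.forall_fin_succ, _root_.MulZeroClass.zero_mul, _root_.mul_one, _root_.zero_add, _root_.one_mul, _root_.Matrix.of_apply, _root_.Matrix.cons_val', _root_.Matrix.cons_val_fin_one, Fin.isValue, _root_.Matrix.cons_val_zero, _root_.Matrix.cons_val_succ, _root_.forall_const, _root_.and_true, _root_.true_and]) <;> (repeat' with_reducible apply And.intro)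
      · linear_combination w * k2
      · linear_combination w * k2
    rw [emb_val, hAB]
    (revert i j; simp [uni, _root_.Fin.forall_fin_succ])

omit [Finite k] in
/-- **The field is not too small.** -/
theorem no_small (h : PR ρ π) (h2 : (2 : k) ≠ 0) (hK : Fintype.card K = 4) {p : ℕ} (hp : p.Prime)
    (hp5 : p % 5 = 2 ∨ p % 5 = 3) (Hs : AddSubgroup (M8 k)) [Finite Hs] (hcard : Nat.card Hs = p ^ 4)
    (h1 : (1 : M8 k) ∈ Hs) (hgen : ∀ A ∈ h.Fx (Qb K), ∃ B ∈ Hs, ∃ C ∈ Hs, ∃ c : k, A = B + c • C)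
    (hst : ∀ y ∈ Pb K, ∀ A ∈ Hs, h.cj y A ∈ Hs) : False := by
  obtain ⟨A, B, hA, hB, hAB⟩ := exists_five hK
  have key : ∀ A : _root_.Matrix.SpecialLinearGroup (Fin 2) K, A ^ 5 = 1 → ∀ Y ∈ Hs, h.cj (emb K A) Y = Y := by
    intro A hA
    apply fixes_of_five h hp hp5 Hs hcard h1 (emb_pow hA)
    intro y hy Y hY
    apply hst y _ Y hY
    have h3 : Subgroup.zpowers (emb K A) ≤ Pb K := by
      rw [Subgroup.zpowers_le]
      exact ⟨(emb_mem A).2.1, (emb_mem A).2.2⟩
    exact h3 hy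
  apply not_fix h h2 hK
  intro Y hY
  obtain ⟨Y1, h3, Y2, h4, c, rfl⟩ := hgen Y hY
  rw [← hAB, PR.cj_mul_apply, map_add, map_smul, key B hB Y1 h3, key B hB Y2 h4, map_add, map_smul,
    key A hA Y1 h3, key A hA Y2 h4]

/-- **The prime field is too small if `p ≡ ±2 mod 5`.** -/
theorem not_prime_field (h : PR ρ π) (h2 : (2 : k) ≠ 0) (hK : Fintype.card K = 4) {p : ℕ} (hp : p.Prime)
    (hp5 : p % 5 = 2 ∨ p % 5 = 3) : Nat.card k ≠ p := by
  intro hk
  have hfin : Finite (h.Fx (Qb K)).toAddSubgroup := Subtype.finite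
  refine no_small h h2 hK hp hp5 (h.Fx (Qb K)).toAddSubgroup ?_ (h.one_mem_Fx _) ?_ ?_
  · have h3 := Module.natCard_eq_pow_finrank (K := k) (V := h.Fx (Qb K))
    rw [finrank_Qb h h2 hK, hk] at h3
    exact h3
  · intro A hA
    exact ⟨A, hA, 0, Submodule.zero_mem _, 0, by rw [smul_zero, add_zero]⟩
  · intro y hy A hA
    exact h.cj_mem_Fx (Qb_normal y hy) hA

/-- **The unitary case over `p²` elements, `p ≡ ±2 mod 5`.** -/
theorem not_unitary (h : PR ρ π) (h2 : (2 : k) ≠ 0) (hK : Fintype.card K = 4) {p : ℕ} [hp : Fact p.Prime] [CharP k p]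
    (hp5 : p % 5 = 2 ∨ p % 5 = 3) (hk : Nat.card k = p ^ 2)
    (hU : ∀ g, ((ρ g).map (fun x => x ^ p))ᵀ = ρ g⁻¹) : False := by
  classical
  -- the involution
  have hkk : ∀ x : k, (x ^ p) ^ p = x := by
    intro x
    have := Fintype.ofFinite k
    rw [← pow_mul, ← pow_two, ← hk, Nat.card_eq_fintype_card, FiniteField.pow_card]
  let st : M8 k → M8 k := fun A => (A.map (frobenius k p))ᵀ
  have st_mul : ∀ A B, st (A * B) = st B * st A := by
    intro A B
    change ((A * B).map (frobenius k p))ᵀ = (B.map (frobenius k p))ᵀ * (A.map (frobenius k p))ᵀ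
    rw [Matrix.map_mul, Matrix.transpose_mul]
  have st_add : ∀ A B, st (A + B) = st A + st B := by
    intro A B
    ext i j
    simp [st]
  have st_smul : ∀ (c : k) (A : M8 k), st (c • A) = c ^ p • st A := by
    intro c A
    ext i j
    simp [st, frobenius_def, mul_pow]
  have st_st : ∀ A, st (st A) = A := by
    intro A
    ext i j
    simp [st, frobenius_def, hkk]
  have st_one : st 1 = 1 := by
    ext i j
    by_cases hij : i = j
    · subst hij; simp [st]
    · simp [st, hij, Ne.symm hij]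
  have st_rho : ∀ g, st (ρ g) = ρ g⁻¹ := by
    intro g
    rw [← hU g]
    rfl
  have st_cj : ∀ x A, st (h.cj x A) = h.cj x (st A) := by
    intro x A
    obtain ⟨g, rfl⟩ := h.surj x
    rw [PR.cj_apply, PR.cj_apply, st_mul, st_mul, st_rho, st_rho, inv_inv, mul_assoc]
  have st_zero : st 0 = 0 := by
    ext i j
    simp [st, frobenius_def, hp.out.ne_zero]
  have st_neg : ∀ A, st (-A) = -st A := by
    intro A
    ext i j
    simp only [st, _root_.Matrix.transpose_apply, _root_.Matrix.map_apply, _root_.Matrix.neg_apply, _root_.map_neg]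
  have st_C : ∀ A ∈ h.Fx (Qb K), st A ∈ h.Fx (Qb K) := by
    intro A hA a ha
    rw [← st_cj, hA a ha]
  let Hs : AddSubgroup (M8 k) :=
    { carrier := {A | A ∈ h.Fx (Qb K) ∧ st A = A}
      add_mem' := fun {A B} hA hB => ⟨(h.Fx (Qb K)).add_mem hA.1 hB.1, by rw [st_add, hA.2, hB.2]⟩
      zero_mem' := ⟨Submodule.zero_mem _, st_zero⟩
      neg_mem' := fun {A} hA => ⟨(h.Fx (Qb K)).neg_mem hA.1, by rw [st_neg, hA.2]⟩ }
  have hHs : ∀ A, A ∈ Hs ↔ A ∈ h.Fx (Qb K) ∧ st A = A := fun _ => Iff.rfl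
  -- the skew scalar
  obtain ⟨l, hl0, hl⟩ : ∃ l : k, l ≠ 0 ∧ l ^ p = -l := by
    by_contra hcon
    push Not at hcon
    have hall : ∀ x : k, x ^ p = x := by
      intro x
      by_contra hx
      apply hcon (x - x ^ p) (fun h0 => hx (sub_eq_zero.1 h0).symm)
      rw [sub_pow_char, hkk]
      ring
    have hle : Nat.card k ≤ p := by
      have := Fintype.ofFinite k
      have hlt : 1 < p := hp.out.one_lt
      have h3 : (Polynomial.X ^ p - Polynomial.X : Polynomial k) ≠ 0 := FiniteField.X_pow_card_sub_X_ne_zero k hlt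
      have h4 : (Finset.univ : Finset k).val ≤ (Polynomial.X ^ p - Polynomial.X : Polynomial k).roots := by
        rw [Finset.val_le_iff_val_subset]
        intro x _
        rw [Polynomial.mem_roots h3]
        simp [hall x]
      have h5 := Multiset.card_le_card h4
      rw [Nat.card_eq_fintype_card]
      exact h5.trans ((Polynomial.card_roots' _).trans (FiniteField.X_pow_card_sub_X_natDegree_eq k hlt).le)
    rw [hk] at hle
    have := hp.out.one_lt
    nlinarith only [hle, this]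
  have h22 : (2 : k) ^ p = 2 := by
    have := map_ofNat (frobenius k p) 2
    rwa [frobenius_def] at this
  -- decomposition
  have hdec : ∀ A ∈ h.Fx (Qb K), ((2 : k)⁻¹ • (A + st A)) ∈ Hs ∧ ((2 * l)⁻¹ • (A - st A)) ∈ Hs ∧
      A = (2 : k)⁻¹ • (A + st A) + l • ((2 * l)⁻¹ • (A - st A)) := by
    intro A hA
    refine ⟨⟨Submodule.smul_mem _ _ (Submodule.add_mem _ hA (st_C A hA)), ?_⟩,
      ⟨Submodule.smul_mem _ _ (Submodule.sub_mem _ hA (st_C A hA)), ?_⟩, ?_⟩
    · rw [st_smul, st_add, st_st, inv_pow, h22, add_comm]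
    · rw [st_smul, sub_eq_add_neg, st_add, st_neg, st_st, inv_pow, mul_pow, h22, hl, mul_neg, inv_neg, neg_smul,
        ← smul_neg, neg_add_rev, neg_neg]
    · rw [smul_smul, mul_inv, mul_comm (2 : k)⁻¹ l⁻¹, ← mul_assoc, mul_inv_cancel₀ hl0, one_mul, ← smul_add,
        add_add_sub_cancel, ← two_smul k A, smul_smul, inv_mul_cancel₀ h2, one_smul]
  have hfin : Finite Hs := Subtype.finite
  have hcardHs : Nat.card Hs = p ^ 4 := by
    have e : (Hs × Hs) ≃ h.Fx (Qb K) :=
      { toFun := fun AB => ⟨(AB.1 : M8 k) + l • (AB.2 : M8 k), Submodule.add_mem _ AB.1.2.1 (Submodule.smul_mem _ _ AB.2.2.1)⟩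
        invFun := fun A => (⟨_, (hdec A A.2).1⟩, ⟨_, (hdec A A.2).2.1⟩)
        left_inv := by
          rintro ⟨⟨B, hB1, hB2⟩, ⟨C, hC1, hC2⟩⟩
          have h3 : st (B + l • C) = B - l • C := by
            rw [st_add, st_smul, hB2, hC2, hl, neg_smul, ← sub_eq_add_neg]
          refine Prod.ext (Subtype.ext ?_) (Subtype.ext ?_)
          · change (2 : k)⁻¹ • ((B + l • C) + st (B + l • C)) = B
            rw [h3, add_add_sub_cancel, ← two_smul k B, smul_smul, inv_mul_cancel₀ h2, one_smul]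
          · change (2 * l)⁻¹ • ((B + l • C) - st (B + l • C)) = C
            rw [h3, add_sub_sub_cancel, ← two_smul k (l • C), smul_smul, smul_smul, mul_assoc,
              inv_mul_cancel₀ (mul_ne_zero h2 hl0), one_smul]
        right_inv := by
          intro A
          apply Subtype.ext
          exact (hdec A A.2).2.2.symm }
    have h3 := Nat.card_congr e
    rw [Nat.card_prod, Module.natCard_eq_pow_finrank (K := k) (V := h.Fx (Qb K)), finrank_Qb h h2 hK, hk] at h3
    have h4 : Nat.card Hs * Nat.card Hs = p ^ 4 * p ^ 4 := by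
      rw [h3]; ring
    exact Nat.mul_self_inj.1 h4
  refine no_small h h2 hK hp.out hp5 Hs hcardHs ⟨h.one_mem_Fx _, st_one⟩ ?_ ?_
  · intro A hA
    obtain ⟨h3, h4, h5⟩ := hdec A hA
    exact ⟨_, h3, _, h4, l, h5⟩
  · intro y hy A hA
    exact ⟨h.cj_mem_Fx (Qb_normal y hy) hA.1, by rw [st_cj, hA.2]⟩

end Main

end Cfsg.Agent.H924.L34
end

-- part: H924/L34Wrap
section
/-!
# Cores with simple quotient `PSL₃(4)` in dimension eight, odd characteristic (helper924)

* `L34.fr` : `Fr P p` if `p = 5` or `p ≡ 1, 9 mod 20`;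
* `L34.cj` : `Cj P p` if `p ≡ 11, 19 mod 20`;
* `L34.fr_sq` : `Fr P (p²)` if `p ≡ 3, 7, 13, 17 mod 20`;
* `L34.card_ne`, `L34.not_GU` : then `|F| ≠ p`, and `P` is not in `GU₈(p)`;
* `L34.linear`, `L34.unitary` : the field and the congruences.
-/

set_option autoImplicit false

namespace Cfsg.Agent.H924.L34

open Cfsg Cfsg.Geo Module Matrix Cfsg.Agent.H906.SL3Par Cfsg.Agent.H906.L34 Cfsg.Agent.H915.LD

section Wrap

variable {F : Type*} [Field F] {P : Subgroup (GL (Fin 8) F)} {K : Type*} [Field K]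

/-- pairs of an element of `P` and a lift to `SL₃(K)` of its image -/
def Lam (P : Subgroup (GL (Fin 8) F)) (e : Soc P ≃* Matrix.ProjectiveSpecialLinearGroup (Fin 3) K) :
    Subgroup (P × X K) :=
  ((e.toMonoidHom.comp (toSoc P)).comp (MonoidHom.fst P (X K))).eqLocus ((pj K).comp (MonoidHom.snd P (X K)))

variable (e : Soc P ≃* Matrix.ProjectiveSpecialLinearGroup (Fin 3) K)

theorem mem_Lam {x : P × X K} : x ∈ Lam P e ↔ e (toSoc P x.1) = pj K x.2 := Iff.rfl

/-- the matrix -/
def rho : Lam P e →* M8 F :=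
  (Units.coeHom (M8 F)).comp (P.subtype.comp ((MonoidHom.fst P (X K)).comp (Lam P e).subtype))

/-- the element of `SL₃(K)` -/
def pii : Lam P e →* X K := (MonoidHom.snd P (X K)).comp (Lam P e).subtype

theorem rho_apply (x : Lam P e) : rho e x = (((x : P × X K).1 : GL (Fin 8) F) : M8 F) := rfl

theorem pii_apply (x : Lam P e) : pii e x = (x : P × X K).2 := rfl

theorem exists_lift (g : P) : ∃ x : Lam P e, (x : P × X K).1 = g := by
  obtain ⟨y, hy⟩ := QuotientGroup.mk'_surjective _ (e (toSoc P g))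
  exact ⟨⟨(g, y), (mem_Lam e).2 hy.symm⟩, rfl⟩

theorem pr_rho (hC : Core P) : PR (rho e) (pii e) where
  surj := by
    intro y
    obtain ⟨g, hg⟩ := toSoc_surjective P (e.symm (pj K y))
    exact ⟨⟨(g, y), (mem_Lam e).2 (by rw [hg, MulEquiv.apply_symm_apply])⟩, rfl⟩
  scal := by
    intro x hx
    have h1 := (mem_Lam e).1 x.2
    rw [← pii_apply, hx, map_one] at h1
    have h2 : toSoc P (x : P × X K).1 = 1 := by
      apply e.injective
      rw [h1, map_one]
    have h3 : (x : P × X K).1 ∈ (toSoc P).ker := h2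
    rw [ker_toSoc, Subgroup.mem_subgroupOf, mem_scalars_iff] at h3
    obtain ⟨c, hc⟩ := h3
    exact ⟨c, hc⟩
  cent := by
    intro x hx
    have h3 : (x : P × X K).1 ∈ (toSoc P).ker := by
      rw [ker_toSoc, Subgroup.mem_subgroupOf, mem_scalars_iff]
      obtain ⟨c, hc⟩ := hx
      have hc0 : c ≠ 0 := by
        rintro rfl
        rw [zero_smul] at hc
        have h1 := mul_inv' (rho e) x
        rw [hc, zero_mul] at h1
        exact zero_ne_one h1
      exact ⟨Units.mk0 c hc0, hc⟩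
    have h1 := (mem_Lam e).1 x.2
    rw [show toSoc P (x : P × X K).1 = 1 from h3, map_one] at h1
    exact (QuotientGroup.eq_one_iff _).1 h1.symm
  span := by
    rw [eq_top_iff, ← H920.span_eq_top hC.absIrred]
    apply Submodule.span_mono
    rintro _ ⟨g, hg, rfl⟩
    obtain ⟨x, hx⟩ := exists_lift e ⟨g, hg⟩
    exact ⟨x, by rw [rho_apply, hx]⟩

theorem scalar_four [Fintype K] (hK : Fintype.card K = 4) (hC : Core P) (x : Lam P e) (hx : pii e x = 1) :
    ∃ c : F, c ^ 4 = 1 ∧ rho e x = c • (1 : M8 F) := by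
  obtain ⟨c, hc⟩ := (pr_rho e hC).scal x hx
  refine ⟨c, ?_, hc⟩
  have h8 : c ^ 8 = 1 := by
    have := hC.scalar_pow (x : P × X K).1.2 hc
    rwa [Fintype.card_fin] at this
  have h3 : (x : P × X K).1 ∈ (e.toMonoidHom.comp (toSoc P)).ker := by
    have h1 := (mem_Lam e).1 x.2
    rw [← pii_apply, hx, map_one] at h1
    exact h1
  obtain ⟨f, hf⟩ := H95.StemCover.exists_surj_ker (S2088.result hK) hC.commutator_top
    (e.toMonoidHom.comp (toSoc P)) (e.surjective.comp (toSoc_surjective P)) (by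
      rw [ker_comp e]
      exact scalars_le_center)
  obtain ⟨a, ha⟩ := hf ⟨_, h3⟩
  have ha12 : a ^ 12 = 1 := by
    apply Multiplicative.toAdd.injective
    change 12 • (Multiplicative.toAdd a) = 0
    generalize Multiplicative.toAdd a = b
    obtain ⟨b1, b2, b3⟩ := b
    revert b1 b2 b3
    decide +kernel
  have h4 : ((x : P × X K).1) ^ 12 = 1 := by
    have h5 : (⟨_, h3⟩ : (e.toMonoidHom.comp (toSoc P)).ker) ^ 12 = 1 := by
      rw [← ha, ← map_pow, ha12, map_one]
    exact congrArg Subtype.val h5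
  have h5 : rho e x ^ 12 = 1 := by
    rw [rho_apply, ← Units.val_pow_eq_pow_val, ← Subgroup.coe_pow, h4]
    rfl
  rw [hc, smul_pow, one_pow] at h5
  have h6 : c ^ 12 = 1 := by
    apply smul_one_inj
    rw [h5, one_smul]
  calc c ^ 4 = c ^ 4 * c ^ 8 := by rw [h8, mul_one]
    _ = c ^ 12 := by ring
    _ = 1 := h6

theorem two_ne_zero' (p : ℕ) [hp : Fact p.Prime] [CharP F p] (hp2 : p ≠ 2) : (2 : F) ≠ 0 := by
  intro h
  have h1 : ((2 : ℕ) : F) = 0 := by exact_mod_cast h
  rw [CharP.cast_eq_zero_iff F p] at h1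
  exact hp2 ((Nat.prime_dvd_prime_iff_eq hp.out Nat.prime_two).1 h1)

section fin

variable [Finite F] [Fintype K] (hK : Fintype.card K = 4) (hC : Core P) (p : ℕ) [hp : Fact p.Prime] [CharP F p]

include hK hC e

theorem fr_pow (hp2 : p ≠ 2) (m : ℕ) (hQ : p ^ m % 5 = 0 ∨ p ^ m % 5 = 1 ∨ p ^ m % 5 = 4) (hQ4 : p ^ m % 4 = 1) :
    Fr P (p ^ m) := by
  intro g hg
  obtain ⟨x, hx⟩ := exists_lift e ⟨g, hg⟩
  have h1 := fr_all (pr_rho e hC) (two_ne_zero' p hp2) hK p m hQ hQ4 (scalar_four e hK hC) x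
  rw [rho_apply, hx] at h1
  exact h1

theorem fr (hp20 : p = 5 ∨ p % 20 = 1 ∨ p % 20 = 9) : Fr P p := by
  have h1 := fr_pow e hK hC p (by
    rintro rfl
    omega) 1 (by rw [pow_one]; omega) (by rw [pow_one]; omega)
  rwa [pow_one] at h1

theorem cj (hp20 : p % 20 = 11 ∨ p % 20 = 19) : Cj P p := by
  intro g hg
  obtain ⟨x, hx⟩ := exists_lift e ⟨g, hg⟩
  have h1 := cj_all (pr_rho e hC) (two_ne_zero' p (by rintro rfl; omega)) hK p 1 (by rw [pow_one]; omega)
    (by rw [pow_one]; omega) (scalar_four e hK hC) x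
  rw [pow_one, rho_apply, hx] at h1
  have h2 : rho e x⁻¹ = ((g⁻¹ : GL (Fin 8) F) : M8 F) := by
    rw [rho_apply, Subgroup.coe_inv, Prod.fst_inv, hx]
    rfl
  rw [h2] at h1
  exact h1

theorem fr_sq (hp20 : p % 20 = 3 ∨ p % 20 = 7 ∨ p % 20 = 13 ∨ p % 20 = 17) : Fr P (p ^ 2) := by
  have h1 : p ^ 2 % 20 = 9 := by
    rw [Nat.pow_mod]
    rcases hp20 with h | h | h | h <;> rw [h]
  exact fr_pow e hK hC p (by rintro rfl; omega) 2 (by omega) (by omega)

theorem card_ne (hp20 : p % 20 = 3 ∨ p % 20 = 7 ∨ p % 20 = 13 ∨ p % 20 = 17) : Nat.card F ≠ p :=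
  not_prime_field (pr_rho e hC) (two_ne_zero' p (by rintro rfl; omega)) hK hp.out (by omega)

theorem not_GU (hp20 : p % 20 = 3 ∨ p % 20 = 7 ∨ p % 20 = 13 ∨ p % 20 = 17) (hF : Nat.card F = p ^ 2)
    (hU : P ≤ Cfsg.GU 8 F p) : False := by
  apply not_unitary (pr_rho e hC) (two_ne_zero' p (by rintro rfl; omega)) hK (p := p) (by omega) hF
  intro x
  have h1 := Cfsg.Agent.ClassicalGeometry.GUBasic.transpose_mul_map hp.out.ne_zero
    ((Cfsg.Agent.ClassicalGeometry.GUBasic.mem_GU_iff _).1 (hU (x : P × X K).1.2))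
  have h2 : ((rho e x).map (fun x => x ^ p))ᵀ * rho e x = 1 := by
    have h3 := congrArg Matrix.transpose h1
    rw [Matrix.transpose_mul, Matrix.transpose_transpose, Matrix.transpose_one] at h3
    exact h3
  calc ((rho e x).map (fun x => x ^ p))ᵀ = ((rho e x).map (fun x => x ^ p))ᵀ * (rho e x * rho e x⁻¹) := by
        rw [mul_inv', mul_one]
    _ = rho e x⁻¹ := by rw [← mul_assoc, h2, one_mul]

end fin

section final

variable [Fintype F] [Fintype K] (hK : Fintype.card K = 4) (hC : Core P) (p : ℕ) [hp : Fact p.Prime] [CharP F p]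

include hK hC e

theorem card_sq (hp20 : p % 20 = 3 ∨ p % 20 = 7 ∨ p % 20 = 13 ∨ p % 20 = 17) : Fintype.card F = p ^ 2 := by
  have h1 := hC.card_le p two_ne_zero (fr_sq e hK hC p hp20)
  have h2 := card_ne e hK hC p hp20
  rw [Nat.card_eq_fintype_card] at h2
  obtain ⟨n, -, hn⟩ := FiniteField.card F p
  rw [hn] at h1 h2 ⊢
  have h3 : (n : ℕ) ≤ 2 := (Nat.pow_le_pow_iff_right hp.out.one_lt).1 h1
  have h4 : (n : ℕ) ≠ 1 := by
    intro h0
    rw [h0, pow_one] at h2
    exact h2 rfl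
  have h5 := n.pos
  have h6 : (n : ℕ) = 2 := by omega
  rw [h6]

theorem mod_cases (hp2 : p ≠ 2) : (p = 5 ∨ p % 20 = 1 ∨ p % 20 = 9) ∨ (p % 20 = 11 ∨ p % 20 = 19) ∨
    (p % 20 = 3 ∨ p % 20 = 7 ∨ p % 20 = 13 ∨ p % 20 = 17) := by
  have h2 : p % 2 = 1 := by
    rcases hp.out.eq_two_or_odd with h | h
    · exact absurd h hp2
    · exact h
  have h5 : p % 5 = 0 → p = 5 := by
    intro h
    exact ((Nat.prime_dvd_prime_iff_eq (by norm_num) hp.out).1 (Nat.dvd_of_mod_eq_zero h)).symm
  by_cases h : p = 5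
  · exact Or.inl (Or.inl h)
  · have h6 : p % 5 ≠ 0 := fun h0 => h (h5 h0)
    omega

/-- **Linear case.** -/
theorem linear (hp2 : p ≠ 2) (hcj : ¬ Cj P p) :
    (Fintype.card F = p ∧ (p = 5 ∨ p % 20 = 1 ∨ p % 20 = 9)) ∨
      (Fintype.card F = p ^ 2 ∧ (p % 20 = 3 ∨ p % 20 = 7 ∨ p % 20 = 13 ∨ p % 20 = 17)) := by
  rcases mod_cases e hK hC p hp2 with h | h | h
  · exact Or.inl ⟨hC.card_eq p (fr e hK hC p h), h⟩
  · exact absurd (cj e hK hC p h) hcj
  · exact Or.inr ⟨card_sq e hK hC p h, h⟩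

/-- **Unitary case.** -/
theorem unitary {q : ℕ} (hF : Fintype.card F = q ^ 2) (hU : P ≤ Cfsg.GU 8 F q) (hp2 : p ≠ 2) :
    q = p ∧ (p % 20 = 11 ∨ p % 20 = 19) := by
  rcases mod_cases e hK hC p hp2 with h | h | h
  · exact absurd (fr e hK hC p h) (not_fr_of_card hC p hF)
  · exact ⟨q_eq_of_cj hC p hF (cj e hK hC p h), h⟩
  · exfalso
    have h1 := q_eq_of_fr hC p hF (fr_sq e hK hC p h)
    subst h1
    exact not_GU e hK hC q h (by rw [Nat.card_eq_fintype_card, hF]) hU

end final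

end Wrap

end Cfsg.Agent.H924.L34
end
end

-- part: H424/EightFill_mg
section
prune_inst 0x400400002202000000009001001c6282000000000800000000000004808c0000000020802000000000000400340020020000204000000000000000011c00800000000000000000020008000000000000000000000000000000000000000000000000000
set_option linter.all false
open scoped Cfsg.Agent.FastGrp

-- part: H424/EightOwn
section
/-!
# Dimension eight: defining characteristic (helper424)

* `own_eight` : `Core P`, `P ≤ GL_8(F)`, `Soc P` of Lie type in characteristic `p = char F`: `SD P`, or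
  `P = SL_8(F)`, or `Soc P = PSU_N(K)`, `4 ≤ N`.
* `own_cj`, `own_GU` : the last case in the linear and unitary rows.
-/

set_option autoImplicit false
set_option linter.unusedSectionVars false
set_option linter.style.haveILetI false

universe u

namespace Cfsg.Agent.H424.Eight

open Cfsg Cfsg.Geo Matrix Cfsg.Agent.H915.LD

/-- `PSU_N(q)`, `N ≥ 4`, in the defining characteristic -/
def UC {F : Type u} [Field F] (p : ℕ) (P : Subgroup (GL (Fin 8) F)) : Prop :=
  ∃ (K : Type) (_ : Field K) (_ : Fintype K) (_ : CharP K p) (N q : ℕ), Fintype.card K = q ^ 2 ∧ 4 ≤ N ∧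
    Nonempty (Soc P ≃* PSU N K q)

theorem own_eight {F : Type u} [Field F] [Finite F] {P : Subgroup (GL (Fin 8) F)} (p : ℕ) [hp : Fact p.Prime]
    [hFp : CharP F p] (hC : Core P) (h : IsLieTypeChar p (Soc P)) :
    SD P ∨ P = specialLinear (Fin 8) F ∨ UC p P := by
  have h8 : Fintype.card (Fin 8) = 8 := by simp
  haveI : Nonempty (Fin 8) := ⟨0⟩
  rcases H218.SdDC.sd_dc p hC (by rw [h8]; norm_num) h with h1 | ⟨K, i1, i2, i3, l, hl, h4, ⟨e⟩⟩ |
    ⟨K, i1, i2, i3, N, q, hK, hN, hN8, h32, ⟨e⟩⟩ | ⟨-, hp2, h1⟩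
  · exact Or.inl h1
  · rcases (show l = 1 ∨ 2 ≤ l by omega) with rfl | hl2
    · exact Or.inl fun g hg => H905.Md.psl_two p hC.absIrred hC.perfect (h4 rfl) e hg
    · have h5 := H905.Md.psl_rank p hC.absIrred hC.perfect hl h4 e
      rw [h8] at h5
      rcases (show l + 1 = 8 ∨ l + 1 < 8 by omega) with h6 | h6
      · exact Or.inr (Or.inl (H905.Md.psl_eq p hC.absIrred hC.perfect hl h4 e hC.no_subfield h6.symm).2)
      · exact Or.inl (H887.DS.sd_of_psl p hC (m := l + 1) (by omega) (by rw [h8]; exact h6) (Or.inr (Or.inl h8)) e).1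
  · rcases (show N = 3 ∨ 4 ≤ N by omega) with rfl | h4
    · have hq3 : 3 ≤ q := by
        have h2 : 2 ≤ q := by
          by_contra hcon
          have hq : q = 0 ∨ q = 1 := by omega
          rcases hq with rfl | rfl
          · have := Fintype.card_pos (α := K)
            rw [hK] at this
            norm_num at this
          · have := Fintype.one_lt_card (α := K)
            rw [hK] at this
            norm_num at this
        have : q ≠ 2 := fun h => h32 ⟨rfl, h⟩
        omega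
      rcases H929.U3.core_psu3 p hC hq3 hK e (by rw [h8]; norm_num) with h1 | ⟨-, h1⟩
      · exact Or.inl h1
      · rw [h8] at h1
        omega
    · exact Or.inr (Or.inr ⟨K, i1, i2, i3, N, q, hK, h4, ⟨e⟩⟩)
  · exfalso
    subst hp2
    have h2 := H927.LDTwF4.card_le_iso (p := 2) rfl hC.perfect h1
    rw [h8] at h2
    omega

/-- the linear row: `PSU_N` is excluded -/
theorem UC.cj {F : Type u} [Field F] [Finite F] {P : Subgroup (GL (Fin 8) F)} (p : ℕ) [hp : Fact p.Prime]
    [hFp : CharP F p] (hC : Core P) (h : UC p P) : ∃ b : ℕ, Cj P (p ^ b) := by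
  obtain ⟨K, i1, i2, i3, N, q, hK, hN, ⟨e⟩⟩ := h
  have h5 := H48.NatSU.psu_cj hC p hK (by omega) (by omega) e
  obtain ⟨p', b, hp', hch, hqb, hb⟩ := LieClassical.HermBasic.exists_prime_pow hK
  obtain rfl : p' = p := CharP.eq K hch ‹_›
  rw [hqb] at h5
  exact ⟨b, h5⟩

/-- the unitary row: `PSU_N`, `4 ≤ N ≤ 7`, or `P = SU_8(q)` -/
theorem UC.gu {F : Type u} [Field F] [Fintype F] {P : Subgroup (GL (Fin 8) F)} (p : ℕ) [hp : Fact p.Prime]
    [hFp : CharP F p] (hC : Core P) {q : ℕ} (hF : Fintype.card F = q ^ 2) (hPG : P ≤ GU 8 F q) (h : UC p P) :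
    P = GU 8 F q ⊓ specialLinear (Fin 8) F ∨
      ∃ (K : Type) (_ : Field K) (_ : Fintype K) (_ : CharP K p) (N q : ℕ), Fintype.card K = q ^ 2 ∧ 4 ≤ N ∧ N ≤ 7 ∧
        Nonempty (Soc P ≃* PSU N K q) := by
  obtain ⟨K, i1, i2, i3, N, q₀, hK, hN, ⟨e⟩⟩ := h
  rcases (show N ≤ 7 ∨ 8 ≤ N by omega) with h7 | h8
  · exact Or.inr ⟨K, i1, i2, i3, N, q₀, hK, hN, h7, ⟨e⟩⟩
  · left
    have h5 := (H48.NatSU.psu_le hC p hF hPG hK (by omega) (by omega) e).2
    obtain rfl : N = 8 := by omega
    exact (H48.NatSU.psu_eq hC p hF hPG hK (by omega) (by omega) e rfl).2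

end Cfsg.Agent.H424.Eight
end

-- part: H424/AltTwo
section
/-!
# `A₉`, `A₁₀`, `A₁₁` in dimension eight, characteristic two (helper424)

* `real_or` : `x ∈ A₉` is conjugate to its inverse, or conjugate in `S₉` to `x₀ = (0 1 2)(3 4 5 6 7)`;
* `key` : if `3`-cycles are fixed point free, characteristic two, dimension eight, then `tr x₀⁻¹ = tr x₀`;
* `alt_two_sd` : `SD P`.
-/

set_option autoImplicit false
set_option linter.unusedSectionVars false
set_option maxRecDepth 10000

namespace Cfsg.Agent.H424.AltTwo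

open Equiv Equiv.Perm Matrix Module

universe u

/-! ### conjugacy -/

theorem type_cases {g : Perm (Fin 9)} (hz : Subgroup.centralizer {g} ≤ alternatingGroup (Fin 9)) :
    g.cycleType = {9} ∨ g.cycleType = {5, 3} := by
  obtain ⟨h1, h2, h3⟩ := centralizer_le_alternating_iff.1 hz
  rw [Fintype.card_fin] at h2
  have hle := g.sum_cycleType_le
  rw [Fintype.card_fin] at hle
  have h2le : ∀ a ∈ g.cycleType, 2 ≤ a := fun a ha => two_le_of_mem_cycleType ha
  rw [← Multiset.nodup_iff_count_le_one] at h3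
  generalize g.cycleType = m at *
  obtain ⟨a, ha⟩ : ∃ a, a ∈ m := by
    by_contra hcon
    push Not at hcon
    rw [Multiset.eq_zero_of_forall_notMem hcon, Multiset.sum_zero] at h2
    omega
  obtain ⟨m', rfl⟩ := Multiset.exists_cons_of_mem ha
  have hao := h1 a ha
  have ha2 := h2le a ha
  rw [Multiset.sum_cons] at h2 hle
  rw [Multiset.nodup_cons] at h3
  rcases Nat.eq_zero_or_pos (Multiset.card m') with hc | hc
  · rw [Multiset.card_eq_zero] at hc
    subst hc
    rw [Multiset.sum_zero] at h2 hle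
    obtain ⟨k, hk⟩ := hao
    left
    have : a = 9 := by omega
    rw [this]
    rfl
  · obtain ⟨b, hb⟩ := Multiset.card_pos_iff_exists_mem.1 hc
    obtain ⟨m'', rfl⟩ := Multiset.exists_cons_of_mem hb
    have hbo := h1 b (Multiset.mem_cons_of_mem hb)
    have hb2 := h2le b (Multiset.mem_cons_of_mem hb)
    have hne : a ≠ b := by
      rintro rfl
      exact h3.1 hb
    rw [Multiset.sum_cons] at h2 hle
    obtain ⟨k, hk⟩ := hao
    obtain ⟨l, hl⟩ := hbo
    have hm'' : m'' = 0 := by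
      by_contra hcon
      obtain ⟨c, hc⟩ := Multiset.exists_mem_of_ne_zero hcon
      have hco := h1 c (Multiset.mem_cons_of_mem (Multiset.mem_cons_of_mem hc))
      have hc2 := h2le c (Multiset.mem_cons_of_mem (Multiset.mem_cons_of_mem hc))
      have hcs : c ≤ m''.sum := Multiset.le_sum_of_mem hc
      obtain ⟨j, hj⟩ := hco
      (clear * - ha2 hle hb2 hne hk hl hc2 hcs; omega)
    subst hm''
    rw [Multiset.sum_zero] at h2 hle
    right
    have h5 : (a = 5 ∧ b = 3) ∨ (a = 3 ∧ b = 5) := by (clear * - ha2 hb2 hk hl h2 hle; solve | lia | omega)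
    rcases h5 with ⟨rfl, rfl⟩ | ⟨rfl, rfl⟩
    · rfl
    · exact Multiset.cons_swap 3 5 0

/-- `(0 1 2)` -/
def c0 : alternatingGroup (Fin 9) := ⟨_root_.Equiv.swap (0 : Fin 9) 1 * _root_.Equiv.swap (1 : Fin 9) 2, by rw [mem_alternatingGroup]; decide⟩

/-- `(3 4 5 6 7)` -/
def h0 : alternatingGroup (Fin 9) := ⟨swap (3 : Fin 9) 4 * swap (4 : Fin 9) 5 * swap (5 : Fin 9) 6 * swap (6 : Fin 9) 7, by rw [mem_alternatingGroup]; decide⟩

/-- `(3 4 5)` -/
def c1 : alternatingGroup (Fin 9) := ⟨swap (3 : Fin 9) 4 * swap (4 : Fin 9) 5, by rw [mem_alternatingGroup]; decide⟩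

def u0 : alternatingGroup (Fin 9) := ⟨swap (4 : Fin 9) 7 * swap (5 : Fin 9) 6, by rw [mem_alternatingGroup]; decide⟩

def y0 : alternatingGroup (Fin 9) :=
  ⟨swap (4 : Fin 9) 5 * swap (5 : Fin 9) 7 * swap (7 : Fin 9) 6 * _root_.Equiv.swap (0 : Fin 9) 1, by rw [mem_alternatingGroup]; decide⟩

theorem c0_pow : c0 ^ 3 = 1 := by decide +kernel

theorem c1_pow : c1 ^ 3 = 1 := by decide +kernel

theorem h0_pow : h0 ^ 5 = 1 := by decide +kernel

theorem trick : c1 ^ 2 = h0 ^ 2 * c1 * h0 ^ 2 := by decide +kernel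

theorem y0_conj : y0 * h0 * y0⁻¹ = h0 ^ 2 := by decide +kernel

theorem u0_conj : u0 * (c0 * h0) * u0⁻¹ = h0⁻¹ * c0 := by decide +kernel

theorem u0_conj' : u0 * h0 * u0⁻¹ = h0⁻¹ := by decide +kernel

/-- `(0 1 2)(3 4 5 6 7)` -/
theorem type_x0 : ((c0 * h0 : alternatingGroup (Fin 9)) : Perm (Fin 9)).cycleType = {5, 3} := by
  have h1 : ((c0 * h0 : alternatingGroup (Fin 9)) : Perm (Fin 9)) =
      List.formPerm [(0 : Fin 9), 1, 2] * List.formPerm [(3 : Fin 9), 4, 5, 6, 7] := by decide +kernel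
  have hd : _root_.Equiv.Perm.Disjoint (List.formPerm [(0 : Fin 9), 1, 2]) (List.formPerm [(3 : Fin 9), 4, 5, 6, 7]) := by
    rw [List.formPerm_disjoint_iff (by decide) (by decide) (by decide) (by decide)]
    show ∀ a : Fin 9, a ∈ [(0 : Fin 9), 1, 2] → a ∈ [(3 : Fin 9), 4, 5, 6, 7] → False
    decide
  rw [h1, hd.cycleType_mul, (List.isCycle_formPerm (by decide) (by decide)).cycleType,
    (List.isCycle_formPerm (by decide) (by decide)).cycleType,
    List.support_formPerm_of_nodup _ (by decide) (by decide), List.support_formPerm_of_nodup _ (by decide) (by decide)]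
  decide

theorem nine_cycle : ∃ g c : Perm (Fin 9), g.cycleType = {9} ∧ c ∈ alternatingGroup (Fin 9) ∧ c * g * c⁻¹ = g⁻¹ := by
  refine ⟨List.formPerm [(0 : Fin 9), 1, 2, 3, 4, 5, 6, 7, 8], _root_.Equiv.swap (1 : Fin 9) 8 * swap (2 : Fin 9) 7 * swap (3 : Fin 9) 6 * swap (4 : Fin 9) 5, ?_, ?_, ?_⟩
  · rw [(List.isCycle_formPerm (by decide) (by decide)).cycleType,
      List.support_formPerm_of_nodup _ (by decide) (by decide)]
    rfl
  · rw [mem_alternatingGroup]
    decide
  · decide +kernel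

theorem real_or (g : alternatingGroup (Fin 9)) : IsConj g g⁻¹ ∨
    ∃ σ : Perm (Fin 9), (g : Perm (Fin 9)) = σ * ((c0 * h0 : alternatingGroup (Fin 9)) : Perm (Fin 9)) * σ⁻¹ := by
  have hfin : ∀ c : Perm (Fin 9), c ∈ alternatingGroup (Fin 9) → c * (g : Perm (Fin 9)) * c⁻¹ =
      ((g : Perm (Fin 9)))⁻¹ → IsConj g g⁻¹ := by
    intro c hc hcg
    exact isConj_iff.2 ⟨⟨c, hc⟩, Subtype.ext hcg⟩
  obtain ⟨c, hc⟩ := isConj_iff.1 (isConj_of_cycleType_eq (cycleType_inv (g : Perm (Fin 9))).symm)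
  by_cases hce : c ∈ alternatingGroup (Fin 9)
  · exact Or.inl (hfin c hce hc)
  by_cases hz : Subgroup.centralizer {(g : Perm (Fin 9))} ≤ alternatingGroup (Fin 9)
  · rcases type_cases hz with h9 | h53
    · obtain ⟨g₀, c₀, ht, hc₀, hcg⟩ := nine_cycle
      obtain ⟨d, hd⟩ := isConj_iff.1 (isConj_of_cycleType_eq (ht.trans h9.symm))
      refine Or.inl (hfin (d * c₀ * d⁻¹) ?_ ?_)
      · exact (inferInstance : (alternatingGroup (Fin 9)).Normal).conj_mem c₀ hc₀ d
      · rw [← hd]
        calc d * c₀ * d⁻¹ * (d * g₀ * d⁻¹) * (d * c₀ * d⁻¹)⁻¹ = d * (c₀ * g₀ * c₀⁻¹) * d⁻¹ := by group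
          _ = d * g₀⁻¹ * d⁻¹ := by rw [hcg]
          _ = (d * g₀ * d⁻¹)⁻¹ := by group
    · obtain ⟨d, hd⟩ := isConj_iff.1 (isConj_of_cycleType_eq (type_x0.trans h53.symm))
      exact Or.inr ⟨d, hd.symm⟩
  · obtain ⟨z, hz1, hz2⟩ := SetLike.not_le_iff_exists.1 hz
    rw [Subgroup.mem_centralizer_singleton_iff] at hz1
    refine Or.inl (hfin (c * z) ?_ ?_)
    · rw [mem_alternatingGroup] at hce hz2 ⊢
      rw [map_mul]
      rcases Int.units_eq_one_or (sign c) with h1 | h1
      · exact absurd h1 hce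
      · rcases Int.units_eq_one_or (sign z) with h2 | h2
        · exact absurd h2 hz2
        · rw [h1, h2]; decide
    · calc c * z * (g : Perm (Fin 9)) * (c * z)⁻¹ = c * (z * (g : Perm (Fin 9)) * z⁻¹) * c⁻¹ := by group
        _ = c * (g : Perm (Fin 9)) * c⁻¹ := by rw [hz1, mul_inv_cancel_right]
        _ = _ := hc

/-! ### an element of order five -/

section five

variable {K : Type*} [Field K] {V : Type*} [AddCommGroup V] [Module K V]

theorem trace_five [IsAlgClosed K] [FiniteDimensional K V] (h2 : (2 : K) = 0) (hV : finrank K V = 8)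
    {X B B' : Module.End K V} (hX : X ^ 5 = 1) (hfix : ∀ v, X v = v → v = 0) (hB : B' * B = 1)
    (hk : B * X * B' = X ^ 2) : LinearMap.trace K V X = 0 := by
  have h5 : ((5 : ℕ) : K) ≠ 0 := by
    intro h
    push_cast at h
    have : (1 : K) = 0 := by linear_combination h - 2 * h2
    exact one_ne_zero this
  obtain ⟨ζ, hζ⟩ := H911.Eig.exists_root (K := K) (r := 5) (by norm_num) h5
  have h1 := H6.M11.trace_eq_sum hζ (by norm_num) hX 1
  have h3 := H6.M11.finrank_top_eq_sum hζ (by norm_num) hX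
  rw [pow_one] at h1
  rw [h1]
  rw [hV] at h3
  have hd : ∀ b : Fin 5, finrank K (End.eigenspace X (ζ ^ (b : ℕ))) =
      H911.Eig.d X ζ (r := 5) (b : ZMod 5) := fun b => rfl
  have hle := H911.Eig.d_le (K := K) (A := X) (r := 5) (by norm_num) hζ hB (k := 2) hk
  have h12 := hle 1
  have h24 := hle 2
  have h43 := hle 4
  have h31 := hle 3
  rw [show ((2 : ℕ) : ZMod 5) * 1 = 2 from by decide] at h12
  rw [show ((2 : ℕ) : ZMod 5) * 2 = 4 from by decide] at h24
  rw [show ((2 : ℕ) : ZMod 5) * 4 = 3 from by decide] at h43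
  rw [show ((2 : ℕ) : ZMod 5) * 3 = 1 from by decide] at h31
  have h0 : finrank K (End.eigenspace X (ζ ^ ((0 : Fin 5) : ℕ))) = 0 := by
    rw [Submodule.finrank_eq_zero, Submodule.eq_bot_iff]
    intro v hv
    rw [Module.End.mem_eigenspace_iff] at hv
    apply hfix
    rw [hv, Fin.val_zero, pow_zero, one_smul]
  rw [Fin.sum_univ_five] at h3 ⊢
  rw [h0] at h3 ⊢
  have e1 := hd 1
  have e2 := hd 2
  have e3 := hd 3
  have e4 := hd 4
  have q1 : finrank K (End.eigenspace X (ζ ^ ((1 : Fin 5) : ℕ))) = 2 := by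
    change _ = H911.Eig.d X ζ (r := 5) (1 : ZMod 5) at e1
    change _ = H911.Eig.d X ζ (r := 5) (2 : ZMod 5) at e2
    change _ = H911.Eig.d X ζ (r := 5) (3 : ZMod 5) at e3
    change _ = H911.Eig.d X ζ (r := 5) (4 : ZMod 5) at e4
    (clear * - h3 h12 h24 h43 h31 e1 e2 e3 e4; omega)
  have q2 : finrank K (End.eigenspace X (ζ ^ ((2 : Fin 5) : ℕ))) = 2 := by
    change _ = H911.Eig.d X ζ (r := 5) (1 : ZMod 5) at e1
    change _ = H911.Eig.d X ζ (r := 5) (2 : ZMod 5) at e2
    change _ = H911.Eig.d X ζ (r := 5) (3 : ZMod 5) at e3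
    change _ = H911.Eig.d X ζ (r := 5) (4 : ZMod 5) at e4
    (clear * - h12 h24 h43 h31 q1 e1 e2; omega)
  have q3 : finrank K (End.eigenspace X (ζ ^ ((3 : Fin 5) : ℕ))) = 2 := by
    change _ = H911.Eig.d X ζ (r := 5) (1 : ZMod 5) at e1
    change _ = H911.Eig.d X ζ (r := 5) (2 : ZMod 5) at e2
    change _ = H911.Eig.d X ζ (r := 5) (3 : ZMod 5) at e3
    change _ = H911.Eig.d X ζ (r := 5) (4 : ZMod 5) at e4
    omega
  have q4 : finrank K (End.eigenspace X (ζ ^ ((4 : Fin 5) : ℕ))) = 2 := by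
    change _ = H911.Eig.d X ζ (r := 5) (1 : ZMod 5) at e1
    change _ = H911.Eig.d X ζ (r := 5) (2 : ZMod 5) at e2
    change _ = H911.Eig.d X ζ (r := 5) (3 : ZMod 5) at e3
    change _ = H911.Eig.d X ζ (r := 5) (4 : ZMod 5) at e4
    omega
  rw [q1, q2, q3, q4]
  push_cast
  rw [h2]
  ring

end five

section matrix

variable {F : Type u} [Field F] {ι : Type} [Fintype ι] [DecidableEq ι]

theorem matrix_five (h2 : (2 : F) = 0) (h8 : Fintype.card ι = 8) {M N N' : Matrix ι ι F}
    (hM : 1 + M + M ^ 2 + M ^ 3 + M ^ 4 = 0) (hN : N' * N = 1) (hk : N * M * N' = M ^ 2) : M.trace = 0 := by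
  let K := AlgebraicClosure F
  let f : Matrix ι ι F →+* Module.End K (ι → K) :=
    (Matrix.toLinAlgEquiv' (R := K) (n := ι)).toRingEquiv.toRingHom.comp (algebraMap F K).mapMatrix
  have hf : ∀ A : Matrix ι ι F, f A = Matrix.toLin' (A.map (algebraMap F K)) := fun A => rfl
  have h2K : (2 : K) = 0 := by
    have := congrArg (algebraMap F K) h2
    rwa [map_ofNat, map_zero] at this
  have hX0 : 1 + f M + f M ^ 2 + f M ^ 3 + f M ^ 4 = 0 := by
    have := congrArg f hM
    rw [map_zero] at this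
    rw [← this]
    simp only [map_add, map_pow, map_one]
  have h5 : f M ^ 5 = 1 := by
    have h3 := mul_geom_sum (f M) 5
    simp only [Finset.sum_range_succ, Finset.sum_range_zero, zero_add, pow_zero, pow_one] at h3
    rw [hX0, mul_zero] at h3
    exact (sub_eq_zero.1 h3.symm)
  have hfix : ∀ v, f M v = v → v = 0 := by
    intro v hv
    have hp : ∀ i : ℕ, (f M ^ i) v = v := by
      intro i
      induction i with
      | zero => rfl
      | succ i ih => rw [pow_succ, Module.End.mul_apply, hv, ih]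
    have h3 := congrArg (fun T : Module.End K (ι → K) => T v) hX0
    simp only [LinearMap.add_apply, hp, hv, LinearMap.zero_apply, Module.End.one_apply] at h3
    funext k
    have h4 := congrFun h3 k
    simp only [Pi.add_apply, Pi.zero_apply] at h4 ⊢
    linear_combination h4 - 2 * v k * h2K
  have h6 := trace_five (K := K) (V := ι → K) h2K (by rw [Module.finrank_fintype_fun_eq_card, h8]) h5 hfix
    (B := f N) (B' := f N') (by rw [← map_mul, hN, map_one]) (by rw [← map_mul, ← map_mul, hk, map_pow])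
  have h7 : LinearMap.trace K (ι → K) (f M) = algebraMap F K M.trace := by
    rw [hf, LinearMap.trace_eq_matrix_trace K (Pi.basisFun K ι), LinearMap.toMatrix_eq_toMatrix',
      LinearMap.toMatrix'_toLin', AddMonoidHom.map_trace]
  rw [h7] at h6
  exact (map_eq_zero _).1 h6

/-- **Traces of elements of type `(3, 5)`.** -/
theorem key (h2 : (2 : F) = 0) (h8 : Fintype.card ι = 8) (f : alternatingGroup (Fin 9) →* Matrix ι ι F)
    (hc0 : ∀ v, f c0 *ᵥ v = v → v = 0) (hc1 : ∀ v, f c1 *ᵥ v = v → v = 0) :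
    (f (c0 * h0)⁻¹).trace = (f (c0 * h0)).trace := by
  -- quadratic relations
  have quad : ∀ c : alternatingGroup (Fin 9), c ^ 3 = 1 → (∀ v, f c *ᵥ v = v → v = 0) → 1 + f c + f c ^ 2 = 0 := by
    intro c hc hcv
    have h3 : f c ^ 3 = 1 := by rw [← map_pow, hc, map_one]
    apply Matrix.toLin'.injective
    apply LinearMap.ext
    intro v
    rw [Matrix.toLin'_apply, Matrix.toLin'_apply, Matrix.zero_mulVec]
    apply hcv
    rw [Matrix.mulVec_mulVec]
    congr 1
    calc f c * (1 + f c + f c ^ 2) = f c + f c ^ 2 + f c ^ 3 := by noncomm_ring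
      _ = 1 + f c + f c ^ 2 := by rw [h3]; abel
  have q0 := quad c0 c0_pow hc0
  have q1 := quad c1 c1_pow hc1
  have hh5 : f h0 ^ 5 = 1 := by rw [← map_pow, h0_pow, map_one]
  -- the 5-cycle
  have hfix : ∀ v, f h0 *ᵥ v = v → v = 0 := by
    intro v hv
    have hv2 : f h0 ^ 2 *ᵥ v = v := by rw [pow_two, ← Matrix.mulVec_mulVec, hv, hv]
    obtain ⟨w, hw⟩ : ∃ w, f c1 *ᵥ v = w := ⟨_, rfl⟩
    have e : v + w + f h0 ^ 2 *ᵥ w = 0 := by
      have h3 := congrArg (fun A : Matrix ι ι F => A *ᵥ v) q1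
      simp only [Matrix.add_mulVec, Matrix.one_mulVec, Matrix.zero_mulVec, hw] at h3
      have h4 : f c1 ^ 2 = f h0 ^ 2 * f c1 * f h0 ^ 2 := by
        rw [← map_pow, trick, map_mul, map_mul, map_pow]
      rw [h4, ← Matrix.mulVec_mulVec, hv2, ← Matrix.mulVec_mulVec, hw] at h3
      exact h3
    have key2 : ∀ i : ℕ, v + f h0 ^ i *ᵥ w + f h0 ^ (i + 2) *ᵥ w = 0 := by
      intro i
      have hvi : f h0 ^ i *ᵥ v = v := by
        induction i with
        | zero => rw [pow_zero, Matrix.one_mulVec]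
        | succ i ih => rw [pow_succ, ← Matrix.mulVec_mulVec, hv, ih]
      have h3 := congrArg (fun x => f h0 ^ i *ᵥ x) e
      simp only [Matrix.mulVec_add, Matrix.mulVec_zero, hvi, Matrix.mulVec_mulVec, ← pow_add] at h3
      exact h3
    have k0 := key2 0
    have k1 := key2 1
    have k2 := key2 2
    have k3 := key2 3
    have k4 := key2 4
    rw [show f h0 ^ (3 + 2) = 1 from hh5, Matrix.one_mulVec] at k3
    rw [show f h0 ^ (4 + 2) = f h0 from by rw [show 4 + 2 = 5 + 1 from rfl, pow_succ, hh5, one_mul]] at k4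
    rw [pow_zero, Matrix.one_mulVec] at k0
    rw [pow_one] at k1
    funext k
    have j0 := congrFun k0 k
    have j1 := congrFun k1 k
    have j2 := congrFun k2 k
    have j3 := congrFun k3 k
    have j4 := congrFun k4 k
    simp only [Pi.add_apply, Pi.zero_apply, Nat.zero_add, Nat.reduceAdd] at j0 j1 j2 j3 j4 ⊢
    linear_combination j0 + j1 + j2 + j3 + j4 - (2 * v k + w k + (f h0 *ᵥ w) k + (f h0 ^ 2 *ᵥ w) k +
      (f h0 ^ 3 *ᵥ w) k + (f h0 ^ 4 *ᵥ w) k) * h2
  have hsum : 1 + f h0 + f h0 ^ 2 + f h0 ^ 3 + f h0 ^ 4 = 0 := by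
    apply Matrix.toLin'.injective
    apply LinearMap.ext
    intro v
    rw [Matrix.toLin'_apply, Matrix.toLin'_apply, Matrix.zero_mulVec]
    apply hfix
    rw [Matrix.mulVec_mulVec]
    congr 1
    calc f h0 * (1 + f h0 + f h0 ^ 2 + f h0 ^ 3 + f h0 ^ 4) = f h0 + f h0 ^ 2 + f h0 ^ 3 + f h0 ^ 4 + f h0 ^ 5 := by
          noncomm_ring
      _ = 1 + f h0 + f h0 ^ 2 + f h0 ^ 3 + f h0 ^ 4 := by rw [hh5]; abel
  have ht : (f h0).trace = 0 := matrix_five h2 h8 hsum (N := f y0) (N' := f y0⁻¹)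
    (by rw [← map_mul, inv_mul_cancel, map_one]) (by rw [← map_mul, ← map_mul, y0_conj, map_pow])
  have hconj : ∀ a b : alternatingGroup (Fin 9), (f (a * b * a⁻¹)).trace = (f b).trace := by
    intro a b
    rw [map_mul, Matrix.trace_mul_comm, ← map_mul, ← mul_assoc, inv_mul_cancel, one_mul]
  have ht' : (f h0⁻¹).trace = 0 := by rw [← u0_conj', hconj, ht]
  have hinv : f c0⁻¹ = f c0 ^ 2 := by
    rw [← map_pow]
    (with_reducible congr 1)
    rw [inv_eq_iff_mul_eq_one, ← pow_succ', c0_pow]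
  have hneg : f c0 ^ 2 = 1 + f c0 := by
    have h3 : ∀ A : Matrix ι ι F, A + A = 0 := by
      intro A
      rw [← two_smul F, h2, zero_smul]
    calc f c0 ^ 2 = (1 + f c0 + f c0 ^ 2) + (1 + f c0) - ((1 + f c0) + (1 + f c0)) := by abel
      _ = 1 + f c0 := by rw [q0, h3, zero_add, sub_zero]
  rw [_root_.mul_inv_rev, map_mul, hinv, hneg, mul_add, mul_one, Matrix.trace_add, ht', zero_add, ← map_mul, ← u0_conj,
    hconj]

end matrix

section main

open Cfsg Cfsg.Geo Cfsg.Agent.H915.LD Cfsg.Agent.H614.AMod Cfsg.Agent.H964.AltMod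

variable {F : Type u} [Field F] {ι : Type} [Fintype ι] [DecidableEq ι] {P : Subgroup (GL ι F)}

/-- the matrices of `φ.symm (σ a σ⁻¹)` -/
noncomputable def mt (φ : P ≃* alternatingGroup (Fin 9)) (σ : Perm (Fin 9)) :
    alternatingGroup (Fin 9) →* Matrix ι ι F :=
  (Units.coeHom (Matrix ι ι F)).comp
    (P.subtype.comp (φ.symm.toMonoidHom.comp (MulAut.conjNormal (H := alternatingGroup (Fin 9)) σ).toMonoidHom))

theorem mt_apply (φ : P ≃* alternatingGroup (Fin 9)) (σ : Perm (Fin 9)) (a : alternatingGroup (Fin 9)) :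
    mt φ σ a = ((φ.symm (MulAut.conjNormal (H := alternatingGroup (Fin 9)) σ a) : P) : GL ι F).1 := rfl

theorem nine_sd [Finite F] (hC : Core P) (h2 : (2 : F) = 0) (h8 : Fintype.card ι = 8)
    (φ : P ≃* alternatingGroup (Fin 9)) : SD P := by
  have hchar : CharP F 2 := CharTwo.of_one_ne_zero_of_two_eq_zero one_ne_zero h2
  have hp2 : Fact (Nat.Prime 2) := ⟨Nat.prime_two⟩
  have h3 : ((3 : ℕ) : F) ≠ 0 := by
    intro h
    push_cast at h
    have : (1 : F) = 0 := by linear_combination h - h2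
    exact one_ne_zero this
  obtain ⟨g₀, v₀, hne⟩ := exists_move_rep φ hC
  rcases nine (α := Fin 9) (ρ := rep φ) (by rw [Fintype.card_fin]) h3
    (by rw [Module.finrank_fintype_fun_eq_card, h8]; norm_num) (irr_rep φ hC) hne with h | ⟨-, h⟩
  · obtain ⟨w, N⟩ := exists_natM φ hC (by rw [Fintype.card_fin]; norm_num) h
    exact sd hC (by rw [Fintype.card_fin]; norm_num) N
  · intro g hg
    rcases real_or (φ ⟨g, hg⟩) with h4 | ⟨σ, hσ⟩
    · rw [← map_inv] at h4
      have h5 := φ.symm.toMonoidHom.map_isConj h4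
      have h6 : IsConj (⟨g, hg⟩ : P) (⟨g, hg⟩ : P)⁻¹ := by simpa only [_root_.isConj_iff, _root_.Subtype.exists, _root_.MulMemClass.mk_mul_mk, _root_.MulEquiv.toMonoidHom_eq_coe, _root_.MonoidHom.coe_coe, _root_.MulEquiv.symm_apply_apply, _root_.map_inv] using h5
      exact (tr_of_isConj h6).symm
    · have hx : MulAut.conjNormal (H := alternatingGroup (Fin 9)) σ (c0 * h0) = φ ⟨g, hg⟩ := by
        apply Subtype.ext
        rw [MulAut.conjNormal_apply, hσ]
      have hfp : ∀ (i j k : Fin 9) (hij : i ≠ j) (hjk : j ≠ k) (hik : i ≠ k) (c : alternatingGroup (Fin 9)),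
          (c : Perm (Fin 9)) = _root_.Equiv.swap i j * _root_.Equiv.swap j k → ∀ v, mt φ σ c *ᵥ v = v → v = 0 := by
        intro i j k hij hjk hik c hc v hv
        apply h (emb3 (σ i) (σ j) (σ k) (fun h => hij (σ.injective h)) (fun h => hjk (σ.injective h))
          (fun h => hik (σ.injective h))) v
        rw [rep_apply]
        have h5 : ex (emb3 (σ i) (σ j) (σ k) (fun h => hij (σ.injective h)) (fun h => hjk (σ.injective h))
          (fun h => hik (σ.injective h))) c3 = MulAut.conjNormal (H := alternatingGroup (Fin 9)) σ c := by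
          apply Subtype.ext
          rw [coe_c3, MulAut.conjNormal_apply, hc]
          show _root_.Equiv.swap (σ i) (σ j) * _root_.Equiv.swap (σ j) (σ k) = _
          rw [swap_apply_apply, swap_apply_apply]
          group
        rw [h5]
        exact hv
      have h6 := key h2 h8 (mt φ σ) (hfp 0 1 2 (by decide) (by decide) (by decide) c0 rfl)
        (hfp 3 4 5 (by decide) (by decide) (by decide) c1 rfl)
      rw [mt_apply, mt_apply, map_inv, hx, map_inv, MulEquiv.symm_apply_apply] at h6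
      exact h6

/-- **`A_m`, `m ≥ 8`, in dimension eight.** -/
theorem alt_sd [Finite F] (hC : Core P) (h8 : Fintype.card ι = 8) (p : ℕ) [hp : Fact p.Prime] [CharP F p] {m : ℕ}
    (hm : 8 ≤ m) (hmp : p = 2 → 9 ≤ m) (e : Soc P ≃* alternatingGroup (Fin m)) : SD P := by
  rcases H825.Spin.alt_red hC p e hm (by omega) with ⟨φ, -⟩ | h
  · have h8' : 8 ≤ Fintype.card (Fin m) := by rwa [Fintype.card_fin]
    by_cases hp2 : p = 2
    · subst hp2
      have h2 : (2 : F) = 0 := by exact_mod_cast CharP.cast_eq_zero F 2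
      rcases (show m = 9 ∨ 10 ≤ m by have := hmp rfl; omega) with rfl | h10
      · exact nine_sd hC h2 h8 φ
      · have h5 : (5 : F) ≠ 0 := by
          intro h
          have : (1 : F) = 0 := by linear_combination h - 2 * h2
          exact one_ne_zero this
        obtain ⟨w, N⟩ := exists_natM φ hC h8' (indep_ten (by rwa [Fintype.card_fin]) h5
          (by rw [Module.finrank_fintype_fun_eq_card, h8]; norm_num))
        exact sd hC h8' N
    · have h2 : (2 : F) ≠ 0 := by
        intro h0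
        have h1 : ((2 : ℕ) : F) = 0 := by exact_mod_cast h0
        rw [CharP.cast_eq_zero_iff F p] at h1
        exact hp2 ((Nat.prime_dvd_prime_iff_eq hp.out Nat.prime_two).1 h1)
      obtain ⟨w, N⟩ := exists_natM_odd φ hC h8' h2 (by omega)
      exact sd hC h8' N
  · exact h.2.2.2.1

end main

end Cfsg.Agent.H424.AltTwo
end

-- part: H424/EightCross
section
/-!
# Dimension eight: the simple groups that are not of Lie type in the characteristic (helper424)

* `Rest8` : the inputs on the groups that are still open;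
* `cross_eight` : `SD P`, or `Soc P = L₃(4)` and `p ≠ 2`.
-/

set_option autoImplicit false
set_option linter.unusedSectionVars false

universe u

namespace Cfsg.Agent.H424.Eight

open Cfsg Cfsg.Geo Matrix Cfsg.Agent.H915.LD Cfsg.Agent.H912.Bd Cfsg.Agent.H936.List12

/-- The open inputs. -/
structure Rest8 {F : Type u} [Field F] (p : ℕ) (P : Subgroup (GL (Fin 8) F)) : Prop where
  l33 : p ≠ 3 → IsL 3 3 (Soc P) → SD P
  o82 : p ≠ 2 → IsOP 4 2 (Soc P) → SD P
  g24 : p ≠ 2 → H912.Bd.IsG2 4 (Soc P) → SD P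
  m12 : Spor.IsoM12 (Soc P) → SD P
  m22 : Spor.IsoM22 (Soc P) → SD P
  j3 : Spor.IsoJ3 (Soc P) → SD P
  suz : Spor.IsoSuz (Soc P) → SD P
  pend : SporP p (Soc P) → SD P

variable {F : Type u} [Field F] [Finite F] {P : Subgroup (GL (Fin 8) F)}

theorem two_ne {p : ℕ} [hp : Fact p.Prime] [CharP F p] (h : p ≠ 2) : (2 : F) ≠ 0 := by
  intro h0
  have h1 : ((2 : ℕ) : F) = 0 := by exact_mod_cast h0
  rw [CharP.cast_eq_zero_iff F p] at h1
  exact h ((Nat.prime_dvd_prime_iff_eq hp.out Nat.prime_two).1 h1)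

theorem zero_or_one {K : Type*} [Field K] [Fintype K] (hK : Fintype.card K = 2) (x : K) : x = 0 ∨ x = 1 := by
  by_cases hx : x = 0
  · exact Or.inl hx
  · right
    have h3 := FiniteField.pow_card_sub_one_eq_one x hx
    rwa [hK, pow_one] at h3

theorem cross_eight (p : ℕ) [hp : Fact p.Prime] [hFp : CharP F p] (hC : Core P) (hk : IsKnownSimple' (Soc P))
    (hL : ¬ IsLieTypeChar p (Soc P)) (R : Rest8 p P) : SD P ∨ (p ≠ 2 ∧ IsL 3 4 (Soc P)) := by
  have h8 : Fintype.card (Fin 8) = 8 := by simp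
  have hl2 : ∀ q, 5 ≤ q → q ≠ 9 → ¬ p ∣ q → IsL 2 q (Soc P) → SD P := by
    rintro q h5 h9 hpq ⟨K, i1, i2, hK, ⟨e⟩⟩
    rcases H464.Sl2.l2_stage1_le p hC (by rw [hK]; exact h5) (by rw [hK]; exact h9) (by rw [hK]; exact hpq) e
      (by rw [h8]; norm_num) with h | ⟨h, -⟩
    · exact h
    · rw [h8] at h
      omega
  have hu42 : p ≠ 2 → p ≠ 3 → IsU 4 2 (Soc P) → SD P := by
    rintro h2 h3 ⟨K, i1, i2, hK, ⟨e⟩⟩
    rcases H659.Sp4.u42_stage' hC p h2 h3 (by rw [h8]; norm_num) (by rw [hK]; norm_num) e with h | ⟨h, -⟩ | ⟨h, -⟩ <;>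
      rw [h8] at h <;> omega
  have hs62 : p ≠ 2 → IsS 3 2 (Soc P) → SD P := by
    rintro h2 ⟨K, i1, i2, hK, ⟨e⟩⟩
    exact (H916.SpEight.spSix_eight (zero_or_one hK) hC p e (two_ne h2) h8).1
  rcases list₁ (p := p) (n := 8) (by norm_num) hC hk hL with (h | h | h | h | h) | h
  · obtain ⟨m, h5, -, -, -, -, ⟨e⟩⟩ := h
    rcases (show m = 5 ∨ m = 6 ∨ m = 7 ∨ 8 ≤ m by omega) with rfl | rfl | rfl | hm
    · exact Or.inl (H937.T2.a5_sd hC e)
    · exact Or.inl (H937.T2.a6_sd_of_not_dvd hC e (by rw [h8]; norm_num))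
    · rcases H637.A7Main.coprime_three p hC e (by rw [h8]; norm_num) with h | ⟨h, -⟩
      · exact Or.inl h
      · rw [h8] at h
        omega
    · refine Or.inl (AltTwo.alt_sd hC h8 p hm (fun hp2 => ?_) e)
      by_contra hcon
      obtain rfl : m = 8 := by omega
      subst hp2
      obtain ⟨e'⟩ := S0256.result (F := ZMod 2) (by simp)
      exact hL (Or.inl ⟨ZMod 2, inferInstance, inferInstance, inferInstance, 4, by norm_num, fun h => by omega,
        ⟨e.trans e'.symm⟩⟩)
  · rcases h with ⟨q, hq, hpq, -, h⟩ | ⟨h1, -, h⟩ | ⟨h1, -, h⟩ | ⟨-, h1, -⟩ | ⟨h1, h2, -, h⟩ | ⟨h1, -, h⟩ |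
      ⟨-, h1, -⟩ | ⟨h1, -, h⟩ | ⟨h1, -, h⟩
    · simp only [Finset.mem_insert, Finset.mem_singleton] at hq
      exact Or.inl (hl2 q (by omega) (by omega) hpq h)
    · exact Or.inl (R.l33 h1 h)
    · obtain ⟨K, i1, i2, hK, ⟨e⟩⟩ := h
      by_cases hp2 : p = 2
      · subst hp2
        have h2 := (H936.U33Two.u33_two hC (by rw [hK]; norm_num) ⟨e⟩ (by rw [h8]; norm_num)).1
        rw [h8] at h2
        omega
      · have h2 := (H659.U3.u33_stage hC p hp2 h1 (by rw [h8]; norm_num) (by rw [hK]; norm_num) e).2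
        rw [h8] at h2
        omega
    · omega
    · exact Or.inl (hu42 h1 h2 h)
    · obtain ⟨K, i1, i2, hK, ⟨e⟩⟩ := h
      rcases H36.U52.t6 hC p h1 (by norm_num) (by rw [hK]; norm_num) e with ⟨h, -⟩ | ⟨h, -⟩ <;> omega
    · omega
    · exact Or.inl (hs62 h1 h)
    · exact Or.inl (R.o82 h1 h)
  · rcases h with ⟨hp2, -, h⟩ | ⟨-, h3, -⟩
    · rcases h with h | h | ⟨h3, h⟩ | h | h | h
      · refine Or.inl (hl2 7 (by norm_num) (by norm_num) (fun hd => ?_) h)
        have h7 : p = 7 := (Nat.prime_dvd_prime_iff_eq hp.out (by norm_num)).1 hd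
        exact hL (lie_of_isL hp.out hd (by norm_num) (fun _ => by norm_num) h)
      · exact Or.inr ⟨hp2, h⟩
      · exact Or.inl (hu42 hp2 h3 h)
      · exact Or.inl (hs62 hp2 h)
      · exact Or.inl (R.o82 hp2 h)
      · exact Or.inl (R.g24 hp2 h)
    · omega
  · obtain ⟨hp2, -, h⟩ := h
    exact Or.inl (H814.Sz8.core_sz8 hC (two_ne hp2) (by rw [h8]; norm_num) h).2.1
  · rcases h with h | h | h | h | h | h | h | h | h
    · rcases H6.M11.m11 hC p h (by rw [h8]; norm_num) with h | ⟨h, -⟩ | ⟨h, -⟩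
      · exact Or.inl h
      · rw [h8] at h
        omega
      · rw [h8] at h
        omega
    · exact Or.inl (R.m12 h)
    · exact Or.inl (R.m22 h)
    · obtain ⟨e⟩ := h
      have : Fintype F := Fintype.ofFinite F
      have h1 := (H4.LDM.Stage.m23_low hC e p (by rw [h8]; norm_num)).2.1
      rw [h8] at h1
      omega
    · obtain ⟨e⟩ := h
      have : Fintype F := Fintype.ofFinite F
      have h1 := (H4.LDM.Stage.m24_low hC e p (by rw [h8]; norm_num)).2.1
      rw [h8] at h1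
      omega
    · exact Or.inl (H1.TJ1.sd_iso hC h)
    · exact Or.inl (H1.TJ2.sd_iso hC h (by rw [h8]; norm_num))
    · exact Or.inl (R.j3 h)
    · exact Or.inl (R.suz h)
  · exact Or.inl (R.pend h)

end Cfsg.Agent.H424.Eight
end

-- part: H424/EightAsm
section
/-!
# Dimension eight: the linear and the unitary row (helper424)

`eight_lin`, `eight_uni` : `S5818`, `S5821` from `Rest8` and the classification.
-/

set_option autoImplicit false
set_option linter.unusedSectionVars false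

universe u

namespace Cfsg.Agent.H424.Eight

open Cfsg Cfsg.Geo Matrix Cfsg.Agent.H915.LD Cfsg.Agent.H912.Bd Cfsg.Agent.H936.List12

theorem main_eight {F : Type u} [Field F] [Finite F] {P : Subgroup (GL (Fin 8) F)} (p : ℕ) [hp : Fact p.Prime]
    [hFp : CharP F p] (hC : Core P) (hk : IsKnownSimple' (Soc P)) (R : Rest8 p P) (hsd : ¬ SD P) :
    (p ≠ 2 ∧ ∃ (K : Type) (_ : Field K) (_ : Fintype K), Fintype.card K = 4 ∧
      Nonempty (Soc P ≃* ProjectiveSpecialLinearGroup (Fin 3) K)) ∨ P = specialLinear (Fin 8) F ∨ UC p P := by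
  by_cases hL : IsLieTypeChar p (Soc P)
  · rcases own_eight p hC hL with h | h
    · exact absurd h hsd
    · exact Or.inr h
  · rcases cross_eight p hC hk hL R with h | ⟨h2, K, i1, i2, hK, e⟩
    · exact absurd h hsd
    · exact Or.inl ⟨h2, K, i1, i2, hK, e⟩

/-- **The linear row**, `S5818`. -/
theorem eight_lin {F : Type u} [Field F] [Fintype F]
    (hk : ∀ P : Subgroup (GL (Fin 8) F), Core P → IsKnownSimple' (Soc P))
    (R : ∀ (p : ℕ) (P : Subgroup (GL (Fin 8) F)), p.Prime → CharP F p → Core P → Rest8 p P)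
    (H : Subgroup (Matrix.GeneralLinearGroup (Fin 8) F))
    (hH : Cfsg.Geo.IsMaximalIn (Cfsg.Geo.specialLinear (Fin 8) F) H) (hS : Cfsg.Geo.InLinearResidualClass H) :
    ∃ (P : Subgroup (Matrix.GeneralLinearGroup (Fin 8) F)) (p : ℕ), Cfsg.Geo.IsResidualCore H P ∧ p.Prime ∧
    CharP F p ∧ (∃ (K : Type) (_ : Field K) (_ : Fintype K), Fintype.card K = 4 ∧
      Nonempty ((P ⧸ (Cfsg.Geo.scalars (Fin 8) F).subgroupOf P) ≃* Matrix.ProjectiveSpecialLinearGroup (Fin 3) K)) ∧
    ((Fintype.card F = p ∧ (p = 5 ∨ p % 80 = 9 ∨ p % 80 = 21 ∨ p % 80 = 29 ∨ p % 80 = 41 ∨ p % 80 = 61 ∨ p % 80 = 69 ∨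
        p % 80 = 1 ∨ p % 80 = 49)) ∨
     (Fintype.card F = p ^ 2 ∧ (p % 80 = 3 ∨ p % 80 = 77 ∨ p % 80 = 13 ∨ p % 80 = 67 ∨ p % 80 = 27 ∨ p % 80 = 53 ∨
        p % 80 = 37 ∨ p % 80 = 43 ∨ p % 80 = 7 ∨ p % 80 = 73 ∨ p % 80 = 17 ∨ p % 80 = 63 ∨ p % 80 = 23 ∨ p % 80 = 57 ∨
        p % 80 = 33 ∨ p % 80 = 47))) := by
  obtain ⟨p, hpF⟩ := CharP.exists F
  have hp : Fact p.Prime := ⟨CharP.char_is_prime F p⟩
  obtain ⟨P, hP, hC, hsd, hcj⟩ := linear_core hS
  rcases main_eight p hC (hk P hC) (R p P hp.out hpF hC) hsd with ⟨h2, K, i1, i2, hK, ⟨e⟩⟩ | h | h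
  · have h5 := H924.L34.linear e hK hC p h2 (by
      have := hcj p hp hpF 1
      rwa [pow_one] at this)
    refine ⟨P, p, hP, hp.out, hpF, ⟨K, i1, i2, hK, ⟨e⟩⟩, ?_⟩
    rcases h5 with ⟨h5, h6⟩ | ⟨h5, h6⟩
    · exact Or.inl ⟨h5, by (clear * - h6; solve | lia | omega)⟩
    · exact Or.inr ⟨h5, by (clear * - h6; solve | lia | omega)⟩
  · exact (hH.1.not_ge (by rw [← h]; exact hP.le)).elim
  · exfalso
    obtain ⟨b, h5⟩ := h.cj p hC
    exact hcj p hp hpF b h5

/-- **The unitary row**, `S5821`. -/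
theorem eight_uni {F : Type u} [Field F] [Fintype F]
    (hk : ∀ P : Subgroup (GL (Fin 8) F), Core P → IsKnownSimple' (Soc P))
    (R : ∀ (p : ℕ) (P : Subgroup (GL (Fin 8) F)), p.Prime → CharP F p → Core P → Rest8 p P)
    (RU : ∀ (p : ℕ) (P : Subgroup (GL (Fin 8) F)), p.Prime → CharP F p → Core P →
      ∀ (K : Type) (_ : Field K) (_ : Fintype K) (_ : CharP K p) (N q : ℕ), Fintype.card K = q ^ 2 → 4 ≤ N → N ≤ 7 →
        (Soc P ≃* PSU N K q) → SD P)
    (q : ℕ) (hF : Fintype.card F = q ^ 2) (H : Subgroup (Matrix.GeneralLinearGroup (Fin 8) F))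
    (hH : Cfsg.Geo.IsMaximalIn (Cfsg.GU 8 F q ⊓ Cfsg.Geo.specialLinear (Fin 8) F) H)
    (hS : Cfsg.Geo.InUnitaryResidualClass H) :
    ∃ P : Subgroup (Matrix.GeneralLinearGroup (Fin 8) F), Cfsg.Geo.IsResidualCore H P ∧ q.Prime ∧
    (q % 80 = 11 ∨ q % 80 = 19 ∨ q % 80 = 39 ∨ q % 80 = 51 ∨ q % 80 = 59 ∨ q % 80 = 71 ∨ q % 80 = 31 ∨ q % 80 = 79) ∧
    (∃ (K : Type) (_ : Field K) (_ : Fintype K), Fintype.card K = 4 ∧
      Nonempty ((P ⧸ (Cfsg.Geo.scalars (Fin 8) F).subgroupOf P) ≃* Matrix.ProjectiveSpecialLinearGroup (Fin 3) K)) := by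
  obtain ⟨p, hpF⟩ := CharP.exists F
  have hp : Fact p.Prime := ⟨CharP.char_is_prime F p⟩
  obtain ⟨P, hP, hC, hsd⟩ := unitary_core hS
  have hPG : P ≤ GU 8 F q := (hP.le.trans hH.1.le).trans inf_le_left
  rcases main_eight p hC (hk P hC) (R p P hp.out hpF hC) hsd with ⟨h2, K, i1, i2, hK, ⟨e⟩⟩ | h | h
  · obtain ⟨rfl, h6⟩ := H924.L34.unitary e hK hC p hF hPG h2
    exact ⟨P, hP, hp.out, by (clear * - h6; solve | lia | omega), ⟨K, i1, i2, hK, ⟨e⟩⟩⟩
  · refine (hH.1.not_ge ?_).elim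
    refine inf_le_right.trans ?_
    rw [← h]
    exact hP.le
  · exfalso
    rcases h.gu p hC hF hPG with h | ⟨K, i1, i2, i3, N, q₀, hK, hN, hN7, ⟨e⟩⟩
    · refine hH.1.not_ge ?_
      rw [← h]
      exact hP.le
    · exact hsd (RU p P hp.out hpF hC K i1 i2 i3 N q₀ hK hN hN7 e)

end Cfsg.Agent.H424.Eight
end

-- part: H424/EightFill
section
/-!
# Dimension eight: the remaining inputs (helper424)

* `rest8` : `Rest8` from the row `M₂₂` (`p` odd);
* `ru8` : the unitary groups in the defining characteristic.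
-/

set_option autoImplicit false
set_option linter.unusedSectionVars false

universe u

namespace Cfsg.Agent.H424.Eight

open Cfsg Cfsg.Geo Matrix Cfsg.Agent.H915.LD Cfsg.Agent.H912.Bd Cfsg.Agent.H936.List12

variable {F : Type u} [Field F] [Finite F] {P : Subgroup (GL (Fin 8) F)}

theorem m12_eight (p : ℕ) [hp : Fact p.Prime] [hFp : CharP F p] (hC : Core P) (h : Spor.IsoM12 (Soc P)) : SD P := by
  have h8 : Fintype.card (Fin 8) = 8 := by simp
  by_cases hp3 : p = 3
  · subst hp3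
    exfalso
    have h3 : (3 : F) = 0 := by exact_mod_cast CharP.cast_eq_zero F 3
    rcases H6.M11.m12_cases hC h with ⟨⟨e⟩⟩ | ⟨h2, -, -, -⟩
    · exact H48.M12T.m12_three hC h3 e (by rw [h8]; norm_num) (by rw [h8]; norm_num)
    · have hZ : (scalars (Fin 8) F).subgroupOf P ≠ ⊥ := by
        intro h0
        rw [h0, Subgroup.card_bot] at h2
        norm_num at h2
      rcases H24.M12.two_m12 (p := 3) hC h (by norm_num) hZ (by rw [h8]; norm_num) with ⟨-, h1, -⟩ | ⟨h1, -⟩
      · rw [h8] at h1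
        omega
      · exact h1 rfl
  · rcases H6.M11.m12_small hC p hp3 h (by rw [h8]; norm_num) with h1 | ⟨h1, -⟩
    · exact h1
    · rw [h8] at h1
      omega

theorem rest8 (p : ℕ) [hp : Fact p.Prime] [hFp : CharP F p] (hC : Core P)
    (hm : p ≠ 2 → Spor.IsoM22 (Soc P) → SD P) : Rest8 p P where
  l33 := by
    rintro h3 ⟨K, i1, i2, hK, ⟨e⟩⟩
    exact (H175.L33.l33 hC p h3 hK e (by simp)).2.1
  o82 := by
    rintro h2 ⟨K, i1, i2, hK, ⟨e⟩⟩
    exact (H916.T8.om hK hC p e (two_ne h2) (by simp)).2.1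
  g24 := by
    intro h2 h
    have h1 := (H937.G24.row hC h p h2 (by simp)).1
    simp at h1
  m12 := m12_eight p hC
  m22 := by
    intro h
    by_cases hp2 : p = 2
    · subst hp2
      obtain ⟨e⟩ := h
      rcases H921.M22.two e hC (by simp) with ⟨h1, -⟩ | ⟨h1, -⟩ | ⟨h1, -⟩ <;> simp at h1
    · exact hm hp2 h
  j3 := by
    intro h
    have h1 := (H95.JT.j3 p hC h (by simp)).2.1
    simp at h1
  suz := by
    rintro ⟨e⟩
    by_cases hp3 : p = 3
    · subst hp3
      have h1 := (H878.Sz.core_Suz_three hC e (by simp)).1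
      simp at h1
    · have h1 := (H878.Sz.core_Suz hC e (by simp) p hp3).1
      simp at h1
  pend := by
    rintro ⟨-, h | h | h | h⟩
    · obtain ⟨e⟩ := h
      have := H806.Ls.fi22_le hp.out hC e
      omega
    · obtain ⟨e⟩ := h
      have := H806.Ls.fi23_le hp.out hC e
      omega
    · obtain ⟨e⟩ := h
      have := H806.Ls.b_le hp.out hC e
      omega
    · obtain ⟨e⟩ := h
      have := H806.Ls.m_le hp.out hC e
      omega

/-- the unitary groups of degree `4 ≤ N ≤ 7` in the defining characteristic have no faithful absolutely irreducible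
representation of degree `8` -/
theorem ru8 (p : ℕ) [hp : Fact p.Prime] [hFp : CharP F p] (hC : Core P) (K : Type) [Field K] [Fintype K] [CharP K p]
    {N q : ℕ} (hK : Fintype.card K = q ^ 2) (h4 : 4 ≤ N) (h7 : N ≤ 7) (e : Soc P ≃* PSU N K q) : SD P := by
  have h8 : Fintype.card (Fin 8) = 8 := by simp
  rcases H876.D3.core_psu p K h4 (by rw [h8]; norm_num) hK hC e with h | ⟨-, h, -⟩ | ⟨-, h, -⟩ | ⟨-, h⟩ <;>
    rw [h8] at h <;> omega

end Cfsg.Agent.H424.Eight
end

-- part: H424/M22Lin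
section
/-!
# Linear algebra for `M₂₂` in dimension eight (helper424)
-/

set_option autoImplicit false
set_option linter.unusedSectionVars false

namespace Cfsg.Agent.H424.M22

open Module

variable {Ω V : Type*} [Field Ω] [AddCommGroup V] [Module Ω V]

/-- `n² = 0`, `I² = -1`, `I n = (c I - n) I` -/
structure Hf (I n : Module.End Ω V) (c : Ω) : Prop where
  c0 : c ≠ 0
  nn : n * n = 0
  ii : I * I = -1
  rel : I * n = (c • I - n) * I

lemma Hf.neg {I n : Module.End Ω V} {c : Ω} (h : Hf I n c) : Hf I (-n) (-c) where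
  c0 := neg_ne_zero.2 h.c0
  nn := by rw [neg_mul_neg, h.nn]
  ii := h.ii
  rel := by
    rw [mul_neg, h.rel, neg_smul]
    noncomm_ring

lemma Hf.inj {I n : Module.End Ω V} {c : Ω} (h : Hf I n c) : Function.Injective I := by
  intro v w hvw
  have h1 : ∀ v, I (I v) = -v := fun v => by
    have := congrArg (fun f : Module.End Ω V => f v) h.ii
    exact this
  rw [← neg_inj, ← h1, ← h1, hvw]

/-- the kernel of `n` has half the dimension -/
lemma Hf.half [FiniteDimensional Ω V] {I n : Module.End Ω V} {c : Ω} (h : Hf I n c) :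
    finrank Ω V = 2 * finrank Ω (LinearMap.ker n) := by
  have h1 := LinearMap.finrank_range_add_finrank_ker n
  have h2 : LinearMap.range n ≤ LinearMap.ker n := by
    rintro _ ⟨v, rfl⟩
    have := congrArg (fun f : Module.End Ω V => f v) h.nn
    exact this
  have h3 := Submodule.finrank_mono h2
  have h4 : Disjoint (LinearMap.ker n) ((LinearMap.ker n).map I) := by
    rw [Submodule.disjoint_def]
    rintro _ hv ⟨w, hw, rfl⟩
    have e1 : n w = 0 := hw
    have e2 : n (I w) = 0 := hv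
    have e3 : I (n w) = (c • I) (I w) - n (I w) := by
      have := congrArg (fun f : Module.End Ω V => f w) h.rel
      exact this
    rw [e1, e2, map_zero, sub_zero, LinearMap.smul_apply] at e3
    have e4 : I (I w) = 0 := (smul_eq_zero.1 e3.symm).resolve_left h.c0
    exact h.inj (by rw [e4, map_zero])
  have h5 := Submodule.finrank_add_finrank_le_of_disjoint h4
  have h6 : finrank Ω ((LinearMap.ker n).map I) = finrank Ω (LinearMap.ker n) :=
    (Submodule.equivMapOfInjective I h.inj _).finrank_eq.symm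
  omega

/-- the restriction of an operator to an invariant subspace -/
def res (U : Submodule Ω V) (f : Module.End Ω V) (h : ∀ v ∈ U, f v ∈ U) : Module.End Ω U := f.restrict h

lemma Hf.res {I n : Module.End Ω V} {c : Ω} (h : Hf I n c) (U : Submodule Ω V) (hI : ∀ v ∈ U, I v ∈ U)
    (hn : ∀ v ∈ U, n v ∈ U) : Hf (res U I hI) (res U n hn) c where
  c0 := h.c0
  nn := LinearMap.ext fun v => Subtype.ext (by
    have := congrArg (fun f : Module.End Ω V => f v.1) h.nn
    exact this)
  ii := LinearMap.ext fun v => Subtype.ext (by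
    have := congrArg (fun f : Module.End Ω V => f v.1) h.ii
    exact this)
  rel := LinearMap.ext fun v => Subtype.ext (by
    have := congrArg (fun f : Module.End Ω V => f v.1) h.rel
    exact this)

/-- the kernel of `n` on an invariant subspace -/
lemma Hf.half_sub [FiniteDimensional Ω V] {I n : Module.End Ω V} {c : Ω} (h : Hf I n c) (U : Submodule Ω V)
    (hI : ∀ v ∈ U, I v ∈ U) (hn : ∀ v ∈ U, n v ∈ U) :
    finrank Ω U = 2 * finrank Ω (U ⊓ LinearMap.ker n : Submodule Ω V) := by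
  have h1 := (h.res U hI hn).half
  have h2 : (LinearMap.ker (M22.res U n hn)).map U.subtype = U ⊓ LinearMap.ker n := by
    ext v
    rw [Submodule.mem_map, Submodule.mem_inf]
    constructor
    · rintro ⟨w, hw, rfl⟩
      refine ⟨w.2, ?_⟩
      have : M22.res U n hn w = 0 := hw
      have h3 := congrArg Subtype.val this
      exact h3
    · rintro ⟨hv, hv'⟩
      exact ⟨⟨v, hv⟩, Subtype.ext hv', rfl⟩
  rw [← h2, Submodule.finrank_map_subtype_eq]
  exact h1

/-- nilpotent operators on a plane -/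
lemma nil_plane [FiniteDimensional Ω V] (h2 : finrank Ω V ≤ 2) {N M : Module.End Ω V} (hN : N * N * N = 0)
    (hM : M * M * M = 0) (hc : N * M = M * N) : N * M = 0 := by
  by_cases hV : finrank Ω V = 0
  · have : Subsingleton V := finrank_zero_iff.1 hV
    exact Subsingleton.elim _ _
  · have hr : finrank Ω (LinearMap.range M) ≤ 1 := by
      by_contra hcon
      have h3 := Submodule.finrank_le (LinearMap.range M)
      have h4 : LinearMap.range M = ⊤ := Submodule.eq_top_of_finrank_eq (by omega)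
      have h5 : Function.Surjective M := LinearMap.range_eq_top.1 h4
      have h6 : Function.Surjective (M * M * M : Module.End Ω V) := (h5.comp h5).comp h5
      rw [hM] at h6
      have : Subsingleton V := by
        constructor
        intro a b
        obtain ⟨a', rfl⟩ := h6 a
        obtain ⟨b', rfl⟩ := h6 b
        rfl
      exact hV finrank_zero_of_subsingleton
    apply LinearMap.ext
    intro v
    change N (M v) = 0
    have hNM : ∀ v, N (M v) = M (N v) := fun v => by
      have := congrArg (fun f : Module.End Ω V => f v) hc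
      exact this
    by_cases h0 : M v = 0
    · rw [h0, map_zero]
    · obtain ⟨c, hc'⟩ : ∃ c : Ω, c • (M v) = N (M v) := by
        have h7 : (⟨M v, v, rfl⟩ : LinearMap.range M) ≠ 0 := fun h => h0 (congrArg Subtype.val h)
        obtain ⟨c, hc'⟩ := (finrank_le_one_iff.1 hr)
        have h8 := hc' ⟨M v, v, rfl⟩
        have h9 := hc' ⟨N (M v), ⟨N v, (hNM v).symm⟩⟩
        obtain ⟨a, ha⟩ := h8
        obtain ⟨b, hb⟩ := h9
        have ha0 : a ≠ 0 := by
          rintro rfl
          rw [zero_smul] at ha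
          exact h7 ha.symm
        refine ⟨b * a⁻¹, ?_⟩
        have e1 := congrArg Subtype.val ha
        have e2 := congrArg Subtype.val hb
        change a • (c : V) = M v at e1
        change b • (c : V) = N (M v) at e2
        rw [← e2, ← e1, smul_smul, mul_assoc, inv_mul_cancel₀ ha0, mul_one]
      have h10 : N (N (N (M v))) = (c * c * c) • M v := by
        rw [← hc', map_smul, ← hc', map_smul, map_smul, ← hc', smul_smul, smul_smul]
      have h11 : N (N (N (M v))) = 0 := by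
        have := congrArg (fun f : Module.End Ω V => f (M v)) hN
        exact this
      rw [h11] at h10
      have h12 : c * c * c = 0 := (smul_eq_zero.1 h10.symm).resolve_right h0
      have h13 : c = 0 := by
        rcases mul_eq_zero.1 h12 with h | h
        · exact mul_self_eq_zero.1 h
        · exact h
      rw [← hc', h13, zero_smul]

/-- the fixed space of an operator -/
def fx (f : Module.End Ω V) : Submodule Ω V := LinearMap.ker (f - 1)

lemma mem_fx {f : Module.End Ω V} {v : V} : v ∈ fx f ↔ f v = v := by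
  unfold fx
  rw [LinearMap.mem_ker, LinearMap.sub_apply, Module.End.one_apply, sub_eq_zero]

lemma inv_ker {f g : Module.End Ω V} (h : f * g = g * f) : ∀ v ∈ LinearMap.ker g, f v ∈ LinearMap.ker g := by
  intro v hv
  rw [LinearMap.mem_ker] at hv ⊢
  have := congrArg (fun f : Module.End Ω V => f v) h
  have h1 : f (g v) = g (f v) := this
  rw [← h1, hv, map_zero]

lemma inv_inf {f : Module.End Ω V} {U U' : Submodule Ω V} (h : ∀ v ∈ U, f v ∈ U) (h' : ∀ v ∈ U', f v ∈ U') :
    ∀ v ∈ U ⊓ U', f v ∈ U ⊓ U' := fun v hv => ⟨h v hv.1, h' v hv.2⟩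

/-- two commuting pairs -/
structure Pr (I n F m : Module.End Ω V) (c d : Ω) : Prop where
  h1 : Hf I n c
  h2 : Hf F m d
  nm : n * m = m * n
  Im : I * m = m * I
  Fn : F * n = n * F

/-- quarter -/
lemma Pr.quarter [FiniteDimensional Ω V] {I n F m : Module.End Ω V} {c d : Ω} (h : Pr I n F m c d)
    (K : Module.End Ω V) (hI : I * K = K * I) (hn : n * K = K * n) (hF : F * K = K * F) (hm : m * K = K * m) :
    finrank Ω (LinearMap.ker K) = 2 * finrank Ω (LinearMap.ker K ⊓ LinearMap.ker n : Submodule Ω V) ∧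
    finrank Ω (LinearMap.ker K ⊓ LinearMap.ker n : Submodule Ω V) =
      2 * finrank Ω (LinearMap.ker K ⊓ LinearMap.ker n ⊓ LinearMap.ker m : Submodule Ω V) :=
  ⟨h.h1.half_sub _ (inv_ker hI) (inv_ker hn),
    h.h2.half_sub _ (inv_inf (inv_ker hF) (inv_ker h.Fn)) (inv_inf (inv_ker hm) (inv_ker h.nm.symm))⟩

/-- an operator commuting with `I` killed by `n` is zero -/
lemma Hf.zero {I n : Module.End Ω V} {c : Ω} (h : Hf I n c) {T : Module.End Ω V} (hT : I * T = T * I)
    (h0 : n * T = 0) : T = 0 := by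
  have h1 : I * n * T = (c • I - n) * I * T := by rw [h.rel]
  have h2 : (c • I - n) * I * T = c • (I * I * T) - (n * T) * I := by
    rw [sub_mul, sub_mul, smul_mul_assoc, smul_mul_assoc, mul_assoc n, hT, ← mul_assoc n]
  rw [mul_assoc, h0, mul_zero, h2, h0, zero_mul, sub_zero, h.ii] at h1
  have h3 := (smul_eq_zero.1 h1.symm).resolve_left h.c0
  rw [neg_one_mul, neg_eq_zero] at h3
  exact h3

/-- the fixed space of `(1 + n) (1 + m) (1 + K)` -/
theorem Pr.le_three [FiniteDimensional Ω V] (hV : finrank Ω V = 8) (h2 : (2 : Ω) ≠ 0) {I n F m : Module.End Ω V}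
    {c d : Ω} (h : Pr I n F m c d)
    (K : Module.End Ω V) (hI : I * K = K * I) (hn : n * K = K * n) (hF : F * K = K * F) (hm : m * K = K * m)
    (hKK : K * K = 0) (hK : K ≠ 0) : finrank Ω (fx ((1 + n) * (1 + m) * (1 + K))) ≤ 3 := by
  obtain ⟨q1, q2⟩ := h.quarter K hI hn hF hm
  have hk : finrank Ω (LinearMap.ker K) ≠ 8 := by
    intro h0
    apply hK
    rw [← LinearMap.ker_eq_top]
    exact Submodule.eq_top_of_finrank_eq (by rw [h0, hV])
  have hk' := Submodule.finrank_le (LinearMap.ker K)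
  set S : Submodule Ω V := LinearMap.ker K ⊓ LinearMap.ker n ⊓ LinearMap.ker m with hS
  have hS1 : finrank Ω S ≤ 1 := by omega
  -- the equations on the fixed space
  have key : ∀ v ∈ fx ((1 + n) * (1 + m) * (1 + K)),
      n v ∈ S ∧ m v ∈ S ∧ (n v = 0 → m v = 0 → v ∈ S) := by
    intro v hv
    rw [mem_fx] at hv
    have nn : ∀ v, n (n v) = 0 := fun v => by
      have := congrArg (fun f : Module.End Ω V => f v) h.h1.nn
      exact this
    have mm : ∀ v, m (m v) = 0 := fun v => by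
      have := congrArg (fun f : Module.End Ω V => f v) h.h2.nn
      exact this
    have KK : ∀ v, K (K v) = 0 := fun v => by
      have := congrArg (fun f : Module.End Ω V => f v) hKK
      exact this
    have mn : ∀ v, m (n v) = n (m v) := fun v => by
      have := congrArg (fun f : Module.End Ω V => f v) h.nm
      exact this.symm
    have Kn : ∀ v, K (n v) = n (K v) := fun v => by
      have := congrArg (fun f : Module.End Ω V => f v) hn
      exact this.symm
    have Km : ∀ v, K (m v) = m (K v) := fun v => by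
      have := congrArg (fun f : Module.End Ω V => f v) hm
      exact this.symm
    have e0 : n v + m v + K v + n (m v) + n (K v) + m (K v) + n (m (K v)) = 0 := by
      have e1 : ((1 + n) * (1 + m) * (1 + K)) v =
          v + (n v + m v + K v + n (m v) + n (K v) + m (K v) + n (m (K v))) := by
        change (v + K v) + m (v + K v) + n ((v + K v) + m (v + K v)) = _
        simp only [map_add]
        abel
      rw [hv] at e1
      have := e1.symm
      rwa [add_eq_left] at this
    have e3 : n (m (K v)) = 0 := by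
      have e1 := congrArg (fun w => m (K w)) e0
      simp only [map_add, map_zero, KK, Kn, Km, mm, mn, add_zero] at e1
      exact e1
    have e4 : n (m v) + n (K v) = 0 := by
      have e1 := congrArg n e0
      simp only [map_add, map_zero, nn, e3, add_zero, zero_add] at e1
      exact e1
    have e5 : n (m v) + m (K v) = 0 := by
      have e1 := congrArg m e0
      simp only [map_add, map_zero, mm, mn, e3, add_zero] at e1
      exact e1
    have e6 : n (K v) + m (K v) = 0 := by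
      have e1 := congrArg K e0
      simp only [map_add, map_zero, KK, Kn, Km, e3, add_zero] at e1
      exact e1
    have f1 : n (m v) = 0 := by
      have : (2 : Ω) • n (m v) = 0 := by
        have e7 : (2 : Ω) • n (m v) = (n (m v) + n (K v)) + (n (m v) + m (K v)) - (n (K v) + m (K v)) := by
          rw [two_smul]; abel
        rw [e7, e4, e5, e6]; simp
      exact (smul_eq_zero.1 this).resolve_left h2
    have f2 : n (K v) = 0 := by rwa [f1, zero_add] at e4
    have f3 : m (K v) = 0 := by rwa [f1, zero_add] at e5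
    have f4 : n v + m v + K v = 0 := by
      rw [f1, f2, f3, map_zero, add_zero, add_zero, add_zero, add_zero] at e0
      exact e0
    refine ⟨⟨⟨?_, nn v⟩, ?_⟩, ⟨⟨?_, f1⟩, mm v⟩, fun g1 g2 => ⟨⟨?_, g1⟩, g2⟩⟩
    · change K (n v) = 0
      rw [Kn, f2]
    · change m (n v) = 0
      rw [mn, f1]
    · change K (m v) = 0
      rw [Km, f3]
    · change K v = 0
      rw [g1, g2, zero_add, zero_add] at f4
      exact f4
  let Φ : fx ((1 + n) * (1 + m) * (1 + K)) →ₗ[Ω] S × S :=
    { toFun := fun v => (⟨n v.1, (key v.1 v.2).1⟩, ⟨m v.1, (key v.1 v.2).2.1⟩)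
      map_add' := fun v w => by
        apply Prod.ext <;> apply Subtype.ext
        · exact map_add n _ _
        · exact map_add m _ _
      map_smul' := fun a v => by
        apply Prod.ext <;> apply Subtype.ext
        · exact map_smul n _ _
        · exact map_smul m _ _ }
  have r1 := LinearMap.finrank_range_add_finrank_ker Φ
  have r2 : finrank Ω (LinearMap.range Φ) ≤ 2 := by
    refine (Submodule.finrank_le _).trans ?_
    rw [Module.finrank_prod]
    omega
  have r3 : finrank Ω (LinearMap.ker Φ) ≤ 1 := by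
    refine le_trans ?_ hS1
    rw [← Submodule.finrank_map_subtype_eq]
    apply Submodule.finrank_mono
    rintro _ ⟨v, hv, rfl⟩
    have h3 : Φ v = 0 := hv
    exact (key v.1 v.2).2.2 (congrArg (fun x : S × S => (x.1 : V)) h3) (congrArg (fun x : S × S => (x.2 : V)) h3)
  omega

/-- the fixed space of `(1 + n) (1 + N)` -/
theorem Pr.four_le [FiniteDimensional Ω V] (hV : finrank Ω V = 8) {I n F m : Module.End Ω V}
    {c d : Ω} (h : Pr I n F m c d)
    (K : Module.End Ω V) (hI : I * K = K * I) (hn : n * K = K * n) (hF : F * K = K * F) (hm : m * K = K * m)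
    (hKK : K * K = 0) (hK : K ≠ 0) : 4 ≤ finrank Ω (fx ((1 + n) * (1 + K))) := by
  obtain ⟨q1, q2⟩ := h.quarter K hI hn hF hm
  have hk : finrank Ω (LinearMap.ker K) ≠ 8 := by
    intro h0
    apply hK
    rw [← LinearMap.ker_eq_top]
    exact Submodule.eq_top_of_finrank_eq (by rw [h0, hV])
  have hk' := Submodule.finrank_le (LinearMap.ker K)
  have hS1 : finrank Ω (LinearMap.ker K ⊓ LinearMap.ker n : Submodule Ω V) ≤ 2 := by omega
  have nn : ∀ v, n (n v) = 0 := fun v => by
    have := congrArg (fun f : Module.End Ω V => f v) h.h1.nn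
    exact this
  have KK : ∀ v, K (K v) = 0 := fun v => by
    have := congrArg (fun f : Module.End Ω V => f v) hKK
    exact this
  have Kn : ∀ v, K (n v) = n (K v) := fun v => by
    have := congrArg (fun f : Module.End Ω V => f v) hn
    exact this.symm
  have r1 := LinearMap.finrank_range_add_finrank_ker ((1 + n) * (1 + K) - 1 : Module.End Ω V)
  have r2 : LinearMap.range ((1 + n) * (1 + K) - 1 : Module.End Ω V) ≤ LinearMap.ker (n - K) := by
    rintro _ ⟨v, rfl⟩
    change n ((v + K v) + n (v + K v) - v) - K ((v + K v) + n (v + K v) - v) = 0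
    simp only [map_add, map_sub, nn, KK, Kn, add_zero, map_zero]
    abel
  have r3 : finrank Ω (LinearMap.ker (n - K)) ≤ 4 := by
    have key : ∀ v ∈ LinearMap.ker (n - K), n v ∈ LinearMap.ker K ⊓ LinearMap.ker n := by
      intro v hv
      have e1 : n v - K v = 0 := hv
      refine ⟨?_, nn v⟩
      change K (n v) = 0
      rw [sub_eq_zero.1 e1, KK]
    let Φ : LinearMap.ker (n - K) →ₗ[Ω] (LinearMap.ker K ⊓ LinearMap.ker n : Submodule Ω V) :=
      { toFun := fun v => ⟨n v.1, key v.1 v.2⟩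
        map_add' := fun v w => Subtype.ext (map_add n _ _)
        map_smul' := fun a v => Subtype.ext (map_smul n _ _) }
    have s1 := LinearMap.finrank_range_add_finrank_ker Φ
    have s2 := Submodule.finrank_le (LinearMap.range Φ)
    have s3 : finrank Ω (LinearMap.ker Φ) ≤ finrank Ω (LinearMap.ker K ⊓ LinearMap.ker n : Submodule Ω V) := by
      rw [← Submodule.finrank_map_subtype_eq]
      apply Submodule.finrank_mono
      rintro _ ⟨v, hv, rfl⟩
      have e1 : n v.1 - K v.1 = 0 := v.2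
      have e2 : n v.1 = 0 := congrArg Subtype.val (show Φ v = 0 from hv)
      refine ⟨?_, e2⟩
      change K v.1 = 0
      rw [← sub_eq_zero.1 e1, e2]
    (clear * - hS1 s1 s2 s3; omega)
  have r4 := Submodule.finrank_mono r2
  unfold fx
  omega

end Cfsg.Agent.H424.M22
end

-- part: H424/M22Three
section
/-!
# Characteristic three: quaternion operators (helper424)
-/

set_option autoImplicit false
set_option linter.unusedSectionVars false

namespace Cfsg.Agent.H424.M22

open Module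

variable {Ω V : Type*} [Field Ω] [AddCommGroup V] [Module Ω V]

/-- a product of commuting nilpotent operators, which commute with two pairs, in dimension eight -/
theorem Pr.prod_zero [FiniteDimensional Ω V] (hV : finrank Ω V = 8) {I n F m : Module.End Ω V}
    {c d : Ω} (h : Pr I n F m c d) {N M : Module.End Ω V} (hN : N * N * N = 0) (hM : M * M * M = 0)
    (hc : N * M = M * N) (IN : I * N = N * I) (IM : I * M = M * I) (FN : F * N = N * F) (FM : F * M = M * F)
    (nN : n * N = N * n) (nM : n * M = M * n) (mN : m * N = N * m) (mM : m * M = M * m) : N * M = 0 := by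
  obtain ⟨q1, q2⟩ := h.quarter 0 (by simp) (by simp) (by simp) (by simp)
  set W : Submodule Ω V := LinearMap.ker (0 : Module.End Ω V) ⊓ LinearMap.ker n ⊓ LinearMap.ker m with hW
  have hk : finrank Ω (LinearMap.ker (0 : Module.End Ω V)) = 8 := by
    rw [LinearMap.ker_zero, finrank_top, hV]
  have hW2 : finrank Ω W ≤ 2 := by omega
  have iW : ∀ T : Module.End Ω V, n * T = T * n → m * T = T * m → ∀ v ∈ W, T v ∈ W := by
    intro T h1 h2
    exact inv_inf (inv_inf (inv_ker (by simp)) (inv_ker h1.symm)) (inv_ker h2.symm)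
  have h1 := nil_plane hW2 (N := res W N (iW N nN mN)) (M := res W M (iW M nM mM))
    (LinearMap.ext fun v => Subtype.ext (by
      have := congrArg (fun f : Module.End Ω V => f v.1) hN
      exact this))
    (LinearMap.ext fun v => Subtype.ext (by
      have := congrArg (fun f : Module.End Ω V => f v.1) hM
      exact this))
    (LinearMap.ext fun v => Subtype.ext (by
      have := congrArg (fun f : Module.End Ω V => f v.1) hc
      exact this))
  have h2 : n * (m * (N * M)) = 0 := by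
    apply LinearMap.ext
    intro v
    have e1 : n * (m * (N * M)) = N * M * (n * m) := by
      calc n * (m * (N * M)) = n * ((m * N) * M) := by noncomm_ring
        _ = n * (N * (m * M)) := by rw [mN]; noncomm_ring
        _ = (n * N) * (M * m) := by rw [mM]; noncomm_ring
        _ = N * (n * M) * m := by rw [nN]; noncomm_ring
        _ = N * M * (n * m) := by rw [nM]; noncomm_ring
    rw [e1]
    have hw : n (m v) ∈ W := by
      refine ⟨⟨by simp, ?_⟩, ?_⟩
      · have := congrArg (fun f : Module.End Ω V => f (m v)) h.h1.nn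
        exact this
      · have e2 := congrArg (fun f : Module.End Ω V => f (m v)) h.nm
        have e3 := congrArg (fun f : Module.End Ω V => f v) h.h2.nn
        have e2' : n (m (m v)) = m (n (m v)) := e2
        have e3' : m (m v) = 0 := e3
        rw [e3', map_zero] at e2'
        exact e2'.symm
    have := congrArg (fun f : Module.End Ω W => (f ⟨n (m v), hw⟩ : V)) h1
    exact this
  have h3 := h.h1.zero (T := m * (N * M)) (by
    calc I * (m * (N * M)) = (I * m) * (N * M) := by noncomm_ring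
      _ = m * (I * N) * M := by rw [h.Im]; noncomm_ring
      _ = m * N * (I * M) := by rw [IN]; noncomm_ring
      _ = m * (N * M) * I := by rw [IM]; noncomm_ring) h2
  exact h.h2.zero (T := N * M) (by
    calc F * (N * M) = (F * N) * M := by noncomm_ring
      _ = N * (F * M) := by rw [FN]; noncomm_ring
      _ = N * M * F := by rw [FM]; noncomm_ring) h3

/-- a quaternion triple permuted by an operator of order three -/
structure Qt (X I J K : Module.End Ω V) : Prop where
  X3 : X * X * X = 1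
  XI : X * I = J * X
  XJ : X * J = K * X
  XK : X * K = I * X
  II : I * I = -1
  IJ : I * J = K
  JI : J * I = -K

section qt

variable {X I J K : Module.End Ω V} (h : Qt X I J K)

include h

lemma Qt.JJ : J * J = -1 := by
  calc J * J = J * J * (X * X * X) := by rw [h.X3, mul_one]
    _ = J * (J * X) * (X * X) := by noncomm_ring
    _ = J * (X * I) * (X * X) := by rw [h.XI]
    _ = (J * X) * I * (X * X) := by noncomm_ring
    _ = X * I * I * (X * X) := by rw [h.XI]
    _ = X * (I * I) * (X * X) := by noncomm_ring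
    _ = -(X * X * X) := by rw [h.II]; noncomm_ring
    _ = -1 := by rw [h.X3]

lemma Qt.KI : K * I = J := by
  calc K * I = I * (J * I) := by rw [← h.IJ]; noncomm_ring
    _ = -(I * K) := by rw [h.JI]; noncomm_ring
    _ = -((I * I) * J) := by rw [← h.IJ]; noncomm_ring
    _ = J := by rw [h.II]; noncomm_ring

lemma Qt.IK : I * K = -J := by
  calc I * K = (I * I) * J := by rw [← h.IJ]; noncomm_ring
    _ = -J := by rw [h.II]; noncomm_ring

lemma Qt.KJ : K * J = -I := by
  calc K * J = I * (J * J) := by rw [← h.IJ]; noncomm_ring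
    _ = -I := by rw [h.JJ]; noncomm_ring

lemma Qt.JK : J * K = I := by
  calc J * K = (J * I) * J := by rw [← h.IJ]; noncomm_ring
    _ = -(K * J) := by rw [h.JI]; noncomm_ring
    _ = I := by rw [h.KJ, neg_neg]

lemma Qt.KK : K * K = -1 := by
  calc K * K = I * (J * K) := by rw [← h.IJ]; noncomm_ring
    _ = -1 := by rw [h.JK, h.II]

end qt

/-- `n = I + J + K` -/
def nn (I J K : Module.End Ω V) : Module.End Ω V := I + J + K

/-- `N = (1 - n) X - 1` -/
def NN (X I J K : Module.End Ω V) : Module.End Ω V := (1 - nn I J K) * X - 1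

lemma three_mul' (h3 : (3 : Ω) = 0) (T : Module.End Ω V) : T + T + T = 0 := by
  have h1 : T + T + T = (3 : Ω) • T := by
    rw [show (3 : Ω) = 1 + 1 + 1 by norm_num, add_smul, add_smul, one_smul]
  rw [h1, h3, zero_smul]

section qt2

variable {X I J K : Module.End Ω V} (h : Qt X I J K) (h3 : (3 : Ω) = 0)

include h h3

lemma Qt.nn_sq : nn I J K * nn I J K = 0 := by
  unfold nn
  have e : (I + J + K) * (I + J + K) =
      I * I + J * J + K * K + (I * J + J * I) + (I * K + K * I) + (J * K + K * J) := by noncomm_ring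
  rw [e, h.II, h.JJ, h.KK, h.IJ, h.JI, h.IK, h.KI, h.JK, h.KJ]
  have e2 := three_mul' h3 (1 : Module.End Ω V)
  calc _ = -((1 : Module.End Ω V) + 1 + 1) := by abel
    _ = 0 := by rw [e2, neg_zero]

lemma Qt.hf : Hf I (nn I J K) (2 : Ω) where
  c0 := by
    intro h2
    have : (1 : Ω) = 0 := by
      have e : (1 : Ω) = 3 - 2 := by norm_num
      rw [e, h3, h2, sub_zero]
    exact one_ne_zero this
  nn := h.nn_sq h3
  ii := h.II
  rel := by
    unfold M22.nn
    have e1 : I * (I + J + K) = I * I + I * J + I * K := by noncomm_ring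
    have e2 : ((2 : Ω) • I - (I + J + K)) * I = I * I - J * I - K * I := by
      rw [two_smul]; noncomm_ring
    rw [e1, e2, h.IJ, h.IK, h.JI, h.KI]
    abel

lemma Qt.one_sub_mul : (1 + nn I J K) * (1 - nn I J K) = 1 := by
  calc (1 + nn I J K) * (1 - nn I J K) = 1 - nn I J K * nn I J K := by noncomm_ring
    _ = 1 := by rw [h.nn_sq h3, sub_zero]

lemma Qt.one_sub_mul' : (1 - nn I J K) * (1 + nn I J K) = 1 := by
  calc (1 - nn I J K) * (1 + nn I J K) = 1 - nn I J K * nn I J K := by noncomm_ring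
    _ = 1 := by rw [h.nn_sq h3, sub_zero]

lemma Qt.X_eq : X = (1 + nn I J K) * (1 + NN X I J K) := by
  calc X = ((1 + nn I J K) * (1 - nn I J K)) * X := by rw [h.one_sub_mul h3, one_mul]
    _ = (1 + nn I J K) * (1 + NN X I J K) := by unfold NN; noncomm_ring

omit h3 in
lemma Qt.Xn : X * nn I J K = nn I J K * X := by
  unfold nn
  calc X * (I + J + K) = X * I + X * J + X * K := by noncomm_ring
    _ = (I + J + K) * X := by rw [h.XI, h.XJ, h.XK]; noncomm_ring

omit h3 in
lemma Qt.nN : nn I J K * NN X I J K = NN X I J K * nn I J K := by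
  unfold NN
  calc nn I J K * ((1 - nn I J K) * X - 1) = (1 - nn I J K) * (nn I J K * X) - nn I J K := by noncomm_ring
    _ = ((1 - nn I J K) * X - 1) * nn I J K := by rw [← h.Xn]; noncomm_ring

/-- `I (1 - n) = (1 - n) J` -/
lemma Qt.Imn : I * (1 - nn I J K) = (1 - nn I J K) * J := by
  have e1 : (1 + nn I J K) * I = J * (1 + nn I J K) := by
    unfold nn
    calc (1 + (I + J + K)) * I = I + I * I + J * I + K * I := by noncomm_ring
      _ = J + J * I + J * J + J * K := by
        rw [h.II, h.JI, h.KI, h.JJ, h.JK]; abel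
      _ = J * (1 + (I + J + K)) := by noncomm_ring
  calc I * (1 - nn I J K) = ((1 - nn I J K) * (1 + nn I J K)) * (I * (1 - nn I J K)) := by
        rw [h.one_sub_mul' h3, one_mul]
    _ = (1 - nn I J K) * ((1 + nn I J K) * I) * (1 - nn I J K) := by noncomm_ring
    _ = (1 - nn I J K) * J * ((1 + nn I J K) * (1 - nn I J K)) := by rw [e1]; noncomm_ring
    _ = (1 - nn I J K) * J := by rw [h.one_sub_mul h3, mul_one]

lemma Qt.IN : I * NN X I J K = NN X I J K * I := by
  unfold NN
  calc I * ((1 - nn I J K) * X - 1) = (I * (1 - nn I J K)) * X - I := by noncomm_ring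
    _ = (1 - nn I J K) * (J * X) - I := by rw [h.Imn h3]; noncomm_ring
    _ = ((1 - nn I J K) * X - 1) * I := by rw [← h.XI]; noncomm_ring

lemma Qt.N3 : NN X I J K * NN X I J K * NN X I J K = 0 := by
  have hA : ∀ A : Module.End Ω V, A * A * A = 1 → (A - 1) * (A - 1) * (A - 1) = 0 := by
    intro A hA
    have e1 := three_mul' h3 (A * A - A)
    calc (A - 1) * (A - 1) * (A - 1) = A * A * A - 1 - ((A * A - A) + (A * A - A) + (A * A - A)) := by noncomm_ring
      _ = 0 := by rw [hA, e1]; simp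
  apply hA
  set a := 1 - nn I J K with ha
  have hXa : X * a = a * X := by
    rw [ha, mul_sub, sub_mul, h.Xn, mul_one, one_mul]
  have haaa : a * a * a = 1 := by
    have e1 := three_mul' h3 (nn I J K)
    calc a * a * a = 1 - (nn I J K + nn I J K + nn I J K) + (nn I J K * nn I J K) + (nn I J K * nn I J K) +
          (nn I J K * nn I J K) - nn I J K * (nn I J K * nn I J K) := by rw [ha]; noncomm_ring
      _ = 1 := by rw [e1, h.nn_sq h3]; simp
  calc a * X * (a * X) * (a * X) = a * (X * a) * (X * a) * X := by noncomm_ring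
    _ = a * (a * X) * (a * X) * X := by rw [hXa]
    _ = a * a * (X * a) * X * X := by noncomm_ring
    _ = (a * a * a) * (X * X * X) := by rw [hXa]; noncomm_ring
    _ = 1 := by rw [haaa, h.X3, mul_one]

omit h3 h in
lemma comm_nn {T I J K : Module.End Ω V} (hI : T * I = I * T) (hJ : T * J = J * T) (hK : T * K = K * T) :
    T * nn I J K = nn I J K * T := by
  unfold nn
  calc T * (I + J + K) = T * I + T * J + T * K := by noncomm_ring
    _ = (I + J + K) * T := by rw [hI, hJ, hK]; noncomm_ring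

omit h3 h in
lemma comm_NN {T X I J K : Module.End Ω V} (hX : T * X = X * T) (hI : T * I = I * T) (hJ : T * J = J * T)
    (hK : T * K = K * T) : T * NN X I J K = NN X I J K * T := by
  unfold NN
  have hn := comm_nn hI hJ hK
  calc T * ((1 - nn I J K) * X - 1) = (T - T * nn I J K) * X - T := by noncomm_ring
    _ = (1 - nn I J K) * (T * X) - T := by rw [hn]; noncomm_ring
    _ = ((1 - nn I J K) * X - 1) * T := by rw [hX]; noncomm_ring

end qt2

/-- **the contradiction in characteristic three** -/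
theorem three_false [FiniteDimensional Ω V] (hV : finrank Ω V = 8) (h3 : (3 : Ω) = 0)
    {X I J K Y F G H : Module.End Ω V} (h : Qt X I J K) (h' : Qt Y F G H) (XY : X * Y = Y * X)
    (XF : X * F = F * X) (XG : X * G = G * X) (YI : Y * I = I * Y) (YJ : Y * J = J * Y)
    (IF : I * F = F * I) (IG : I * G = G * I) (JF : J * F = F * J) (JG : J * G = G * J)
    (d1 : finrank Ω (fx (X * Y)) = finrank Ω (fx X)) (d2 : finrank Ω (fx (X * X * Y)) = finrank Ω (fx X))
    (sq : (X - 1) * (X - 1) = 0 → (Y - 1) * (Y - 1) = 0 ∧ (X * Y - 1) * (X * Y - 1) = 0) : False := by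
  have XH : X * H = H * X := by
    rw [← h'.IJ]
    calc X * (F * G) = X * F * G := by noncomm_ring
      _ = F * (X * G) := by rw [XF]; noncomm_ring
      _ = F * G * X := by rw [XG]; noncomm_ring
  have YK : Y * K = K * Y := by
    rw [← h.IJ]
    calc Y * (I * J) = Y * I * J := by noncomm_ring
      _ = I * (Y * J) := by rw [YI]; noncomm_ring
      _ = I * J * Y := by rw [YJ]; noncomm_ring
  have IH : I * H = H * I := by
    rw [← h'.IJ]
    calc I * (F * G) = I * F * G := by noncomm_ring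
      _ = F * (I * G) := by rw [IF]; noncomm_ring
      _ = F * G * I := by rw [IG]; noncomm_ring
  have JH : J * H = H * J := by
    rw [← h'.IJ]
    calc J * (F * G) = J * F * G := by noncomm_ring
      _ = F * (J * G) := by rw [JF]; noncomm_ring
      _ = F * G * J := by rw [JG]; noncomm_ring
  have FK : F * K = K * F := by
    rw [← h.IJ]
    calc F * (I * J) = F * I * J := by noncomm_ring
      _ = I * (F * J) := by rw [← IF]; noncomm_ring
      _ = I * J * F := by rw [← JF]; noncomm_ring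
  have GK : G * K = K * G := by
    rw [← h.IJ]
    calc G * (I * J) = G * I * J := by noncomm_ring
      _ = I * (G * J) := by rw [← IG]; noncomm_ring
      _ = I * J * G := by rw [← JG]; noncomm_ring
  have HK : H * K = K * H := by
    rw [← h.IJ]
    calc H * (I * J) = H * I * J := by noncomm_ring
      _ = I * (H * J) := by rw [← IH]; noncomm_ring
      _ = I * J * H := by rw [← JH]; noncomm_ring
  have Im : I * nn F G H = nn F G H * I := comm_nn IF IG IH
  have Xm : X * nn F G H = nn F G H * X := comm_nn XF XG XH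
  have Fn : F * nn I J K = nn I J K * F := comm_nn IF.symm JF.symm FK
  have Yn : Y * nn I J K = nn I J K * Y := comm_nn YI YJ YK
  have nm : nn I J K * nn F G H = nn F G H * nn I J K :=
    (comm_nn (T := nn F G H) (comm_nn IF IG IH).symm (comm_nn JF JG JH).symm (comm_nn FK.symm GK.symm HK.symm).symm).symm
  have IM : I * NN Y F G H = NN Y F G H * I := comm_NN YI.symm IF IG IH
  have FN : F * NN X I J K = NN X I J K * F := comm_NN XF.symm IF.symm JF.symm FK
  have nM : nn I J K * NN Y F G H = NN Y F G H * nn I J K :=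
    comm_NN Yn.symm Fn.symm (comm_nn (T := G) IG.symm JG.symm GK).symm (comm_nn (T := H) IH.symm JH.symm HK).symm
  have mN : nn F G H * NN X I J K = NN X I J K * nn F G H :=
    comm_NN Xm.symm Im.symm (comm_nn (T := J) JF JG JH).symm (comm_nn (T := K) FK.symm GK.symm HK.symm).symm
  have NM : NN X I J K * NN Y F G H = NN Y F G H * NN X I J K :=
    comm_NN (comm_NN XY.symm YI YJ YK).symm FN.symm
      (comm_NN (T := G) XG.symm IG.symm JG.symm GK).symm (comm_NN (T := H) XH.symm IH.symm JH.symm HK).symm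
  have hp : Pr I (nn I J K) F (nn F G H) (2 : Ω) 2 := ⟨h.hf h3, h'.hf h3, nm, Im, Fn⟩
  have hn : nn I J K * NN X I J K = NN X I J K * nn I J K := h.nN
  have hm : nn F G H * NN Y F G H = NN Y F G H * nn F G H := h'.nN
  have eX := h.X_eq h3
  have eY := h'.X_eq h3
  have IN := h.IN h3
  have FM := h'.IN h3
  have n2 := h.nn_sq h3
  have m2 := h'.nn_sq h3
  have N3 := h.N3 h3
  have M3 := h'.N3 h3
  have h2 : (2 : Ω) ≠ 0 := hp.h1.c0
  generalize NN X I J K = N at *
  generalize NN Y F G H = M at *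
  generalize nn I J K = n at *
  generalize nn F G H = m at *
  have N2 : N * N = 0 := hp.prod_zero hV N3 N3 rfl IN IN FN FN hn hn mN mN
  have M2 : M * M = 0 := hp.prod_zero hV M3 M3 rfl IM IM FM FM nM nM hm hm
  have NM0 : N * M = 0 := hp.prod_zero hV N3 M3 NM IN IM FN FM hn nM mN hm
  have MN0 : M * N = 0 := by rw [← NM, NM0]
  have eXY : X * Y = (1 + n) * (1 + m) * (1 + (N + M)) := by
    rw [eX, eY]
    calc (1 + n) * (1 + N) * ((1 + m) * (1 + M)) = (1 + n) * ((1 + m) + (N + N * m)) * (1 + M) := by noncomm_ring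
      _ = (1 + n) * (1 + m) * (1 + (N + M) + N * M) := by rw [← mN]; noncomm_ring
      _ = (1 + n) * (1 + m) * (1 + (N + M)) := by rw [NM0, add_zero]
  have eXXY : X * X * Y = (1 + -n) * (1 + m) * (1 + (M - N)) := by
    have e1 : X * X = (1 + -n) * (1 + -N) := by
      rw [eX]
      have t1 := three_mul' h3 n
      have t2 := three_mul' h3 N
      have t3 := three_mul' h3 (n * N)
      calc (1 + n) * (1 + N) * ((1 + n) * (1 + N)) = (1 + n) * (1 + n + (N + N * n)) * (1 + N) := by noncomm_ring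
        _ = (1 + (n + n) + n * n) * (1 + (N + N) + N * N) := by rw [← hn]; noncomm_ring
        _ = (1 + -n) * (1 + -N) + (n + n + n) + (N + N + N) + (n * N + n * N + n * N) := by
          rw [n2, N2]; noncomm_ring
        _ = (1 + -n) * (1 + -N) := by rw [t1, t2, t3, add_zero, add_zero, add_zero]
    rw [e1, eY]
    calc (1 + -n) * (1 + -N) * ((1 + m) * (1 + M)) = (1 + -n) * ((1 + m) - (N + N * m)) * (1 + M) := by noncomm_ring
      _ = (1 + -n) * (1 + m) * (1 + (M - N) - N * M) := by rw [← mN]; noncomm_ring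
      _ = (1 + -n) * (1 + m) * (1 + (M - N)) := by rw [NM0, sub_zero]
  by_cases hN : N = 0
  · obtain ⟨s1, s2⟩ := sq (by
      rw [eX, hN]
      calc ((1 + n) * (1 + 0) - 1) * ((1 + n) * (1 + 0) - 1) = n * n := by noncomm_ring
        _ = 0 := n2)
    have e1 : m * M = 0 := by
      have e2 : (2 : Ω) • (m * M) = 0 := by
        rw [← s1, eY]
        calc (2 : Ω) • (m * M) = m * M + M * m := by rw [two_smul, ← hm]
          _ = m * M + M * m + m * m + M * M + (m * m) * M + (m * M) * M + M * (m * M) + m * (M * m) +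
              m * (M * m) * M := by
            rw [← hm]
            have e3 : M * (m * M) = 0 := by
              calc M * (m * M) = (M * m) * M := by noncomm_ring
                _ = m * (M * M) := by rw [← hm]; noncomm_ring
                _ = 0 := by rw [M2, mul_zero]
            have e4 : m * (m * M) = 0 := by rw [← mul_assoc, m2, zero_mul]
            rw [e3, e4, m2, M2, mul_assoc m M M, M2]
            simp
          _ = ((1 + m) * (1 + M) - 1) * ((1 + m) * (1 + M) - 1) := by noncomm_ring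
      exact (smul_eq_zero.1 e2).resolve_left h2
    have hM : M = 0 := hp.h2.zero FM e1
    rw [eXY, hN, hM] at s2
    have e3 : n * m = 0 := by
      have e2 : (2 : Ω) • (n * m) = 0 := by
        rw [← s2]
        calc (2 : Ω) • (n * m) = n * m + m * n := by rw [two_smul, ← nm]
          _ = n * m + m * n + n * n + m * m + (n * n) * m + (n * m) * m + m * (n * m) + n * (m * n) +
              n * (m * n) * m := by
            rw [← nm]
            have e3 : m * (n * m) = 0 := by
              calc m * (n * m) = (m * n) * m := by noncomm_ring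
                _ = n * (m * m) := by rw [← nm]; noncomm_ring
                _ = 0 := by rw [m2, mul_zero]
            have e4 : n * (n * m) = 0 := by rw [← mul_assoc, n2, zero_mul]
            rw [e3, e4, n2, m2, mul_assoc n m m, m2]
            simp
          _ = ((1 + n) * (1 + m) * (1 + (0 + 0)) - 1) * ((1 + n) * (1 + m) * (1 + (0 + 0)) - 1) := by noncomm_ring
      exact (smul_eq_zero.1 e2).resolve_left h2
    have hm0 : m = 0 := hp.h1.zero Im e3
    have h1 : (1 : Module.End Ω V) = 0 := hp.h2.zero (by simp) (by rw [hm0, zero_mul])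
    have h4 : Subsingleton V := by
      constructor
      intro a b
      have e1 := congrArg (fun f : Module.End Ω V => f a) h1
      have e2 := congrArg (fun f : Module.End Ω V => f b) h1
      have e1' : a = 0 := e1
      have e2' : b = 0 := e2
      rw [e1', e2']
    have h5 := finrank_zero_of_subsingleton (R := Ω) (M := V)
    omega
  · have f1 : 4 ≤ finrank Ω (fx X) := by
      rw [eX]
      exact hp.four_le hV N IN hn FN mN N2 hN
    by_cases hK : N + M = 0
    · have hK2 : M - N ≠ 0 := by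
        intro h0
        apply hN
        have e1 : (2 : Ω) • N = (N + M) - (M - N) := by rw [two_smul]; abel
        rw [hK, h0, sub_zero] at e1
        exact (smul_eq_zero.1 e1).resolve_left h2
      have hp' : Pr I (-n) F m (-2 : Ω) 2 := ⟨hp.h1.neg, hp.h2, by rw [neg_mul, nm, mul_neg], Im, by rw [neg_mul, mul_neg, Fn]⟩
      have f2 := hp'.le_three hV h2 (M - N) (by rw [mul_sub, sub_mul, IN, IM]) (by rw [neg_mul, mul_neg, mul_sub, sub_mul, hn, nM])
        (by rw [mul_sub, sub_mul, FN, FM]) (by rw [mul_sub, sub_mul, mN, hm])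
        (by rw [mul_sub, sub_mul, sub_mul, N2, M2, NM0, MN0]; simp) hK2
      rw [← eXXY, d2] at f2
      omega
    · have f2 := hp.le_three hV h2 (N + M) (by rw [mul_add, add_mul, IN, IM]) (by rw [mul_add, add_mul, hn, nM])
        (by rw [mul_add, add_mul, FN, FM]) (by rw [mul_add, add_mul, mN, hm])
        (by rw [mul_add, add_mul, add_mul, N2, M2, NM0, MN0]; simp) hK
      rw [← eXY, d1] at f2
      omega

end Cfsg.Agent.H424.M22
end

-- part: H424/M22Wt
section
/-!
# Characteristic not three: eight weights of multiplicity one (helper424)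
-/

set_option autoImplicit false
set_option linter.unusedSectionVars false

namespace Cfsg.Agent.H424.M22

open Module Module.End Cfsg.Agent.H906.E9

variable {Ω V : Type*} [Field Ω] [AddCommGroup V] [Module Ω V]

lemma closed_all : ∀ S : Finset (ZMod 3 × ZMod 3), (∀ x ∈ S, (x.2, -x.1) ∈ S) →
    (∀ x ∈ S, (x.1 + x.2, x.1 - x.2) ∈ S) → (∃ x ∈ S, x ≠ 0) → ∀ x, x ≠ 0 → x ∈ S := by
  decide +kernel

theorem all_weights (h3 : (3 : Ω) ≠ 0) {w : Ω} (hw : w ^ 2 + w + 1 = 0)
    (D C i j : Module.End Ω V) (hD : D ^ 3 = 1) (hC : C ^ 3 = 1)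
    (hDC : D * C = C * D) (hne : D ≠ 1) (hi : Function.Injective i) (hj : Function.Injective j)
    (h1 : i * D = C ^ 2 * i) (h2 : i * C = D * i) (h4 : j * D = D ^ 2 * C ^ 2 * j) (h5 : j * C = D ^ 2 * C * j) :
    ∀ x : ZMod 3 × ZMod 3, x ≠ 0 → J D C w x ≠ ⊥ := by
  classical
  have hw3 : w ^ 3 = 1 := by linear_combination (w - 1) * hw
  suffices hS : ∀ x : ZMod 3 × ZMod 3, x ≠ 0 →
      x ∈ (Finset.univ.filter (fun x : ZMod 3 × ZMod 3 => J D C w x ≠ ⊥)) from
    fun x hx => (Finset.mem_filter.1 (hS x hx)).2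
  have hC3 : ∀ v, C (C (C v)) = v := by
    intro v
    have := congrArg (fun f : Module.End Ω V => f v) hC
    rw [pow_succ, pow_two] at this
    exact this
  have hD3 : ∀ v, D (D (D v)) = v := by
    intro v
    have := congrArg (fun f : Module.End Ω V => f v) hD
    rw [pow_succ, pow_two] at this
    exact this
  have e2 : ∀ a : ZMod 3, e w (-a) = e w a * e w a := by
    intro a
    rw [← e_add hw3]
    congr 1
    revert a; decide
  apply closed_all
  · intro x hx
    rw [Finset.mem_filter] at hx ⊢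
    refine ⟨Finset.mem_univ _, ?_⟩
    obtain ⟨v, hv, hv0⟩ := (Submodule.ne_bot_iff _).1 hx.2
    rw [mem_J] at hv
    rw [Submodule.ne_bot_iff]
    refine ⟨i v, ?_, fun h0 => hv0 (hi (by rw [h0, map_zero]))⟩
    rw [mem_J]
    have k1 : C (C (i v)) = i (D v) := by
      have := congrArg (fun f : Module.End Ω V => f v) h1
      rw [pow_two] at this
      exact this.symm
    have k2 : D (i v) = i (C v) := by
      have := congrArg (fun f : Module.End Ω V => f v) h2
      exact this.symm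
    rw [hv.1, map_smul] at k1
    rw [hv.2, map_smul] at k2
    refine ⟨k2, ?_⟩
    change C (i v) = e w (-x.1) • i v
    have k3 : C (C (C (C (i v)))) = (e w x.1 * e w x.1) • i v := by
      rw [k1, map_smul, map_smul, k1, smul_smul]
    rw [hC3] at k3
    rw [k3, e2]
  · intro x hx
    rw [Finset.mem_filter] at hx ⊢
    refine ⟨Finset.mem_univ _, ?_⟩
    obtain ⟨v, hv, hv0⟩ := (Submodule.ne_bot_iff _).1 hx.2
    rw [mem_J] at hv
    rw [Submodule.ne_bot_iff]
    refine ⟨j v, ?_, fun h0 => hv0 (hj (by rw [h0, map_zero]))⟩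
    rw [mem_J]
    have hcomm : ∀ v, D (C v) = C (D v) := fun v => by
      have := congrArg (fun f : Module.End Ω V => f v) hDC
      exact this
    have k1 : D (D (C (C (j v)))) = e w x.1 • j v := by
      have := congrArg (fun f : Module.End Ω V => f v) h4
      rw [pow_two, pow_two] at this
      have h6 : j (D v) = D (D (C (C (j v)))) := this
      rw [hv.1, map_smul] at h6
      exact h6.symm
    have k2 : D (D (C (j v))) = e w x.2 • j v := by
      have := congrArg (fun f : Module.End Ω V => f v) h5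
      rw [pow_two] at this
      have h6 : j (C v) = D (D (C (j v))) := this
      rw [hv.2, map_smul] at h6
      exact h6.symm
    have k3 : e w x.2 • C (j v) = e w x.1 • j v := by
      rw [← map_smul, ← k2, ← k1, hcomm (C (j v)), hcomm (D (C (j v)))]
    have hx2 : e w (-x.2) * e w x.2 = 1 := by rw [← e_add hw3, neg_add_cancel, e_zero]
    have k4 : C (j v) = e w (x.1 - x.2) • j v := by
      calc C (j v) = (e w (-x.2) * e w x.2) • C (j v) := by rw [hx2, one_smul]
        _ = e w (-x.2) • (e w x.1 • j v) := by rw [mul_smul, k3]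
        _ = e w (x.1 - x.2) • j v := by rw [smul_smul, ← e_add hw3, sub_eq_neg_add]
    have hx3 : e w (-(x.1 - x.2)) * e w (x.1 - x.2) = 1 := by rw [← e_add hw3, neg_add_cancel, e_zero]
    have k5 : D (D (j v)) = e w (-(x.1 - x.2) + x.2) • j v := by
      have h6 : e w (x.1 - x.2) • D (D (j v)) = e w x.2 • j v := by
        rw [← k2, k4, map_smul, map_smul]
      calc D (D (j v)) = (e w (-(x.1 - x.2)) * e w (x.1 - x.2)) • D (D (j v)) := by rw [hx3, one_smul]
        _ = e w (-(x.1 - x.2)) • (e w x.2 • j v) := by rw [mul_smul, h6]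
        _ = _ := by rw [smul_smul, ← e_add hw3]
    refine ⟨?_, k4⟩
    have k6 : D (D (D (D (j v)))) = (e w (-(x.1 - x.2) + x.2) * e w (-(x.1 - x.2) + x.2)) • j v := by
      rw [k5, map_smul, map_smul, k5, smul_smul]
    rw [hD3] at k6
    rw [k6, ← e2]
    congr 2
    change -(-(x.1 - x.2) + x.2) = x.1 + x.2
    have h7 : ∀ a b : ZMod 3, -(-(a - b) + b) = a + b := by decide
    exact h7 _ _
  · obtain ⟨v, hv⟩ : ∃ v, D v ≠ v := by
      by_contra hcon
      push Not at hcon
      exact hne (LinearMap.ext hcon)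
    obtain ⟨u, hu, hu1, -⟩ := exists_eig hw h3 hD v
    obtain ⟨k, hk, huk⟩ : ∃ k, k ≠ 0 ∧ u k ≠ 0 := by
      by_contra hcon
      push Not at hcon
      apply hv
      rw [hcon 1 (by decide), hcon 2 (by decide), add_zero, add_zero] at hu
      rw [hu, hu1, e_zero, one_smul]
    obtain ⟨t, ht, ht1, ht2⟩ := exists_eig hw h3 hC (u k)
    obtain ⟨l, hl⟩ : ∃ l, t l ≠ 0 := by
      by_contra hcon
      push Not at hcon
      apply huk
      rw [ht, hcon, hcon, hcon]; simp
    refine ⟨(k, l), ?_, ?_⟩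
    · rw [Finset.mem_filter]
      refine ⟨Finset.mem_univ _, ?_⟩
      rw [Submodule.ne_bot_iff]
      exact ⟨t l, mem_J.2 ⟨ht2 D _ hDC (hu1 k) l, ht1 l⟩, hl⟩
    · intro h0
      exact hk (congrArg Prod.fst h0)

/-- anticommuting invertible operators -/
lemma even_of_anti [FiniteDimensional Ω V] (h2 : (2 : Ω) ≠ 0) {F G : Module.End Ω V} {s t : Ω} (hs : s ≠ 0)
    (ht : t ≠ 0) (hF : F * F = s • 1) (hG : G * G = t • 1) (hFG : F * G = -(G * F)) : Even (finrank Ω V) := by
  have dne : ∀ {F : Module.End Ω V} {s : Ω}, s ≠ 0 → F * F = s • 1 → LinearMap.det F ≠ 0 := by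
    intro F s hs hF h0
    have h1 := congrArg LinearMap.det hF
    rw [map_mul, h0, zero_mul, LinearMap.det_smul, map_one, mul_one] at h1
    exact pow_ne_zero _ hs h1.symm
  have h1 := congrArg LinearMap.det hFG
  have h3 : -(G * F) = (-1 : Ω) • (G * F) := by rw [neg_one_smul]
  rw [h3, LinearMap.det_smul, map_mul, map_mul, mul_comm (LinearMap.det F)] at h1
  have h4 : (-1 : Ω) ^ finrank Ω V = 1 := by
    have h5 : LinearMap.det G * LinearMap.det F ≠ 0 := mul_ne_zero (dne ht hG) (dne hs hF)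
    exact mul_right_cancel₀ h5 (by rw [one_mul]; exact h1.symm)
  by_contra hodd
  rw [Nat.not_even_iff_odd] at hodd
  rw [hodd.neg_one_pow] at h4
  apply h2
  linear_combination -h4

/-- on an invariant subspace -/
lemma even_sub [FiniteDimensional Ω V] (h2 : (2 : Ω) ≠ 0) {F G : Module.End Ω V} {s t : Ω} (hs : s ≠ 0)
    (ht : t ≠ 0) (hF : F * F = s • 1) (hG : G * G = t • 1) (hFG : F * G = -(G * F)) (U : Submodule Ω V)
    (h : ∀ v ∈ U, F v ∈ U) (h' : ∀ v ∈ U, G v ∈ U) : Even (finrank Ω U) := by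
  refine even_of_anti h2 hs ht (F := res U F h) (G := res U G h') ?_ ?_ ?_
  · exact LinearMap.ext fun v => Subtype.ext (by
      have := congrArg (fun f : Module.End Ω V => f v.1) hF
      exact this)
  · exact LinearMap.ext fun v => Subtype.ext (by
      have := congrArg (fun f : Module.End Ω V => f v.1) hG
      exact this)
  · exact LinearMap.ext fun v => Subtype.ext (by
      have := congrArg (fun f : Module.End Ω V => f v.1) hFG
      exact this)

/-- eigenvectors with distinct eigenvalues in a subspace -/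
lemma card_le_sub [FiniteDimensional Ω V] {ι : Type} [Fintype ι] (C : Module.End Ω V) (U : Submodule Ω V)
    (μ : ι → Ω) (hμ : Function.Injective μ) (v : ι → V) (hv : ∀ k, C (v k) = μ k • v k) (h0 : ∀ k, v k ≠ 0)
    (hU : ∀ k, v k ∈ U) : Fintype.card ι ≤ finrank Ω U := by
  have h1 : LinearIndependent Ω v := Module.End.eigenvectors_linearIndependent' C μ hμ v fun k =>
    ⟨mem_eigenspace_iff.2 (hv k), h0 k⟩
  have h2 : LinearIndependent Ω (fun k => (⟨v k, hU k⟩ : U)) := by
    apply LinearIndependent.of_comp U.subtype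
    exact h1
  exact h2.fintype_card_le_finrank

/-- independent subspaces -/
lemma sum_le_of_indep [FiniteDimensional Ω V] {ι : Type*} [Fintype ι] {p : ι → Submodule Ω V} (hp : iSupIndep p) :
    ∑ i, finrank Ω (p i) ≤ finrank Ω V := by
  classical
  have h1 := hp.dfinsupp_lsum_injective
  have h2 := LinearMap.finrank_le_finrank_of_injective h1
  have h3 : finrank Ω (Π₀ i, p i) = ∑ i, finrank Ω (p i) := Module.finrank_directSum Ω (fun i => ↥(p i))
  rw [← h3]
  exact h2

/-- **the contradiction in characteristic different from three** -/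
theorem not_three_false [FiniteDimensional Ω V] (hV : finrank Ω V = 8) (h2 : (2 : Ω) ≠ 0) (h3 : (3 : Ω) ≠ 0)
    {w : Ω} (hw : w ^ 2 + w + 1 = 0)
    (D C i j : Module.End Ω V) (hD : D ^ 3 = 1) (hC : C ^ 3 = 1)
    (hDC : D * C = C * D) (hne : D ≠ 1) (hi : Function.Injective i) (hj : Function.Injective j)
    (h1 : i * D = C ^ 2 * i) (h2' : i * C = D * i) (h4 : j * D = D ^ 2 * C ^ 2 * j) (h5 : j * C = D ^ 2 * C * j)
    {F G : Module.End Ω V} {s t : Ω} (hs : s ≠ 0) (ht : t ≠ 0) (hF : F * F = s • 1) (hG : G * G = t • 1)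
    (hFG : F * G = -(G * F)) (FD : F * D = D * F) (GD : G * D = D * G) : False := by
  have hw3 : w ^ 3 = 1 := by linear_combination (w - 1) * hw
  have key := all_weights h3 hw D C i j hD hC hDC hne hi hj h1 h2' h4 h5
  have hinj := e_inj hw h3
  choose! v hv hv0 using fun x hx => (Submodule.ne_bot_iff _).1 (key x hx)
  have hcm : ∀ (T : Module.End Ω V) (_ : T * D = D * T) (a : Ω) (u : V), u ∈ eigenspace D a → T u ∈ eigenspace D a := by
    intro T hT a u hu
    rw [mem_eigenspace_iff] at hu ⊢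
    have := congrArg (fun f : Module.End Ω V => f u) hT
    have h6 : T (D u) = D (T u) := this
    rw [← h6, hu, map_smul]
  have hev : ∀ k : ZMod 3, Even (finrank Ω (eigenspace D (e w k))) := fun k =>
    even_sub h2 hs ht hF hG hFG _ (hcm F FD _) (hcm G GD _)
  have hlow : ∀ k : ZMod 3, k ≠ 0 → 3 ≤ finrank Ω (eigenspace D (e w k)) := by
    intro k hk
    have hne0 : ∀ y : ZMod 3, ((k, y) : ZMod 3 × ZMod 3) ≠ 0 := fun y h0 => hk (congrArg Prod.fst h0)
    have := card_le_sub C (eigenspace D (e w k)) (fun y : ZMod 3 => e w y) hinj (fun y => v (k, y))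
      (fun y => (mem_J.1 (hv _ (hne0 y))).2) (fun y => hv0 _ (hne0 y))
      (fun y => mem_eigenspace_iff.2 (mem_J.1 (hv _ (hne0 y))).1)
    rwa [ZMod.card] at this
  have hlow0 : 1 ≤ finrank Ω (eigenspace D (e w 0)) := by
    have hne0 : ((0, 1) : ZMod 3 × ZMod 3) ≠ 0 := by decide
    have := card_le_sub C (eigenspace D (e w 0)) (fun _ : Unit => e w 1) (fun _ _ _ => rfl) (fun _ => v (0, 1))
      (fun y => (mem_J.1 (hv _ hne0)).2) (fun y => hv0 _ hne0)
      (fun y => mem_eigenspace_iff.2 (mem_J.1 (hv _ hne0)).1)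
    rwa [Fintype.card_unit] at this
  have hind : iSupIndep (fun k : ZMod 3 => eigenspace D (e w k)) := D.eigenspaces_iSupIndep.comp hinj
  have hsum : ∑ k : ZMod 3, finrank Ω (eigenspace D (e w k)) ≤ 8 := by
    rw [← hV]
    exact sum_le_of_indep hind
  have hs3 : ∑ k : ZMod 3, finrank Ω (eigenspace D (e w k)) = finrank Ω (eigenspace D (e w 0)) +
      finrank Ω (eigenspace D (e w 1)) + finrank Ω (eigenspace D (e w 2)) := by
    exact Fin.sum_univ_three (fun k : Fin 3 => finrank Ω (eigenspace D (e w (k : ZMod 3))))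
  have a1 := hlow 1 (by decide)
  have a2 := hlow 2 (by decide)
  obtain ⟨b0, hb0⟩ := hev 0
  obtain ⟨b1, hb1⟩ := hev 1
  obtain ⟨b2, hb2⟩ := hev 2
  omega

end Cfsg.Agent.H424.M22
end

-- part: H424/M22Ab
section
/-!
# The preimage of `2⁴` in a group of degree eight is abelian (helper424)
-/

set_option autoImplicit false
set_option linter.unusedSectionVars false

namespace Cfsg.Agent.H424.M22

open Module Cfsg.Agent.H13.M22

/-- the configuration `2⁴ : A₆ ≥ A₄ × A₄` and `3² : Q₈` -/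
structure Dat {T : Type*} [Group T] (E : Subgroup T) (D C i j e1 e2 f1 f2 : T) : Prop where
  D3 : D ^ 3 = 1
  C3 : C ^ 3 = 1
  D1 : D ≠ 1
  DC : D * C = C * D
  r1 : i * D * i⁻¹ = C ^ 2
  r2 : i * C * i⁻¹ = D
  r3 : j * D * j⁻¹ = D ^ 2 * C ^ 2
  r4 : j * C * j⁻¹ = D ^ 2 * C
  sq : ∀ e ∈ E, e ^ 2 = 1
  me : e1 ∈ E
  mf : f1 ∈ E
  De1 : D * e1 * D⁻¹ = e2
  De2 : D * e2 * D⁻¹ = e1 * e2
  Df1 : D * f1 = f1 * D
  Df2 : D * f2 = f2 * D
  Cf1 : C * f1 * C⁻¹ = f2
  Cf2 : C * f2 * C⁻¹ = f1 * f2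
  Ce1 : C * e1 = e1 * C
  Ce2 : C * e2 = e2 * C
  ie1 : i * e1 * i⁻¹ = f1
  ie2 : i * e2 * i⁻¹ = f1 * f2
  ef11 : e1 * f1 = f1 * e1
  ef12 : e1 * f2 = f2 * e1
  e12 : e1 * e2 = e2 * e1
  gen : ∀ x ∈ E, ∃ a b c d : ℕ, x = e1 ^ a * e2 ^ b * f1 ^ c * f2 ^ d

/-- if `g` centralises `y` and `x, g x g⁻¹, x (g x g⁻¹)` are permuted by `g` modulo central elements, then `x`
and `y` commute when they commute modulo the centre -/
lemma comm_aux {L : Type*} [Group L] {g x y z z' : L} (hz : ∀ a, z * a = a * z) (hz' : ∀ a, z' * a = a * z')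
    (hgy : g * y = y * g) (hxy : x * y = z * (y * x))
    (hx : g * (g * x * g⁻¹) * g⁻¹ = z' * (x * (g * x * g⁻¹))) : x * y = y * x := by
  have hgy' : g * y * g⁻¹ = y := by rw [hgy]; group
  have hgz : g * z * g⁻¹ = z := by rw [← hz]; group
  set x2 := g * x * g⁻¹ with hx2
  have e1 : x2 * y = z * (y * x2) := by
    calc x2 * y = g * (x * y) * g⁻¹ := by
          rw [hx2]
          calc g * x * g⁻¹ * y = g * x * g⁻¹ * (g * y * g⁻¹) := by rw [hgy']
            _ = g * (x * y) * g⁻¹ := by group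
      _ = (g * z * g⁻¹) * ((g * y * g⁻¹) * (g * x * g⁻¹)) := by rw [hxy]; group
      _ = z * (y * x2) := by rw [hgz, hgy', hx2]
  set x3 := g * x2 * g⁻¹ with hx3
  have e2 : x3 * y = z * (y * x3) := by
    calc x3 * y = g * (x2 * y) * g⁻¹ := by
          rw [hx3]
          calc g * x2 * g⁻¹ * y = g * x2 * g⁻¹ * (g * y * g⁻¹) := by rw [hgy']
            _ = g * (x2 * y) * g⁻¹ := by group
      _ = (g * z * g⁻¹) * ((g * y * g⁻¹) * (g * x2 * g⁻¹)) := by rw [e1]; group
      _ = z * (y * x3) := by rw [hgz, hgy', hx3]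
  have e3 : x3 * y = z * (z * (y * x3)) := by
    calc x3 * y = z' * (x * (x2 * y)) := by rw [hx]; group
      _ = z' * (x * z * (y * x2)) := by rw [e1]; group
      _ = z' * (z * x * (y * x2)) := by rw [← hz x]
      _ = z' * (z * (x * y) * x2) := by group
      _ = z' * z * z * y * (x * x2) := by rw [hxy]; group
      _ = z * (z * (y * (z' * (x * x2)))) := by
        rw [hz' z, mul_assoc z z' z, hz' z]
        have : z * (z * z') * y * (x * x2) = z * (z * (z' * y)) * (x * x2) := by group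
        rw [this, hz' y]
        group
      _ = z * (z * (y * x3)) := by rw [hx]
  have e4 : z = 1 := by
    rw [e2] at e3
    have h1 := mul_left_cancel e3
    have h2 : 1 * (y * x3) = z * (y * x3) := by rw [one_mul]; exact h1
    exact (mul_right_cancel h2).symm
  rw [hxy, e4, one_mul]

variable {L T Ω V : Type*} [Group L] [Group T] [Finite L] [Field Ω] [IsAlgClosed Ω] [AddCommGroup V] [Module Ω V]
  [FiniteDimensional Ω V] {φ : L →* T} {ρ : L →* Module.End Ω V}

lemma finrank_fx_conj (g h : L) : finrank Ω (fx (ρ (h * g * h⁻¹))) = finrank Ω (fx (ρ g)) := by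
  have key : ∀ h g : L, finrank Ω (fx (ρ g)) ≤ finrank Ω (fx (ρ (h * g * h⁻¹))) := by
    intro h g
    have hinj : Function.Injective (ρ h) := by
      intro v w hvw
      have h1 : ∀ v, ρ h⁻¹ (ρ h v) = v := fun v => by
        change (ρ h⁻¹ * ρ h) v = v
        rw [← map_mul, inv_mul_cancel, map_one]; rfl
      rw [← h1 v, hvw, h1]
    rw [← (Submodule.equivMapOfInjective (ρ h) hinj (fx (ρ g))).finrank_eq.symm]
    apply Submodule.finrank_mono
    rintro _ ⟨v, hv, rfl⟩
    rw [mem_fx]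
    have h2 : ρ g v = v := mem_fx.1 hv
    change (ρ (h * g * h⁻¹) * ρ h) v = ρ h v
    rw [← map_mul, inv_mul_cancel_right, map_mul, Module.End.mul_apply, h2]
  apply le_antisymm _ (key h g)
  have h1 := key h⁻¹ (h * g * h⁻¹)
  have h2 : h⁻¹ * (h * g * h⁻¹) * h⁻¹⁻¹ = g := by group
  rwa [h2] at h1

lemma fx_inv (g : L) : fx (ρ g⁻¹) = fx (ρ g) := by
  have key : ∀ g : L, fx (ρ g) ≤ fx (ρ g⁻¹) := by
    intro g v hv
    rw [mem_fx] at hv ⊢
    conv_lhs => rw [← hv]
    change (ρ g⁻¹ * ρ g) v = v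
    rw [← map_mul, inv_mul_cancel, map_one]; rfl
  apply le_antisymm _ (key g)
  have := key g⁻¹
  rwa [inv_inv] at this

lemma sq_conj (g h : L) (hg : (ρ g - 1) * (ρ g - 1) = 0) : (ρ (h * g * h⁻¹) - 1) * (ρ (h * g * h⁻¹) - 1) = 0 := by
  have h1 : ρ (h * g * h⁻¹) - 1 = ρ h * (ρ g - 1) * ρ h⁻¹ := by
    rw [map_mul, map_mul, mul_sub, sub_mul, mul_one, ← map_mul ρ h h⁻¹, mul_inv_cancel, map_one]
  have h2 : ρ h⁻¹ * ρ h = 1 := by rw [← map_mul, inv_mul_cancel, map_one]
  rw [h1]
  calc ρ h * (ρ g - 1) * ρ h⁻¹ * (ρ h * (ρ g - 1) * ρ h⁻¹) =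
      ρ h * (ρ g - 1) * (ρ h⁻¹ * ρ h) * (ρ g - 1) * ρ h⁻¹ := by noncomm_ring
    _ = ρ h * ((ρ g - 1) * (ρ g - 1)) * ρ h⁻¹ := by rw [h2]; noncomm_ring
    _ = 0 := by rw [hg]; simp only [_root_.MulZeroClass.mul_zero, _root_.MulZeroClass.zero_mul]

lemma sq_inv (g : L) (hg : (ρ g - 1) * (ρ g - 1) = 0) : (ρ g⁻¹ - 1) * (ρ g⁻¹ - 1) = 0 := by
  have h2 : ρ g⁻¹ * ρ g = 1 := by rw [← map_mul, inv_mul_cancel, map_one]
  have h3 : ρ g * ρ g⁻¹ = 1 := by rw [← map_mul, mul_inv_cancel, map_one]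
  have h1 : ρ g⁻¹ - 1 = -(ρ g⁻¹ * (ρ g - 1)) := by rw [mul_sub, h2]; simp only [_root_.mul_one, _root_.neg_sub]
  have h4 : ρ g⁻¹ - 1 = -((ρ g - 1) * ρ g⁻¹) := by rw [sub_mul, h3]; simp only [_root_.one_mul, _root_.neg_sub]
  calc (ρ g⁻¹ - 1) * (ρ g⁻¹ - 1) = -(ρ g⁻¹ * (ρ g - 1)) * -((ρ g - 1) * ρ g⁻¹) := by
        rw [← h4, ← h1]
    _ = ρ g⁻¹ * ((ρ g - 1) * (ρ g - 1)) * ρ g⁻¹ := by noncomm_ring
    _ = 0 := by rw [hg]; simp only [_root_.MulZeroClass.mul_zero, _root_.MulZeroClass.zero_mul]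

omit [Finite L] [IsAlgClosed Ω] [FiniteDimensional Ω V] in
lemma rho_inv_mul (g : L) : ρ g⁻¹ * ρ g = 1 := by rw [← map_mul, inv_mul_cancel, map_one]

omit [Finite L] [IsAlgClosed Ω] [FiniteDimensional Ω V] in
lemma rho_mul_inv (g : L) : ρ g * ρ g⁻¹ = 1 := by rw [← map_mul, mul_inv_cancel, map_one]

/-- the operators of a triple -/
theorem mk_Qt [Nontrivial V] (h : Cov φ ρ) {g x z : L} (hg : g ^ 3 = 1) (hz : z ∈ φ.ker)
    (hx : g * (g * x * g⁻¹) * g⁻¹ = z * (x * (g * x * g⁻¹))) (hsq : x * x ∈ φ.ker)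
    (ha : ρ x * ρ (g * x * g⁻¹) = -(ρ (g * x * g⁻¹) * ρ x)) :
    ∃ a : Ω, Qt (ρ g) (a • ρ x) (a • ρ (g * x * g⁻¹)) (a • ρ (g * (g * x * g⁻¹) * g⁻¹)) := by
  obtain ⟨a, hza⟩ := h.scal z hz
  obtain ⟨s, hs⟩ := h.scal _ hsq
  have hs0 : s ≠ 0 := by
    rintro rfl
    rw [zero_smul] at hs
    have h1 := rho_mul_inv (ρ := ρ) (x * x)
    rw [hs, zero_mul] at h1
    exact zero_ne_one h1
  set x2 := g * x * g⁻¹ with hx2
  set x3 := g * x2 * g⁻¹ with hx3
  have e1 : ρ x3 = a • (ρ x * ρ x2) := by rw [hx, map_mul, hza, smul_mul_assoc, one_mul, map_mul]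
  have e11 : ρ x * ρ x = s • 1 := by rw [← map_mul, hs]
  have conj : ∀ y : L, ρ y * ρ y = s • 1 → ρ (g * y * g⁻¹) * ρ (g * y * g⁻¹) = s • 1 := by
    intro y hy
    rw [map_mul, map_mul]
    calc ρ g * ρ y * ρ g⁻¹ * (ρ g * ρ y * ρ g⁻¹) = ρ g * ρ y * (ρ g⁻¹ * ρ g) * ρ y * ρ g⁻¹ := by noncomm_ring
      _ = ρ g * (ρ y * ρ y) * ρ g⁻¹ := by rw [rho_inv_mul]; noncomm_ring
      _ = s • 1 := by rw [hy, mul_smul_comm, mul_one, smul_mul_assoc, rho_mul_inv]
  have e22 := conj x e11
  have e33 := conj x2 e22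
  rw [← hx2] at e22
  rw [← hx3] at e33
  have e5 : ρ x3 * ρ x3 = (-(a * a * s * s)) • 1 := by
    rw [e1, smul_mul_smul_comm]
    have e6 : ρ x * ρ x2 * (ρ x * ρ x2) = (-(s * s)) • 1 := by
      calc ρ x * ρ x2 * (ρ x * ρ x2) = -(ρ x2 * ρ x) * (ρ x * ρ x2) := by rw [ha]
        _ = -(ρ x2 * (ρ x * ρ x) * ρ x2) := by noncomm_ring
        _ = (-(s * s)) • 1 := by
          rw [e11, mul_smul_comm, mul_one, smul_mul_assoc, e22, smul_smul, neg_smul]
    rw [e6, smul_smul]
    congr 1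
    ring
  have e7 : s = -(a * a * s * s) := by
    rw [e33] at e5
    have h1 : (s - -(a * a * s * s)) • (1 : Module.End Ω V) = 0 := by rw [sub_smul, e5, sub_self]
    exact sub_eq_zero.1 ((smul_eq_zero.1 h1).resolve_right one_ne_zero)
  have e8 : a * a * s = -1 := by
    have h1 : s * (a * a * s + 1) = 0 := by linear_combination e7
    have h2 := (mul_eq_zero.1 h1).resolve_left hs0
    linear_combination h2
  refine ⟨a, ?_, ?_, ?_, ?_, ?_, ?_, ?_⟩
  · rw [← map_mul, ← map_mul, ← pow_two, ← pow_succ, hg, map_one]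
  · rw [mul_smul_comm, smul_mul_assoc, ← map_mul, ← map_mul, hx2]
    congr 2; group
  · rw [mul_smul_comm, smul_mul_assoc, ← map_mul, ← map_mul, hx3]
    congr 2; group
  · rw [mul_smul_comm, smul_mul_assoc, ← map_mul, ← map_mul, hx3, hx2]
    congr 2
    have h3 : g * (g * (g * x * g⁻¹) * g⁻¹) = g ^ 3 * x * (g ^ 3)⁻¹ * g := by
      rw [show g ^ 3 = g * g * g by rw [pow_succ, pow_two]]
      group
    rw [h3, hg, inv_one, mul_one, one_mul]
  · rw [smul_mul_smul_comm, e11, smul_smul, e8, neg_one_smul]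
  · rw [smul_mul_smul_comm, e1, smul_smul]
  · rw [smul_mul_smul_comm, e1, smul_smul, ha, smul_neg, neg_neg]

theorem ab_of_dat (h : Cov φ ρ) (h2 : (2 : Ω) ≠ 0) (hV : finrank Ω V = 8) (hcop : (Nat.card φ.ker).Coprime 3)
    {E : Subgroup T} {D C i j e1 e2 f1 f2 : T} (hd : Dat E D C i j e1 e2 f1 f2) :
    ∀ a ∈ E.comap φ, ∀ b ∈ E.comap φ, a * b = b * a := by
  have hVn : Nontrivial V := by
    apply nontrivial_of_finrank_pos (R := Ω)
    omega
  have cop : ∀ {G : Type _} [Group G] {g : G}, g ^ 3 = 1 → (Nat.card φ.ker).Coprime (orderOf g) := fun hg =>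
    Nat.Coprime.coprime_dvd_right (orderOf_dvd_of_pow_eq_one hg) hcop
  have cop' : ∀ {g : L}, g ^ 3 = 1 → (Nat.card φ.ker).Coprime (orderOf g) := fun hg =>
    Nat.Coprime.coprime_dvd_right (orderOf_dvd_of_pow_eq_one hg) hcop
  obtain ⟨gD, hD, oD⟩ := H908.exists_lift h.surj D (cop hd.D3)
  obtain ⟨gC, hC, oC⟩ := H908.exists_lift h.surj C (cop hd.C3)
  obtain ⟨gi, hi⟩ := h.surj i
  obtain ⟨gj, hj⟩ := h.surj j
  obtain ⟨x1, hx1⟩ := h.surj e1
  have gD3 : gD ^ 3 = 1 := by rw [← orderOf_dvd_iff_pow_eq_one, oD, orderOf_dvd_iff_pow_eq_one, hd.D3]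
  have gC3 : gC ^ 3 = 1 := by rw [← orderOf_dvd_iff_pow_eq_one, oC, orderOf_dvd_iff_pow_eq_one, hd.C3]
  have gDC : gD * gC = gC * gD := H908.commute_lift h.cen (by rw [hD, hC, hd.DC]) (cop' gC3)
  have hcm : Commute gD gC := gDC
  have q1 : gi * gD * gi⁻¹ = gC ^ 2 := by
    apply H908.conj_lift h.cen _ (cop' gD3)
    · exact cop' (by rw [← pow_mul, mul_comm, pow_mul, gC3, one_pow])
    · rw [map_mul, map_mul, map_inv, map_pow, hD, hC, hi, hd.r1]
  have q2 : gi * gC * gi⁻¹ = gD := by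
    apply H908.conj_lift h.cen _ (cop' gC3) (cop' gD3)
    rw [map_mul, map_mul, map_inv, hD, hC, hi, hd.r2]
  have q3 : gj * gD * gj⁻¹ = gD ^ 2 * gC ^ 2 := by
    apply H908.conj_lift h.cen _ (cop' gD3)
    · apply cop'
      rw [(hcm.pow_pow 2 2).mul_pow, ← pow_mul, ← pow_mul, mul_comm 2 3, pow_mul, pow_mul, gC3, gD3, one_pow,
        mul_one]
    · rw [map_mul, map_mul, map_inv, map_mul, map_pow, map_pow, hD, hC, hj, hd.r3]
  have q4 : gj * gC * gj⁻¹ = gD ^ 2 * gC := by
    apply H908.conj_lift h.cen _ (cop' gC3)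
    · apply cop'
      rw [(hcm.pow_left 2).mul_pow, ← pow_mul, mul_comm 2 3, pow_mul, gC3, gD3, one_pow, mul_one]
    · rw [map_mul, map_mul, map_inv, map_mul, map_pow, hD, hC, hj, hd.r4]
  obtain ⟨x2, hx2⟩ : ∃ x2, x2 = gD * x1 * gD⁻¹ := ⟨_, rfl⟩
  obtain ⟨y1, hy1⟩ : ∃ y1, y1 = gi * x1 * gi⁻¹ := ⟨_, rfl⟩
  obtain ⟨y2, hy2⟩ : ∃ y2, y2 = gC * y1 * gC⁻¹ := ⟨_, rfl⟩
  have px2 : φ x2 = e2 := by rw [hx2, map_mul, map_mul, map_inv, hD, hx1, hd.De1]
  have py1 : φ y1 = f1 := by rw [hy1, map_mul, map_mul, map_inv, hi, hx1, hd.ie1]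
  have py2 : φ y2 = f2 := by rw [hy2, map_mul, map_mul, map_inv, hC, py1, hd.Cf1]
  have Dy1 : y1 * gD = gD * y1 := H908.commute_lift h.cen (by rw [hD, py1, hd.Df1]) (cop' gD3)
  have Dy2 : y2 * gD = gD * y2 := H908.commute_lift h.cen (by rw [hD, py2, hd.Df2]) (cop' gD3)
  have Cx1 : x1 * gC = gC * x1 := H908.commute_lift h.cen (by rw [hC, hx1, hd.Ce1]) (cop' gC3)
  have Cx2 : x2 * gC = gC * x2 := H908.commute_lift h.cen (by rw [hC, px2, hd.Ce2]) (cop' gC3)
  obtain ⟨zx, hzx, ezx⟩ := h.exists_eq (a := gD * x2 * gD⁻¹) (b := x1 * x2)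
    (by rw [map_mul, map_mul, map_inv, map_mul, hD, px2, hx1, hd.De2])
  obtain ⟨zy, hzy, ezy⟩ := h.exists_eq (a := gC * y2 * gC⁻¹) (b := y1 * y2)
    (by rw [map_mul, map_mul, map_inv, map_mul, hC, py2, py1, hd.Cf2])
  obtain ⟨zi, hzi, ezi⟩ := h.exists_eq (a := gi * x2 * gi⁻¹) (b := y1 * y2)
    (by rw [map_mul, map_mul, map_inv, map_mul, hi, px2, py1, py2, hd.ie2])
  have cm : ∀ y : L, y * gD = gD * y → φ x1 * φ y = φ y * φ x1 → x1 * y = y * x1 ∧ x2 * y = y * x2 := by
    intro y hy hxy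
    obtain ⟨z, hz, ez⟩ := h.exists_eq (a := x1 * y) (b := y * x1) (by rw [map_mul, map_mul, hxy])
    have h1 : x1 * y = y * x1 := comm_aux (h.comm hz) (h.comm hzx) hy.symm ez (by rw [← hx2]; exact ezx)
    refine ⟨h1, ?_⟩
    have hgy' : gD * y * gD⁻¹ = y := by rw [← hy]; group
    calc x2 * y = gD * x1 * gD⁻¹ * (gD * y * gD⁻¹) := by rw [hgy', hx2]
      _ = gD * (x1 * y) * gD⁻¹ := by group
      _ = (gD * y * gD⁻¹) * (gD * x1 * gD⁻¹) := by rw [h1]; group
      _ = y * x2 := by rw [hgy', hx2]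
  obtain ⟨x1y1, x2y1⟩ := cm y1 Dy1 (by rw [hx1, py1, hd.ef11])
  obtain ⟨x1y2, x2y2⟩ := cm y2 Dy2 (by rw [hx1, py2, hd.ef12])
  -- the crucial point
  have hx : x1 * x2 = x2 * x1 := by
    by_contra hne
    obtain ⟨z, hz, ez⟩ := h.exists_eq (a := x1 * x2) (b := x2 * x1) (by rw [map_mul, map_mul, hx1, px2, hd.e12])
    obtain ⟨c, hc⟩ := h.scal z hz
    have hsq : x1 * x1 ∈ φ.ker := by
      rw [MonoidHom.mem_ker, map_mul, hx1, ← pow_two, hd.sq _ hd.me]
    have hsqy : y1 * y1 ∈ φ.ker := by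
      rw [MonoidHom.mem_ker, map_mul, py1, ← pow_two, hd.sq _ hd.mf]
    have zz : z * z = 1 := by
      have t1 : x1 * x1 * x2 = x2 * (x1 * x1) := h.comm hsq x2
      have t2 : x1 * x1 * x2 = z * z * (x2 * (x1 * x1)) := by
        calc x1 * x1 * x2 = x1 * (x1 * x2) := by group
          _ = (x1 * z) * (x2 * x1) := by rw [ez]; group
          _ = z * (x1 * x2) * x1 := by rw [← h.comm hz x1]; group
          _ = z * z * (x2 * (x1 * x1)) := by rw [ez]; group
      rw [t1] at t2
      have t3 : 1 * (x2 * (x1 * x1)) = z * z * (x2 * (x1 * x1)) := by rw [one_mul]; exact t2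
      exact (mul_right_cancel t3).symm
    have hcc : c * c = 1 := by
      have t1 : ρ (z * z) = 1 := by rw [zz, map_one]
      rw [map_mul, hc, smul_mul_smul_comm, one_mul] at t1
      have t2 : (c * c - 1) • (1 : Module.End Ω V) = 0 := by rw [sub_smul, t1, one_smul, sub_self]
      exact sub_eq_zero.1 ((smul_eq_zero.1 t2).resolve_right one_ne_zero)
    have hc1 : c = -1 := by
      rcases mul_self_eq_one_iff.1 hcc with h1 | h1
      · exfalso
        apply hne
        have : z = 1 := h.inj (by rw [hc, h1, one_smul, map_one])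
        rw [ez, this, one_mul]
      · exact h1
    have anx : ρ x1 * ρ x2 = -(ρ x2 * ρ x1) := by
      rw [← map_mul, ez, map_mul, hc, hc1, neg_one_smul, neg_mul, one_mul, map_mul]
    have any : ρ y1 * ρ y2 = -(ρ y2 * ρ y1) := by
      obtain ⟨c', hc'⟩ := h.scal zi hzi
      have hc0 : c' ≠ 0 := by
        rintro rfl
        rw [zero_smul] at hc'
        have h1 := rho_mul_inv (ρ := ρ) zi
        rw [hc', zero_mul] at h1
        exact zero_ne_one h1
      have t1 : ρ (gi * x2 * gi⁻¹) = c' • (ρ y1 * ρ y2) := by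
        rw [ezi, map_mul, hc', smul_mul_assoc, one_mul, map_mul]
      have t2 : ρ y1 * ρ (gi * x2 * gi⁻¹) = -(ρ (gi * x2 * gi⁻¹) * ρ y1) := by
        have s1 : y1 * (gi * x2 * gi⁻¹) = gi * (x1 * x2) * gi⁻¹ := by rw [hy1]; group
        have s2 : (gi * x2 * gi⁻¹) * y1 = gi * (x2 * x1) * gi⁻¹ := by rw [hy1]; group
        rw [← map_mul, ← map_mul, s1, s2, map_mul, map_mul, map_mul ρ x1, anx, map_mul, map_mul, map_mul ρ x2]
        noncomm_ring
      rw [t1, mul_smul_comm, smul_mul_assoc, ← smul_neg] at t2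
      have t3 := smul_right_injective (Module.End Ω V) hc0 t2
      have t4 : ρ y1 * (ρ y1 * ρ y2) = ρ y1 * (-(ρ y2 * ρ y1)) := by
        rw [mul_neg, ← mul_assoc (ρ y1) (ρ y2)]
        exact t3
      calc ρ y1 * ρ y2 = (ρ y1⁻¹ * ρ y1) * (ρ y1 * ρ y2) := by rw [rho_inv_mul, one_mul]
        _ = ρ y1⁻¹ * (ρ y1 * (ρ y1 * ρ y2)) := by noncomm_ring
        _ = (ρ y1⁻¹ * ρ y1) * (-(ρ y2 * ρ y1)) := by rw [t4]; noncomm_ring
        _ = -(ρ y2 * ρ y1) := by rw [rho_inv_mul, one_mul]
    have hinj : ∀ g : L, Function.Injective (ρ g) := by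
      intro g v w hvw
      have h1 : ∀ v, ρ g⁻¹ (ρ g v) = v := fun v => by
        change (ρ g⁻¹ * ρ g) v = v
        rw [rho_inv_mul]; rfl
      rw [← h1 v, hvw, h1]
    have hmul : ∀ {y g k : L}, y * g * y⁻¹ = k → y * g = k * y := fun h => by rw [← h]; group
    have scal_ne : ∀ {y : L}, y * y ∈ φ.ker → ∃ s : Ω, s ≠ 0 ∧ ρ y * ρ y = s • 1 := by
      intro y hy
      obtain ⟨s, hs⟩ := h.scal _ hy
      refine ⟨s, ?_, by rw [← map_mul, hs]⟩
      rintro rfl
      rw [zero_smul] at hs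
      have h1 := rho_mul_inv (ρ := ρ) (y * y)
      rw [hs, zero_mul] at h1
      exact zero_ne_one h1
    by_cases h3 : (3 : Ω) = 0
    · obtain ⟨a, ha⟩ := mk_Qt h gD3 hzx (by rw [← hx2]; exact ezx) hsq (by rw [← hx2]; exact anx)
      obtain ⟨b, hb⟩ := mk_Qt h gC3 hzy (by rw [← hy2]; exact ezy) hsqy (by rw [← hy2]; exact any)
      rw [← hx2] at ha
      rw [← hy2] at hb
      have sm : ∀ {a b : Ω} {x y : L}, x * y = y * x → (a • ρ x) * (b • ρ y) = (b • ρ y) * (a • ρ x) := by
        intro a b x y hxy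
        rw [smul_mul_smul_comm, smul_mul_smul_comm, ← map_mul, ← map_mul, hxy, mul_comm a b]
      have sm1 : ∀ {b : Ω} {x y : L}, x * y = y * x → ρ x * (b • ρ y) = (b • ρ y) * ρ x := by
        intro b x y hxy
        rw [mul_smul_comm, smul_mul_assoc, ← map_mul, ← map_mul, hxy]
      have inv1 : (gD * gC)⁻¹ = gD ^ 2 * gC ^ 2 := by
        rw [inv_eq_iff_mul_eq_one]
        calc gD * gC * (gD ^ 2 * gC ^ 2) = gD * (gC * gD ^ 2) * gC ^ 2 := by group
          _ = gD * (gD ^ 2 * gC) * gC ^ 2 := by rw [(hcm.pow_left 2).eq]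
          _ = gD ^ 3 * gC ^ 3 := by group
          _ = 1 := by rw [gD3, gC3, one_mul]
      have e0 : ρ gD * ρ gC = ρ (gj * gD * gj⁻¹)⁻¹ := by rw [q3, ← inv1, inv_inv, map_mul]
      refine three_false hV h3 ha hb (by rw [← map_mul, ← map_mul, gDC]) (sm1 Dy1.symm) (sm1 Dy2.symm)
        (sm1 Cx1.symm) (sm1 Cx2.symm) (sm x1y1) (sm x1y2) (sm x2y1) (sm x2y2) ?_ ?_ ?_
      · rw [e0, fx_inv, finrank_fx_conj]
      · have e3 : ρ gD * ρ gD * ρ gC = ρ (gj * gC * gj⁻¹) := by rw [q4, pow_two, map_mul, map_mul]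
        rw [e3, finrank_fx_conj, ← finrank_fx_conj gC gi, q2]
      · intro hs
        constructor
        · have e4 : gC = gi⁻¹ * gD * gi⁻¹⁻¹ := by rw [← q2]; group
          rw [e4]
          exact sq_conj _ _ hs
        · rw [e0]
          exact sq_inv _ (sq_conj _ _ hs)
    · obtain ⟨w, hw⟩ : ∃ w : Ω, w ^ 2 + w + 1 = 0 := by
        have h4 : (Polynomial.X ^ 2 + Polynomial.X + 1 : Polynomial Ω).natDegree = 2 := by compute_degree!
        obtain ⟨w, hw⟩ := IsAlgClosed.exists_root (Polynomial.X ^ 2 + Polynomial.X + 1 : Polynomial Ω) (by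
          intro h0
          rw [Polynomial.degree_eq_natDegree (by intro h1; rw [h1] at h4; simp at h4), h4] at h0
          norm_num at h0)
        refine ⟨w, ?_⟩
        simpa only [Polynomial.IsRoot, _root_.Polynomial.eval_add, _root_.Polynomial.eval_pow, _root_.Polynomial.eval_X, _root_.Polynomial.eval_one] using hw
      obtain ⟨s, hs, hF⟩ := scal_ne hsqy
      obtain ⟨t, ht, hG⟩ := scal_ne (y := y2) (by
        rw [MonoidHom.mem_ker, map_mul, py2, ← hd.Cf1]
        have := hd.sq _ hd.mf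
        calc C * f1 * C⁻¹ * (C * f1 * C⁻¹) = C * f1 ^ 2 * C⁻¹ := by rw [pow_two]; group
          _ = 1 := by rw [this, mul_one, mul_inv_cancel])
      exact not_three_false hV h2 h3 hw (ρ gD) (ρ gC) (ρ gi) (ρ gj) (by rw [← map_pow, gD3, map_one])
        (by rw [← map_pow, gC3, map_one]) (by rw [← map_mul, ← map_mul, gDC])
        (fun h1 => hd.D1 (by rw [← hD, h.inj (h1.trans (map_one ρ).symm), map_one])) (hinj _) (hinj _)
        (by rw [← map_mul, ← map_pow, ← map_mul, hmul q1]) (by rw [← map_mul, ← map_mul, hmul q2])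
        (by rw [← map_mul, ← map_pow, ← map_pow, ← map_mul, ← map_mul, hmul q3])
        (by rw [← map_mul, ← map_pow, ← map_mul, ← map_mul, hmul q4]) hs ht hF hG any
        (by rw [← map_mul, ← map_mul, Dy1]) (by rw [← map_mul, ← map_mul, Dy2])
  have hy : y1 * y2 = y2 * y1 := by
    have t2 : y1 * (gi * x2 * gi⁻¹) = (gi * x2 * gi⁻¹) * y1 := by
      rw [hy1]
      calc gi * x1 * gi⁻¹ * (gi * x2 * gi⁻¹) = gi * (x1 * x2) * gi⁻¹ := by group
        _ = gi * x2 * gi⁻¹ * (gi * x1 * gi⁻¹) := by rw [hx]; group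
    rw [ezi] at t2
    have t3 : zi * (y1 * (y1 * y2)) = zi * (y1 * (y2 * y1)) := by
      calc zi * (y1 * (y1 * y2)) = (zi * y1) * (y1 * y2) := by group
        _ = y1 * (zi * (y1 * y2)) := by rw [h.comm hzi y1]; group
        _ = zi * (y1 * (y2 * y1)) := by rw [t2]; group
    exact mul_left_cancel (mul_left_cancel t3)
  -- everything commutes
  have key : ∀ g : L, Commute g x1 → Commute g x2 → Commute g y1 → Commute g y2 → ∀ a ∈ E.comap φ, Commute g a := by
    intro g c1 c2 c3 c4 a ha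
    obtain ⟨k1, k2, k3, k4, hk⟩ := hd.gen (φ a) ha
    obtain ⟨z, hz, ez⟩ := h.exists_eq (a := a) (b := x1 ^ k1 * x2 ^ k2 * y1 ^ k3 * y2 ^ k4)
      (by rw [hk, map_mul, map_mul, map_mul, map_pow, map_pow, map_pow, map_pow, hx1, px2, py1, py2])
    rw [ez]
    have c0 : Commute g z := (h.comm hz g).symm
    exact c0.mul_right ((((c1.pow_right _).mul_right (c2.pow_right _)).mul_right (c3.pow_right _)).mul_right
      (c4.pow_right _))
  intro a ha b hb
  have k1 := key x1 (Commute.refl _) hx x1y1 x1y2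
  have k2 := key x2 hx.symm (Commute.refl _) x2y1 x2y2
  have k3 := key y1 x1y1.symm x2y1.symm (Commute.refl _) hy
  have k4 := key y2 x1y2.symm x2y2.symm hy.symm (Commute.refl _)
  exact key a (k1 a ha).symm (k2 a ha).symm (k3 a ha).symm (k4 a ha).symm b hb

end Cfsg.Agent.H424.M22
end

-- part: H424/M22Eight
section
/-!
# `M₂₂` has no projective representation of degree eight in odd characteristic (helper424)
-/

set_option autoImplicit false
set_option linter.unusedSectionVars false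

namespace Cfsg.Agent.H424.M22

open Module Cfsg Cfsg.Agent.H13.M22 Cfsg.Agent.SporadicA.GolayBase Cfsg.Agent.SporadicA.GolayPerm
open Cfsg.Agent.SporadicStructure.M24El Cfsg.Agent.H921.Spor Cfsg.Agent.H921.Spor.M24

/-! ### the data : the octad `{0, 1, 2, 9, 10, 15, 20, 23}` -/

def DP : ℕ := 984689973043947486362943416058356800
def DI : ℕ := 984643035197369423085052802648605984
def CP : ℕ := 963833540055964579395310429132661824
def CI : ℕ := 970249118475172770773020710863471904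
def iP : ℕ := 971528945974626366293223087196459328
def iI : ℕ := 972949971869304226555796410138208896
def jP : ℕ := 982007465262166717283636829944395136
def jI : ℕ := 968716145563460850620526302839550368
def e1P : ℕ := 983560496244493579808249287294715936
def e2P : ℕ := 979463059671913328358098609083353120
def f1P : ℕ := 963845622359010745715224433038559264
def f2P : ℕ := 959789712551549311357050337837647904
def t5P : ℕ := 972504211947739266824059912119755808
def t5I : ℕ := 979410006432370095309153054975184928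
def t3P : ℕ := 963399769877222386365524343423862048
def t3I : ℕ := 969971237953841471930157435721983040
def EL6 : List ℕ := [984818244535754528103549039458486304, 959789712551549311357050337837647904,
  963845622359010745715224433038559264, 970254902120350598020240965873371168, 979463059671913328358098609083353120,
  980599603407022916402920467664013344, 962223308431878189186809386174122016, 960884477435128931241433760505432096,
  983560496244493579808249287294715936, 971107250297140663006814421721450528, 976420838754479978627774237199763488,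
  974027552735757545258125379239413792, 978205905600333181674125866675111968, 973054518210042674313238929715267616,
  965995967454161196873229362941626400, 964657405367238315514736180932642848]

theorem okA : okM DP = true ∧ okM DI = true ∧ okM CP = true ∧ okM CI = true ∧ okM iP = true ∧ okM iI = true ∧
    okM jP = true ∧ okM jI = true := by decide +kernel

theorem okB : okM e1P = true ∧ okM e2P = true ∧ okM f1P = true ∧ okM f2P = true ∧ okM t5P = true ∧
    okM t5I = true ∧ okM t3P = true ∧ okM t3I = true := by decide +kernel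

theorem ok_EL6 : ∀ P ∈ EL6, okM P = true := List.all_eq_true.1 (by decide +kernel)

/-- the subgroup `2⁴` with normaliser `2⁴ : A₆` -/
def E6 : Subgroup Spor.M22 where
  carrier := {g | ∃ P ∈ EL6, g = _root_.Cfsg.Agent.H13.M22.em P}
  mul_mem' := by
    rintro _ _ ⟨P, hP, rfl⟩ ⟨Q, hQ, rfl⟩
    refine ⟨pcomp P Q, ?_, (em_mul (ok_EL6 P hP) (ok_EL6 Q hQ)).symm⟩
    have h : (EL6.all fun P => EL6.all fun Q => EL6.contains (pcomp P Q)) = true := by decide +kernel
    exact List.contains_iff_mem.1 (List.all_eq_true.1 (List.all_eq_true.1 h P hP) Q hQ)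
  one_mem' := ⟨idP, by decide, em_one.symm⟩
  inv_mem' := by
    rintro _ ⟨P, hP, rfl⟩
    refine ⟨P, hP, ?_⟩
    have h : (EL6.all fun P => Nat.beq (pcomp P P) idP) = true := by decide +kernel
    exact (em_inv (ok_EL6 P hP) (ok_EL6 P hP) (Nat.eq_of_beq_eq_true (List.all_eq_true.1 h P hP))).symm

theorem em_mem_E6 {P : ℕ} (hP : P ∈ EL6) : _root_.Cfsg.Agent.H13.M22.em P ∈ E6 := ⟨P, hP, rfl⟩

theorem sq6 : ∀ e ∈ E6, e ^ 2 = 1 := by
  rintro _ ⟨P, hP, rfl⟩
  have h : (EL6.all fun P => Nat.beq (pcomp P P) idP) = true := by decide +kernel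
  have h1 := Nat.eq_of_beq_eq_true (List.all_eq_true.1 h P hP)
  rw [pow_two, ← em_mul (ok_EL6 P hP) (ok_EL6 P hP), h1, em_one]

/-- `E6` with elements of order five and three -/
theorem f53' : F53 E6 (_root_.Cfsg.Agent.H13.M22.em t5P) (_root_.Cfsg.Agent.H13.M22.em t3P) := by
  obtain ⟨-, -, -, -, h5, h5I, h3, h3I⟩ := okB
  have i5 : pcomp t5P t5I = idP := by decide +kernel
  have i3 : pcomp t3P t3I = idP := by decide +kernel
  have p5 : _root_.Cfsg.Agent.H13.M22.em t5P ^ 5 = 1 := by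
    rw [← em_ppow h5, ← em_one]
    congr 1
  have p3 : _root_.Cfsg.Agent.H13.M22.em t3P ^ 3 = 1 := by
    rw [← em_ppow h3, ← em_one]
    congr 1
  have f5 : ∀ e ∈ E6, _root_.Cfsg.Agent.H13.M22.em t5P * e * (em t5P)⁻¹ ∈ E6 := by
    rintro _ ⟨P, hP, rfl⟩
    refine ⟨pcomp t5P (pcomp P t5I), ?_, em_conj h5 h5I (ok_EL6 P hP) i5 rfl⟩
    have h : (EL6.all fun P => EL6.contains (pcomp t5P (pcomp P t5I))) = true := by decide +kernel
    exact List.contains_iff_mem.1 (List.all_eq_true.1 h P hP)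
  have f3 : ∀ e ∈ E6, _root_.Cfsg.Agent.H13.M22.em t3P * e * (_root_.Cfsg.Agent.H13.M22.em t3P)⁻¹ ∈ E6 := by
    rintro _ ⟨P, hP, rfl⟩
    refine ⟨pcomp t3P (pcomp P t3I), ?_, em_conj h3 h3I (ok_EL6 P hP) i3 rfl⟩
    have h : (EL6.all fun P => EL6.contains (pcomp t3P (pcomp P t3I))) = true := by decide +kernel
    exact List.contains_iff_mem.1 (List.all_eq_true.1 h P hP)
  have inv' : ∀ e ∈ E6, e⁻¹ = e := by
    intro e he
    rw [inv_eq_iff_mul_eq_one, ← pow_two, sq6 e he]
  refine ⟨sq6, iff_of_pow (by norm_num) p5 f5, iff_of_pow (by norm_num) p3 f3, p5, p3, ?_, ?_,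
    ⟨_root_.Cfsg.Agent.H13.M22.em e1P, em_mem_E6 (by decide), em_ne_one okB.1 (i := 3) (by norm_num) (by decide +kernel)⟩⟩
  · rintro _ ⟨P, hP, rfl⟩
    have h : (EL6.all fun P => EL6.any fun Q => Nat.beq (pcomp (pcomp t5P (pcomp Q t5I)) Q) P) = true := by
      decide +kernel
    obtain ⟨Q, hQ, h1⟩ := List.any_eq_true.1 (List.all_eq_true.1 h P hP)
    have h1 := Nat.eq_of_beq_eq_true h1
    refine ⟨_root_.Cfsg.Agent.H13.M22.em Q, em_mem_E6 hQ, ?_⟩
    rw [inv' _ (em_mem_E6 hQ), em_conj h5 h5I (ok_EL6 Q hQ) i5 rfl,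
      ← em_mul (okM_pcomp h5 (okM_pcomp (ok_EL6 Q hQ) h5I)) (ok_EL6 Q hQ), h1]
  · rintro _ ⟨P, hP, rfl⟩
    have h : (EL6.all fun P => EL6.any fun Q => Nat.beq (pcomp (pcomp t3P (pcomp Q t3I)) Q) P) = true := by
      decide +kernel
    obtain ⟨Q, hQ, h1⟩ := List.any_eq_true.1 (List.all_eq_true.1 h P hP)
    have h1 := Nat.eq_of_beq_eq_true h1
    refine ⟨_root_.Cfsg.Agent.H13.M22.em Q, em_mem_E6 hQ, ?_⟩
    rw [inv' _ (em_mem_E6 hQ), em_conj h3 h3I (ok_EL6 Q hQ) i3 rfl,
      ← em_mul (okM_pcomp h3 (okM_pcomp (ok_EL6 Q hQ) h3I)) (ok_EL6 Q hQ), h1]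

theorem em_comm' {P Q : ℕ} (hP : okM P = true) (hQ : okM Q = true) (h : pcomp P Q = pcomp Q P) :
    _root_.Cfsg.Agent.H13.M22.em P * _root_.Cfsg.Agent.H13.M22.em Q = _root_.Cfsg.Agent.H13.M22.em Q * _root_.Cfsg.Agent.H13.M22.em P := by
  rw [← em_mul hP hQ, h, em_mul hQ hP]

theorem dat : Dat E6 (_root_.Cfsg.Agent.H13.M22.em DP) (_root_.Cfsg.Agent.H13.M22.em CP) (_root_.Cfsg.Agent.H13.M22.em iP) (_root_.Cfsg.Agent.H13.M22.em jP) (_root_.Cfsg.Agent.H13.M22.em e1P) (_root_.Cfsg.Agent.H13.M22.em e2P) (_root_.Cfsg.Agent.H13.M22.em f1P) (_root_.Cfsg.Agent.H13.M22.em f2P) := by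
  obtain ⟨hD, hDI, hC, hCI, hi, hiI, hj, hjI⟩ := okA
  obtain ⟨h1, h2, h3, h4, -, -, -, -⟩ := okB
  have iD : pcomp DP DI = idP := by decide +kernel
  have iC : pcomp CP CI = idP := by decide +kernel
  have ii : pcomp iP iI = idP := by decide +kernel
  have ij : pcomp jP jI = idP := by decide +kernel
  have hD2 := okM_ppow hD 2
  have hC2 := okM_ppow hC 2
  refine
    { D3 := ?_, C3 := ?_, D1 := em_ne_one hD (i := 1) (by norm_num) (by decide +kernel),
      DC := em_comm' hD hC (by decide +kernel),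
      r1 := ?_, r2 := em_conj hi hiI hC ii (by decide +kernel), r3 := ?_, r4 := ?_, sq := sq6,
      me := em_mem_E6 (by decide), mf := em_mem_E6 (by decide),
      De1 := em_conj hD hDI h1 iD (by decide +kernel), De2 := ?_,
      Df1 := em_comm' hD h3 (by decide +kernel), Df2 := em_comm' hD h4 (by decide +kernel),
      Cf1 := em_conj hC hCI h3 iC (by decide +kernel), Cf2 := ?_,
      Ce1 := em_comm' hC h1 (by decide +kernel), Ce2 := em_comm' hC h2 (by decide +kernel),
      ie1 := em_conj hi hiI h1 ii (by decide +kernel), ie2 := ?_,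
      ef11 := em_comm' h1 h3 (by decide +kernel), ef12 := em_comm' h1 h4 (by decide +kernel),
      e12 := em_comm' h1 h2 (by decide +kernel), gen := ?_ }
  · rw [← em_ppow hD, ← em_one]
    congr 1
  · rw [← em_ppow hC, ← em_one]
    congr 1
  · rw [← em_ppow hC]
    exact em_conj hi hiI hD ii (by decide +kernel)
  · rw [← em_ppow hC, ← em_ppow hD, ← em_mul hD2 hC2]
    exact em_conj hj hjI hD ij (by decide +kernel)
  · rw [← em_ppow hD, ← em_mul hD2 hC]
    exact em_conj hj hjI hC ij (by decide +kernel)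
  · rw [← em_mul h1 h2]
    exact em_conj hD hDI h2 iD (by decide +kernel)
  · rw [← em_mul h3 h4]
    exact em_conj hC hCI h4 iC (by decide +kernel)
  · rw [← em_mul h3 h4]
    exact em_conj hi hiI h2 ii (by decide +kernel)
  · rintro _ ⟨P, hP, rfl⟩
    have h : (EL6.all fun P => [0, 1].any fun a => [0, 1].any fun b => [0, 1].any fun c => [0, 1].any fun d =>
        Nat.beq (pcomp (pcomp (pcomp (ppow e1P a) (ppow e2P b)) (ppow f1P c)) (ppow f2P d)) P) = true := by
      decide +kernel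
    obtain ⟨a, -, ha⟩ := List.any_eq_true.1 (List.all_eq_true.1 h P hP)
    obtain ⟨b, -, hb⟩ := List.any_eq_true.1 ha
    obtain ⟨c, -, hc⟩ := List.any_eq_true.1 hb
    obtain ⟨d, -, hd⟩ := List.any_eq_true.1 hc
    refine ⟨a, b, c, d, ?_⟩
    rw [← Nat.eq_of_beq_eq_true hd, em_mul (okM_pcomp (okM_pcomp (okM_ppow h1 a) (okM_ppow h2 b)) (okM_ppow h3 c))
      (okM_ppow h4 d), em_mul (okM_pcomp (okM_ppow h1 a) (okM_ppow h2 b)) (okM_ppow h3 c),
      em_mul (okM_ppow h1 a) (okM_ppow h2 b), em_ppow h1, em_ppow h2, em_ppow h3, em_ppow h4]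

/-- **no degree eight** -/
theorem eight_false {L Ω V : Type*} [Group L] [Finite L] [Field Ω] [IsAlgClosed Ω] [AddCommGroup V] [Module Ω V]
    [FiniteDimensional Ω V] {φ : L →* Spor.M22} {ρ : L →* Module.End Ω V} (h : Cov φ ρ) (h2 : (2 : Ω) ≠ 0)
    (hcop : (Nat.card φ.ker).Coprime 3) : finrank Ω V ≠ 8 := by
  intro hn
  have hab := ab_of_dat h h2 hn hcop dat
  obtain ⟨g5, h5⟩ := h.surj (_root_.Cfsg.Agent.H13.M22.em t5P)
  obtain ⟨g3, h3⟩ := h.surj (_root_.Cfsg.Agent.H13.M22.em t3P)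
  exact FT.not_eight (f53'.ft h hab h5 h3) h.scal (f53'.card h h2) (f53'.not_top h) hn

end Cfsg.Agent.H424.M22
end

-- part: H424/M22Core
section
/-!
# `M₂₂` in odd characteristic: no residual core of degree eight (helper424)
-/

set_option autoImplicit false
set_option linter.unusedSectionVars false

namespace Cfsg.Agent.H424.M22

open Module Cfsg Cfsg.Geo Matrix Cfsg.Agent.H915.LD Cfsg.Agent.H13.M22

universe u

variable {ι : Type} [Fintype ι] [DecidableEq ι] {F : Type u} [Field F] [Finite F] {P : Subgroup (GL ι F)}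

/-- the covering data of a core -/
theorem exists_cov (p : ℕ) [hp : Fact p.Prime] [hFp : CharP F p] (hperf : ⁅P, P⁆ = P) (hpn : ¬ p ∣ Fintype.card ι)
    {T : Type*} [Group T] (e : Soc P ≃* T) :
    ∃ ρ : P →* Module.End (AlgebraicClosure F) (ι → AlgebraicClosure F),
      Cov (e.toMonoidHom.comp (toSoc P)) ρ := by
  have : Finite P := by
    have := Finite.of_injective (fun g : GL ι F => (g : Matrix ι ι F)) (fun _ _ h => Units.ext h)
    exact Finite.of_injective P.subtype Subtype.val_injective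
  let Fb := AlgebraicClosure F
  let R : P →* Module.End Fb (ι → Fb) :=
    ((Matrix.toLinAlgEquiv' (R := Fb) (n := ι)).toAlgHom : Matrix ι ι Fb →* Module.End Fb (ι → Fb)).comp
      ((Units.coeHom _).comp ((Matrix.GeneralLinearGroup.map (algebraMap F Fb)).comp P.subtype))
  have hk := ker_comp e
  refine ⟨R, e.surjective.comp (toSoc_surjective P), by rw [hk]; exact scalars_le_center (P := P), ?_, ?_, ?_⟩
  · intro z hz
    rw [hk, Subgroup.mem_subgroupOf, mem_scalars_iff] at hz
    obtain ⟨c, hc⟩ := hz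
    refine ⟨algebraMap F Fb (c : F), ?_⟩
    change Matrix.toLinAlgEquiv' (((z : GL ι F) : Matrix ι ι F).map (algebraMap F Fb)) = _
    rw [hc]
    have h1 : ((c : F) • (1 : Matrix ι ι F)).map (algebraMap F Fb) = (algebraMap F Fb (c : F)) • (1 : Matrix ι ι Fb) := by
      ext i j
      by_cases hij : i = j
      · subst hij; simp
      · simp [Matrix.one_apply_ne hij]
    rw [h1, map_smul, map_one]
  · intro a b hab
    apply Subtype.ext
    apply Units.ext
    have h1 := (Matrix.toLinAlgEquiv' (R := Fb) (n := ι)).injective hab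
    ext k l
    have h2 := congrFun (congrFun h1 k) l
    exact (algebraMap F Fb).injective h2
  · rw [hk]
    have hcop := H906.T14.coprime_card_scalars (P := P) hperf hp.out hpn
    have : CharP Fb p := charP_of_injective_algebraMap (algebraMap F Fb).injective p
    intro h0
    rw [CharP.cast_eq_zero_iff Fb p] at h0
    exact hp.out.one_lt.ne' (Nat.eq_one_of_dvd_coprimes hcop h0 dvd_rfl)

/-- **`M₂₂`, `p` odd: the degree is not eight** -/
theorem core_ne_eight (p : ℕ) [hp : Fact p.Prime] [hFp : CharP F p] (hperf : ⁅P, P⁆ = P) (hp2 : p ≠ 2)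
    (h : Spor.IsoM22 (Soc P)) : Fintype.card ι ≠ 8 := by
  intro hn
  obtain ⟨e⟩ := h
  have : Finite P := by
    have := Finite.of_injective (fun g : GL ι F => (g : Matrix ι ι F)) (fun _ _ h => Units.ext h)
    exact Finite.of_injective P.subtype Subtype.val_injective
  have hpn : ¬ p ∣ Fintype.card ι := by
    rw [hn, show (8 : ℕ) = 2 ^ 3 by norm_num]
    intro hd
    exact hp2 ((Nat.prime_dvd_prime_iff_eq hp.out Nat.prime_two).1 (hp.out.dvd_of_dvd_pow hd))
  obtain ⟨ρ, hρ⟩ := exists_cov p hperf hpn e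
  have h2 : (2 : AlgebraicClosure F) ≠ 0 := by
    have : CharP (AlgebraicClosure F) p := charP_of_injective_algebraMap (algebraMap F (AlgebraicClosure F)).injective p
    intro h0
    have h1 : ((2 : ℕ) : AlgebraicClosure F) = 0 := by exact_mod_cast h0
    rw [CharP.cast_eq_zero_iff _ p] at h1
    exact hp2 ((Nat.prime_dvd_prime_iff_eq hp.out Nat.prime_two).1 h1)
  apply eight_false hρ h2
  · rw [ker_comp e]
    exact H906.T14.coprime_card_scalars (P := P) hperf Nat.prime_three (by rw [hn]; norm_num)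
  · rw [Module.finrank_fintype_fun_eq_card, hn]

end Cfsg.Agent.H424.M22
end
end
end
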