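import Cfsg.Agent.H379.P4.Defs
import Cfsg.Agent.H377.OddThree_m3
import Cfsg.Agent.H379.P4.TwoElt
import Cfsg.Agent.H376.SpEmb
import Cfsg.Agent.H72.Task106
import Cfsg.Agent.S2264
import Cfsg.Agent.S2265
import Cfsg.Agent.S0245
import Cfsg.Agent.S0292
import Cfsg.Agent.H424.OrthElt
import Cfsg.Agent.S0293
import Cfsg.Agent.S0294
import Mathlib
import Cfsg.Agent.H72.AdjPSL
import Cfsg.Agent.S2468
import Cfsg.Agent.H72.AdjPSUW
import Cfsg.Agent.S0280
import Cfsg.Agent.S2476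
import Cfsg.Agent.H124.SUThreeEig
import Cfsg.Agent.H127.PSUThreeEx
import Cfsg.Agent.Prune
set_option linter.all false

section
prune_inst 0x7fbffdfcffbf37ffffff7e7ffef9fffe1b95dfffffdff943ffe869ff8fff13920bedffaf0de078ff0ed6e29610b87853fb7eeeffec6fdc7ffffdfff45ffbee5ff5f7bd00119698240f342fffe3f07f8e7f3fffffffffffffffffffffffffffbeffffffffffff

-- part: H424/P4Num
section
prune_inst 0x2030040880000000000010000000040000000000208001792007000206d3000000090048000d02104612001800000000100030000000000000300000020020802894041024010c840001803007180c00000000000000000000000000041000000000000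
set_option linter.all false
open scoped Cfsg.Agent.FastGrp

/-!
# S3591: sections of Lie type with tori of order `u ^ k ± 1` (helper424)

`ts u k ε = u ^ k - ε`, `T2 S M` : `S` has an element `g` with `M ∣ 2 * orderOf g`.

* `kill_A` : `R` divides `u ^ n - δ` and is prime to `u ^ (2 i) - 1`, `i < n`, the tori `u ^ k ± 1`, `k < n`, are in `S`
  (for `n = 3` also `u ^ 3 + δ`): contradiction;
* `kill_BC` : the same for the groups of types `B_n`, `C_n`.
-/

set_option autoImplicit false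

namespace Cfsg.Agent.H424.P4

open Cfsg.Agent.H379.P4

/-- `u ^ k - ε` -/
def ts (u k : ℕ) (ε : ℤ) : ℕ := if ε = 1 then u ^ k - 1 else u ^ k + 1

theorem ts_one (u k : ℕ) : ts u k 1 = u ^ k - 1 := if_pos rfl

theorem ts_neg (u k : ℕ) : ts u k (-1) = u ^ k + 1 := if_neg (by decide)

theorem pow_two_mul_sub (u k : ℕ) : u ^ (2 * k) - 1 = (u ^ k - 1) * (u ^ k + 1) := by
  have h := Nat.sq_sub_sq (u ^ k) 1
  rw [one_pow, ← pow_mul, mul_comm k 2] at h
  rw [h, mul_comm]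

theorem ts_mul (u k : ℕ) {ε : ℤ} (hε : ε = 1 ∨ ε = -1) : ts u k ε * ts u k (-ε) = u ^ (2 * k) - 1 := by
  rw [pow_two_mul_sub]
  rcases hε with rfl | rfl
  · rw [ts_one, ts_neg]
  · rw [neg_neg, ts_one, ts_neg, mul_comm]

theorem ts_dvd {u k : ℕ} {ε : ℤ} (hε : ε = 1 ∨ ε = -1) : ts u k ε ∣ u ^ (2 * k) - 1 := by
  rw [← ts_mul u k hε]
  exact dvd_mul_right _ _

theorem ts_le (u k : ℕ) {ε : ℤ} (hε : ε = 1 ∨ ε = -1) : ts u k ε ≤ u ^ k + 1 := by
  rcases hε with rfl | rfl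
  · rw [ts_one]; omega
  · rw [ts_neg]

theorem ts_pos {u k : ℕ} (hu : 2 ≤ u) (hk : 1 ≤ k) {ε : ℤ} (hε : ε = 1 ∨ ε = -1) : 0 < ts u k ε := by
  have := Nat.one_lt_pow (n := k) (by omega) (show 1 < u by omega)
  rcases hε with rfl | rfl
  · rw [ts_one]; omega
  · rw [ts_neg]; omega

/-- `(2, u - 1)` -/
def cc (u : ℕ) : ℕ := if Even u then 1 else 2

theorem cc_dvd {u k : ℕ} {ε : ℤ} (hε : ε = 1 ∨ ε = -1) : cc u ∣ ts u k ε := by
  unfold cc
  split_ifs with h
  · exact one_dvd _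
  · rw [Nat.not_even_iff_odd] at h
    have h1 : Odd (u ^ k) := h.pow
    obtain ⟨c, hc⟩ := h1
    rcases hε with rfl | rfl
    · rw [ts_one, hc]
      exact ⟨c, by omega⟩
    · rw [ts_neg, hc]
      exact ⟨c + 1, by ring⟩

theorem cc_pos (u : ℕ) : 0 < cc u := by
  unfold cc
  split_ifs <;> norm_num

theorem cc_le (u : ℕ) : cc u ≤ 2 := by
  unfold cc
  split_ifs <;> norm_num

theorem cc_le' {u : ℕ} (hu : 2 ≤ u) : cc u ≤ u - 1 := by
  unfold cc
  split_ifs with h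
  · omega
  · rw [Nat.not_even_iff_odd] at h
    obtain ⟨c, hc⟩ := h
    omega

/-- the order of the torus modulo `cc` -/
def hf (u k : ℕ) (ε : ℤ) : ℕ := ts u k ε / cc u

theorem hf_mul {u k : ℕ} {ε : ℤ} (hε : ε = 1 ∨ ε = -1) : cc u * hf u k ε = ts u k ε :=
  Nat.mul_div_cancel' (cc_dvd hε)

theorem hf_odd_of_even {u k : ℕ} (hk : 1 ≤ k) {ε : ℤ} (hε : ε = 1 ∨ ε = -1) (hu : 2 ≤ u) (h : Even u) :
    Odd (hf u k ε) ∧ hf u k ε = ts u k ε := by
  have h1 : cc u = 1 := if_pos h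
  have h2 := hf_mul (u := u) (k := k) hε
  rw [h1, one_mul] at h2
  refine ⟨?_, h2⟩
  rw [h2]
  have h3 : Even (u ^ k) := Nat.even_pow.2 ⟨h, by omega⟩
  rcases hε with rfl | rfl
  · rw [ts_one]
    exact Nat.Even.sub_odd (Nat.one_le_pow _ _ (by omega)) h3 odd_one
  · rw [ts_neg]
    exact h3.add_one

/-- `(u ^ k - 1) / c` and `(u ^ k + 1) / c` are coprime -/
theorem hf_coprime {u k : ℕ} (hk : 1 ≤ k) (hu : 2 ≤ u) : Nat.Coprime (hf u k 1) (hf u k (-1)) := by
  have h1 := hf_mul (u := u) (k := k) (Or.inl rfl : (1 : ℤ) = 1 ∨ (1 : ℤ) = -1)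
  have h2 := hf_mul (u := u) (k := k) (Or.inr rfl : (-1 : ℤ) = 1 ∨ (-1 : ℤ) = -1)
  rw [ts_one] at h1
  rw [ts_neg] at h2
  have h0 : 1 ≤ u ^ k := Nat.one_le_pow _ _ (by omega)
  by_cases he : Even u
  · obtain ⟨h3, -⟩ := hf_odd_of_even (u := u) hk (Or.inl rfl : (1 : ℤ) = 1 ∨ (1 : ℤ) = -1) hu he
    have h4 : cc u = 1 := if_pos he
    rw [h4, one_mul] at h1 h2
    have h5 : hf u k (-1) = hf u k 1 + 2 := by omega
    rw [h5]
    have h6 : Nat.Coprime (hf u k 1) 2 := Nat.coprime_two_right.2 h3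
    exact (Nat.coprime_self_add_right).2 h6
  · have h4 : cc u = 2 := if_neg he
    rw [h4] at h1 h2
    have h5 : hf u k (-1) = hf u k 1 + 1 := by omega
    rw [h5]
    exact (Nat.coprime_self_add_right).2 (Nat.coprime_one_right _)

/-- `S` has an element `g` with `M ∣ 2 * orderOf g` -/
def T2 (S : Type*) [Group S] (M : ℕ) : Prop := ∃ g : S, M ∣ 2 * orderOf g

section

variable {p q : ℕ} {S : Type*} [Group S]

theorem exists_of_dvd {g : S} {N : ℕ} (h0 : 0 < orderOf g) (h : N ∣ orderOf g) : ∃ x : S, orderOf x = N := by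
  obtain ⟨c, hc⟩ := h
  have hc0 : c ≠ 0 := by
    rintro rfl
    rw [hc] at h0
    simp at h0
  refine ⟨g ^ c, ?_⟩
  rw [orderOf_pow_of_dvd hc0 (by rw [hc]; exact Dvd.intro_left _ rfl), hc, Nat.mul_div_cancel _ (Nat.pos_of_ne_zero hc0)]

/-- odd divisors of the torus -/
theorem T2.odd [Finite S] {M N : ℕ} (h : T2 S M) (hN : Odd N) (hNM : N ∣ M) : ∃ x : S, orderOf x = N := by
  obtain ⟨g, hg⟩ := h
  have h1 : N.Coprime 2 := Nat.coprime_two_right.2 hN
  exact exists_of_dvd (orderOf_pos g) (h1.dvd_of_dvd_mul_left (hNM.trans hg))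

theorem T2.half [Finite S] {M N : ℕ} (h : T2 S M) (hNM : 2 * N ∣ M) : ∃ x : S, orderOf x = N := by
  obtain ⟨g, hg⟩ := h
  exact exists_of_dvd (orderOf_pos g) ((Nat.mul_dvd_mul_iff_left (by norm_num)).1 (hNM.trans hg))

theorem T2.hf [Finite S] {u k : ℕ} {ε : ℤ} (hε : ε = 1 ∨ ε = -1) (hk : 1 ≤ k) (hu : 2 ≤ u) (h : T2 S (ts u k ε)) :
    ∃ x : S, orderOf x = hf u k ε := by
  by_cases he : Even u
  · obtain ⟨h1, h2⟩ := hf_odd_of_even (u := u) hk hε hu he
    exact h.odd h1 (dvd_of_eq h2)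
  · have h4 : cc u = 2 := if_neg he
    have h5 := hf_mul (u := u) (k := k) hε
    rw [h4] at h5
    exact h.half (dvd_of_eq h5)

/-- the torus is `Lam` -/
theorem lam_hf [Finite S] (hP : Par p q) (h : Hyp p q S) {u k : ℕ} {ε : ℤ} (hε : ε = 1 ∨ ε = -1) (hk : 1 ≤ k)
    (hu : 2 ≤ u) (hT : T2 S (ts u k ε)) (hc : Nat.Coprime (R q) (ts u k ε)) : Lam p q (hf u k ε) := by
  refine h.lam hP (hT.hf hε hk hu) (Or.inl ?_)
  exact Nat.Coprime.coprime_dvd_right (Dvd.intro_left _ (hf_mul hε)) hc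

end

section num

theorem ineq_a (v : ℤ) (hv : 0 ≤ v) :
    288 * ((v + 4) * (v + 4) + (v + 4) + 1) ^ 3 ≤ (((v + 4) ^ 4 - 1) * ((v + 4) * (v + 4) - (v + 4) + 1)) ^ 2 := by
  have h : (((v + 4) ^ 4 - 1) * ((v + 4) * (v + 4) - (v + 4) + 1)) ^ 2 -
      288 * ((v + 4) * (v + 4) + (v + 4) + 1) ^ 3 = v ^ 12 + 46 * v ^ 11 + 971 * v ^ 10 + 12438 * v ^ 9 + 107687 * v ^ 8 + 663908 * v ^ 7 + 2988426 * v ^ 6 + 9890900 * v ^ 5 + 23850863 * v ^ 4 + 40689806 * v ^ 3 + 46137931 * v ^ 2 + 30469974 * v + 8322057 := by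
    ring
  have h1 : 0 ≤ v ^ 12 + 46 * v ^ 11 + 971 * v ^ 10 + 12438 * v ^ 9 + 107687 * v ^ 8 + 663908 * v ^ 7 + 2988426 * v ^ 6 + 9890900 * v ^ 5 + 23850863 * v ^ 4 + 40689806 * v ^ 3 + 46137931 * v ^ 2 + 30469974 * v + 8322057 := by
    (clear * - hv; positivity)
  linarith

theorem ineq_b (v : ℤ) (hv : 0 ≤ v) :
    288 * ((v + 4) * (v + 4) - (v + 4) + 1) ^ 3 ≤ (((v + 4) ^ 4 - 1) * ((v + 4) * (v + 4) + (v + 4) + 1)) ^ 2 := by
  have h : (((v + 4) ^ 4 - 1) * ((v + 4) * (v + 4) + (v + 4) + 1)) ^ 2 -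
      288 * ((v + 4) * (v + 4) - (v + 4) + 1) ^ 3 = v ^ 12 + 50 * v ^ 11 + 1147 * v ^ 10 + 15962 * v ^ 9 + 150071 * v ^ 8 + 1004124 * v ^ 7 + 4902058 * v ^ 6 + 17588364 * v ^ 5 + 46010319 * v ^ 4 + 85527378 * v ^ 3 + 107146107 * v ^ 2 + 81134298 * v + 28043289 := by
    ring
  have h1 : 0 ≤ v ^ 12 + 50 * v ^ 11 + 1147 * v ^ 10 + 15962 * v ^ 9 + 150071 * v ^ 8 + 1004124 * v ^ 7 + 4902058 * v ^ 6 + 17588364 * v ^ 5 + 46010319 * v ^ 4 + 85527378 * v ^ 3 + 107146107 * v ^ 2 + 81134298 * v + 28043289 := by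
    (clear * - hv; positivity)
  linarith

theorem ineq_four (v : ℤ) (hv : 0 ≤ v) :
    16 * ((v + 2) ^ 4 + 1) ^ 3 ≤ (((v + 2) ^ 6 - 1) * ((v + 2) ^ 2 + 1)) ^ 2 := by
  have h : (((v + 2) ^ 6 - 1) * ((v + 2) ^ 2 + 1)) ^ 2 - 16 * ((v + 2) ^ 4 + 1) ^ 3 = v ^ 16 + 32 * v ^ 15 + 482 * v ^ 14 + 4536 * v ^ 13 + 29833 * v ^ 12 + 145240 * v ^ 11 + 540582 * v ^ 10 + 1566008 * v ^ 9 + 3559892 * v ^ 8 + 6352960 * v ^ 7 + 8838142 * v ^ 6 + 9435624 * v ^ 5 + 7518681 * v ^ 4 + 4264264 * v ^ 3 + 1579962 * v ^ 2 + 319656 * v + 20617 := by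
    ring
  have h1 : 0 ≤ v ^ 16 + 32 * v ^ 15 + 482 * v ^ 14 + 4536 * v ^ 13 + 29833 * v ^ 12 + 145240 * v ^ 11 + 540582 * v ^ 10 + 1566008 * v ^ 9 + 3559892 * v ^ 8 + 6352960 * v ^ 7 + 8838142 * v ^ 6 + 9435624 * v ^ 5 + 7518681 * v ^ 4 + 4264264 * v ^ 3 + 1579962 * v ^ 2 + 319656 * v + 20617 := by
    (clear * - hv; positivity)
  linarith

theorem ineq_five (v : ℤ) (hv : 0 ≤ v) :
    36 * ((v + 2) ^ 5 + 1) ^ 3 ≤ (((v + 2) ^ 8 - 1) * ((v + 2) * (v + 2) + (v + 2) + 1)) ^ 2 := by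
  have h : (((v + 2) ^ 8 - 1) * ((v + 2) * (v + 2) + (v + 2) + 1)) ^ 2 - 36 * ((v + 2) ^ 5 + 1) ^ 3 = v ^ 20 + 42 * v ^ 19 + 839 * v ^ 18 + 10598 * v ^ 17 + 94929 * v ^ 16 + 640828 * v ^ 15 + 3381992 * v ^ 14 + 14283504 * v ^ 13 + 49006046 * v ^ 12 + 137851532 * v ^ 11 + 319422374 * v ^ 10 + 610225380 * v ^ 9 + 958475534 * v ^ 8 + 1229548960 * v ^ 7 + 1273765728 * v ^ 6 + 1047314324 * v ^ 5 + 665780489 * v ^ 4 + 314249514 * v ^ 3 + 103036519 * v ^ 2 + 20732550 * v + 1892493 := by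
    ring
  have h1 : 0 ≤ v ^ 20 + 42 * v ^ 19 + 839 * v ^ 18 + 10598 * v ^ 17 + 94929 * v ^ 16 + 640828 * v ^ 15 + 3381992 * v ^ 14 + 14283504 * v ^ 13 + 49006046 * v ^ 12 + 137851532 * v ^ 11 + 319422374 * v ^ 10 + 610225380 * v ^ 9 + 958475534 * v ^ 8 + 1229548960 * v ^ 7 + 1273765728 * v ^ 6 + 1047314324 * v ^ 5 + 665780489 * v ^ 4 + 314249514 * v ^ 3 + 103036519 * v ^ 2 + 20732550 * v + 1892493 := by
    (clear * - hv; positivity)
  linarith

theorem ineq_six (u z : ℤ) (hu : 2 ≤ u) (hz : u ^ 5 ≤ z) : 2 * (u - 1) * (u * z + 1) ^ 3 ≤ (z * z - 1) ^ 2 := by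
  have h32 : (2 : ℤ) ^ 5 ≤ u ^ 5 := pow_le_pow_left₀ (by norm_num) hu 5
  have hz32 : 32 ≤ z := by
    have : (2 : ℤ) ^ 5 = 32 := by norm_num
    linarith
  have ht : 64 ≤ u * z := by nlinarith only [hu, hz, h32]
  have hzz : 1024 ≤ z * z := by nlinarith only [hz, h32]
  have h1 : 64 ^ 3 * (u * z + 1) ^ 3 ≤ 65 ^ 3 * (u * z) ^ 3 := by
    have h : (64 * (u * z + 1)) ^ 3 ≤ (65 * (u * z)) ^ 3 := pow_le_pow_left₀ (by linarith) (by linarith) 3
    rwa [mul_pow, mul_pow] at h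
  have h2 : 1023 ^ 2 * (z * z) ^ 2 ≤ 1024 ^ 2 * (z * z - 1) ^ 2 := by
    have h : (1023 * (z * z)) ^ 2 ≤ (1024 * (z * z - 1)) ^ 2 := pow_le_pow_left₀ (by linarith) (by linarith) 2
    calc 1023 ^ 2 * (z * z) ^ 2 = (1023 * (z * z)) ^ 2 := by ring
      _ ≤ (1024 * (z * z - 1)) ^ 2 := h
      _ = _ := by ring
  have h4 : 2 * (u - 1) * 65 ^ 3 * 1024 ^ 2 ≤ 1023 ^ 2 * 64 ^ 3 * u ^ 2 := by nlinarith only [sq_nonneg (u - 1)]
  have hu3 : 0 ≤ u ^ 3 := by positivity
  have h3 : 2 * (u - 1) * 65 ^ 3 * 1024 ^ 2 * u ^ 3 ≤ 1023 ^ 2 * 64 ^ 3 * z := by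
    calc 2 * (u - 1) * 65 ^ 3 * 1024 ^ 2 * u ^ 3 ≤ 1023 ^ 2 * 64 ^ 3 * u ^ 2 * u ^ 3 := mul_le_mul_of_nonneg_right h4 hu3
      _ = 1023 ^ 2 * 64 ^ 3 * u ^ 5 := by ring
      _ ≤ 1023 ^ 2 * 64 ^ 3 * z := mul_le_mul_of_nonneg_left hz (by norm_num)
  have hz3 : 0 ≤ z ^ 3 := by positivity
  have h5 : 64 ^ 3 * 1024 ^ 2 * (2 * (u - 1) * (u * z + 1) ^ 3) ≤ 64 ^ 3 * 1024 ^ 2 * (z * z - 1) ^ 2 := by
    calc 64 ^ 3 * 1024 ^ 2 * (2 * (u - 1) * (u * z + 1) ^ 3)
        = 1024 ^ 2 * (2 * (u - 1)) * (64 ^ 3 * (u * z + 1) ^ 3) := by ring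
      _ ≤ 1024 ^ 2 * (2 * (u - 1)) * (65 ^ 3 * (u * z) ^ 3) :=
          mul_le_mul_of_nonneg_left h1 (mul_nonneg (by norm_num) (by linarith))
      _ = (2 * (u - 1) * 65 ^ 3 * 1024 ^ 2 * u ^ 3) * z ^ 3 := by ring
      _ ≤ (1023 ^ 2 * 64 ^ 3 * z) * z ^ 3 := mul_le_mul_of_nonneg_right h3 hz3
      _ = 64 ^ 3 * (1023 ^ 2 * (z * z) ^ 2) := by ring
      _ ≤ 64 ^ 3 * (1024 ^ 2 * (z * z - 1) ^ 2) := mul_le_mul_of_nonneg_left h2 (by norm_num)
      _ = _ := by ring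
  exact le_of_mul_le_mul_left h5 (by norm_num)

/-- natural number versions -/
theorem num_three_a {u R N A B : ℕ} (hu : 4 ≤ u) (hA : A + 1 = u ^ 4) (hB : B + u = u * u + 1)
    (hR : R ≤ u * u + u + 1) (hN : N ^ 2 < 2 * R ^ 3) (h : A * B ≤ 12 * N) : False := by
  obtain ⟨v, rfl⟩ : ∃ v, u = v + 4 := ⟨u - 4, by omega⟩
  have key := ineq_a (v : ℤ) (by positivity)
  have hA' : ((v : ℤ) + 4) ^ 4 - 1 = A := by
    have : ((A : ℤ) + 1) = ((v : ℤ) + 4) ^ 4 := by exact_mod_cast hA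
    linarith only [hA]
  have hB' : ((v : ℤ) + 4) * (v + 4) - (v + 4) + 1 = B := by
    have : ((B : ℤ) + (v + 4)) = ((v : ℤ) + 4) * (v + 4) + 1 := by exact_mod_cast hB
    linarith only [hB]
  rw [hA', hB'] at key
  have key' : 288 * ((v + 4) * (v + 4) + (v + 4) + 1) ^ 3 ≤ (A * B) ^ 2 := by exact_mod_cast key
  have h3 : R ^ 3 ≤ ((v + 4) * (v + 4) + (v + 4) + 1) ^ 3 := Nat.pow_le_pow_left hR 3
  have h4 : (A * B) ^ 2 ≤ (12 * N) ^ 2 := Nat.pow_le_pow_left h 2
  have h5 : (12 * N) ^ 2 = 144 * N ^ 2 := by ring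
  omega

theorem num_three_b {u R N A B : ℕ} (hu : 4 ≤ u) (hA : A + 1 = u ^ 4) (hB : B = u * u + u + 1)
    (hR : R + u ≤ u * u + 1) (hN : N ^ 2 < 2 * R ^ 3) (h : A * B ≤ 12 * N) : False := by
  obtain ⟨v, rfl⟩ : ∃ v, u = v + 4 := ⟨u - 4, by omega⟩
  have key := ineq_b (v : ℤ) (by positivity)
  have hA' : ((v : ℤ) + 4) ^ 4 - 1 = A := by
    have : ((A : ℤ) + 1) = ((v : ℤ) + 4) ^ 4 := by exact_mod_cast hA
    linarith only [hA]
  obtain ⟨C, hC⟩ : ∃ C : ℕ, C + (v + 4) = (v + 4) * (v + 4) + 1 := ⟨(v + 4) * (v + 4) + 1 - (v + 4), by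
    have : v + 4 ≤ (v + 4) * (v + 4) + 1 := by linarith only [hR]
    omega⟩
  have hC' : ((v : ℤ) + 4) * (v + 4) - (v + 4) + 1 = C := by
    have : ((C : ℤ) + (v + 4)) = ((v : ℤ) + 4) * (v + 4) + 1 := by exact_mod_cast hC
    linarith only [hC]
  have hB' : ((v : ℤ) + 4) * (v + 4) + (v + 4) + 1 = B := by
    have : (B : ℤ) = ((v : ℤ) + 4) * (v + 4) + (v + 4) + 1 := by exact_mod_cast hB
    linarith only [hB]
  rw [hA', hC', hB'] at key
  have key' : 288 * C ^ 3 ≤ (A * B) ^ 2 := by exact_mod_cast key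
  have h3 : R ^ 3 ≤ C ^ 3 := Nat.pow_le_pow_left (by omega) 3
  have h4 : (A * B) ^ 2 ≤ (12 * N) ^ 2 := Nat.pow_le_pow_left h 2
  have h5 : (12 * N) ^ 2 = 144 * N ^ 2 := by ring
  omega

theorem num_four {u R N A c : ℕ} (hu : 2 ≤ u) (hc0 : 0 < c) (hc : c ≤ 2) (hA : A + 1 = u ^ 6)
    (hR : c * R ≤ u ^ 4 + 1) (hN : N ^ 2 < 2 * R ^ 3) (h : c ^ 3 * N = A * (u ^ 2 + 1)) : False := by
  obtain ⟨v, rfl⟩ : ∃ v, u = v + 2 := ⟨u - 2, by omega⟩
  have key := ineq_four (v : ℤ) (by positivity)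
  have hA' : ((v : ℤ) + 2) ^ 6 - 1 = A := by
    have : ((A : ℤ) + 1) = ((v : ℤ) + 2) ^ 6 := by exact_mod_cast hA
    linarith only [hA]
  rw [hA'] at key
  have key' : 16 * ((v + 2) ^ 4 + 1) ^ 3 ≤ (A * ((v + 2) ^ 2 + 1)) ^ 2 := by exact_mod_cast key
  have h3 : (c * R) ^ 3 ≤ ((v + 2) ^ 4 + 1) ^ 3 := Nat.pow_le_pow_left hR 3
  rw [← h] at key'
  have hc6 : 0 < c ^ 6 := by positivity
  have h4 : c ^ 6 * N ^ 2 < c ^ 6 * (2 * R ^ 3) := Nat.mul_lt_mul_of_pos_left hN hc6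
  have h5 : (c ^ 3 * N) ^ 2 = c ^ 6 * N ^ 2 := by ring
  have h6 : c ^ 6 * (2 * R ^ 3) = 2 * c ^ 3 * (c * R) ^ 3 := by ring
  have h7 : c ^ 3 ≤ 8 := by
    calc c ^ 3 ≤ 2 ^ 3 := Nat.pow_le_pow_left hc 3
      _ = 8 := by norm_num
  have h8 : 2 * c ^ 3 * (c * R) ^ 3 ≤ 16 * ((v + 2) ^ 4 + 1) ^ 3 := Nat.mul_le_mul (by omega) h3
  omega

theorem num_five {u R N A c : ℕ} (hu : 2 ≤ u) (hc0 : 0 < c) (hc : c ≤ 2) (hA : A + 1 = u ^ 8)
    (hR : c * R ≤ u ^ 5 + 1) (hN : N ^ 2 < 2 * R ^ 3) (h : A * (u * u + u + 1) ≤ 3 * (c ^ 2 * N)) : False := by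
  obtain ⟨v, rfl⟩ : ∃ v, u = v + 2 := ⟨u - 2, by omega⟩
  have key := ineq_five (v : ℤ) (by (clear * -; positivity))
  have hA' : ((v : ℤ) + 2) ^ 8 - 1 = A := by
    have : ((A : ℤ) + 1) = ((v : ℤ) + 2) ^ 8 := by exact_mod_cast hA
    linarith only [hA]
  rw [hA'] at key
  have key' : 36 * ((v + 2) ^ 5 + 1) ^ 3 ≤ (A * ((v + 2) * (v + 2) + (v + 2) + 1)) ^ 2 := by exact_mod_cast key
  have h3 : (c * R) ^ 3 ≤ ((v + 2) ^ 5 + 1) ^ 3 := Nat.pow_le_pow_left hR 3
  have h4 : (A * ((v + 2) * (v + 2) + (v + 2) + 1)) ^ 2 ≤ (3 * (c ^ 2 * N)) ^ 2 := Nat.pow_le_pow_left h 2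
  have hc4 : 0 < c ^ 4 := by positivity
  have h5 : (3 * (c ^ 2 * N)) ^ 2 = 9 * (c ^ 4 * N ^ 2) := by ring
  have h6 : c ^ 4 * N ^ 2 < c ^ 4 * (2 * R ^ 3) := Nat.mul_lt_mul_of_pos_left hN hc4
  have h7 : c ^ 4 * (2 * R ^ 3) = 2 * c * (c * R) ^ 3 := by ring
  have h8 : 2 * c * (c * R) ^ 3 ≤ 4 * ((v + 2) ^ 5 + 1) ^ 3 := Nat.mul_le_mul (by omega) h3
  omega

theorem num_six {u R N z A c : ℕ} (hu : 2 ≤ u) (hz : u ^ 5 ≤ z) (hc0 : 0 < c) (hc : c ≤ u - 1) (hA : A + 1 = z * z)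
    (hR : c * R ≤ u * z + 1) (hN : N ^ 2 < 2 * R ^ 3) (h : c ^ 2 * N = A) : False := by
  have key := ineq_six (u : ℤ) (z : ℤ) (by exact_mod_cast hu) (by exact_mod_cast hz)
  have hA' : (z : ℤ) * z - 1 = A := by
    have : ((A : ℤ) + 1) = (z : ℤ) * z := by exact_mod_cast hA
    linarith only [hA]
  rw [hA'] at key
  obtain ⟨w, hw⟩ : ∃ w, u = w + 1 := ⟨u - 1, by omega⟩
  have hw' : (u : ℤ) - 1 = w := by rw [hw]; push_cast; ring
  rw [hw'] at key
  have key' : 2 * w * (u * z + 1) ^ 3 ≤ A ^ 2 := by exact_mod_cast key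
  have h3 : (c * R) ^ 3 ≤ (u * z + 1) ^ 3 := Nat.pow_le_pow_left hR 3
  rw [← h] at key'
  have hc4 : 0 < c ^ 4 := by positivity
  have h5 : (c ^ 2 * N) ^ 2 = c ^ 4 * N ^ 2 := by ring
  have h6 : c ^ 4 * N ^ 2 < c ^ 4 * (2 * R ^ 3) := Nat.mul_lt_mul_of_pos_left hN hc4
  have h7 : c ^ 4 * (2 * R ^ 3) = 2 * c * (c * R) ^ 3 := by ring
  have h8 : 2 * c * (c * R) ^ 3 ≤ 2 * w * (u * z + 1) ^ 3 := Nat.mul_le_mul (by omega) h3
  omega

end num

section kill

variable {p q : ℕ} {S : Type*} [Group S] [Finite S] (hP : Par p q) (h : Hyp p q S) {u n : ℕ} (hu : 2 ≤ u)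
include hP h hu

/-- the product of the two tori of rank `k` -/
theorem lam_two {k : ℕ} (hk : 1 ≤ k) (hT : ∀ ε : ℤ, (ε = 1 ∨ ε = -1) → T2 S (ts u k ε))
    (hc : ∀ r : ℕ, r.Prime → r ∣ R q → ¬ r ∣ u ^ (2 * k) - 1) :
    Lam p q (hf u k 1 * hf u k (-1)) ∧ cc u ^ 2 * (hf u k 1 * hf u k (-1)) = u ^ (2 * k) - 1 := by
  have hcop : ∀ ε : ℤ, (ε = 1 ∨ ε = -1) → Nat.Coprime (R q) (ts u k ε) := fun ε hε =>
    Nat.coprime_of_dvd fun r hr h1 h2 => hc r hr h1 (h2.trans (ts_dvd hε))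
  have h1 : (1 : ℤ) = 1 ∨ (1 : ℤ) = -1 := Or.inl rfl
  have h2 : (-1 : ℤ) = 1 ∨ (-1 : ℤ) = -1 := Or.inr rfl
  refine ⟨(lam_hf hP h h1 hk hu (hT _ h1) (hcop _ h1)).mul (lam_hf hP h h2 hk hu (hT _ h2) (hcop _ h2))
    (hf_coprime hk hu), ?_⟩
  have e1 := hf_mul (u := u) (k := k) h1
  have e2 := hf_mul (u := u) (k := k) h2
  rw [← ts_mul u k h1, ← e1, show (-(1 : ℤ)) = -1 from rfl, ← e2]
  ring

omit [Group S] [Finite S] h in
/-- `R` times `cc` is at most `u ^ n + 1` -/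
theorem R_le {δ : ℤ} (hδ : δ = 1 ∨ δ = -1) (hn : 1 ≤ n) (hR : R q ∣ ts u n δ) : cc u * R q ≤ u ^ n + 1 := by
  have h1 : Nat.Coprime (cc u) (R q) := by
    unfold cc
    split_ifs
    · exact Nat.coprime_one_left _
    · exact Nat.coprime_two_left.2 (Nat.odd_iff.2 hP.R_odd)
  exact (Nat.le_of_dvd (ts_pos hu hn hδ) (h1.mul_dvd_of_dvd_of_dvd (cc_dvd hδ) hR)).trans (ts_le u n hδ)

/-- **Class A.** -/
theorem kill_A (hn : 3 ≤ n) {δ : ℤ} (hδ : δ = 1 ∨ δ = -1) (hR : R q ∣ ts u n δ)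
    (hc : ∀ r : ℕ, r.Prime → r ∣ R q → ∀ i, 1 ≤ i → i < n → ¬ r ∣ u ^ (2 * i) - 1)
    (hT : ∀ k, 1 ≤ k → k < n → ∀ ε : ℤ, (ε = 1 ∨ ε = -1) → T2 S (ts u k ε))
    (hT3 : n = 3 → T2 S (ts u 3 (-δ))) : False := by
  have hRb := hP.R_big
  have hodd := hP.R_odd
  have hcR := R_le hP hu hδ (by omega) hR
  have hcc0 := cc_pos u
  have hcc := cc_le u
  have hcop : ∀ k, 1 ≤ k → k < n → ∀ ε : ℤ, (ε = 1 ∨ ε = -1) → Nat.Coprime (R q) (ts u k ε) := fun k h1 h2 ε hε =>
    Nat.coprime_of_dvd fun r hr h3 h4 => hc r hr h3 k h1 h2 (h4.trans (ts_dvd hε))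
  have e1 : (1 : ℤ) = 1 ∨ (1 : ℤ) = -1 := Or.inl rfl
  have e2 : (-1 : ℤ) = 1 ∨ (-1 : ℤ) = -1 := Or.inr rfl
  have hpos : ∀ k, 1 ≤ k → 1 < u ^ k := fun k hk => Nat.one_lt_pow (by omega) (by omega)
  rcases (show n = 3 ∨ n = 4 ∨ n = 5 ∨ 6 ≤ n by omega) with rfl | rfl | rfl | hn6
  · -- `n = 3`
    obtain ⟨hab, habc⟩ := lam_two hP h hu (k := 2) (by norm_num) (hT 2 (by norm_num) (by norm_num))
      (fun r hr h1 => hc r hr h1 2 (by norm_num) (by norm_num))
    set ab := hf u 2 1 * hf u 2 (-1) with hab0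
    have h4ab : u ^ 4 - 1 ≤ 4 * ab := by
      rw [← habc]
      apply Nat.mul_le_mul_right
      calc cc u ^ 2 ≤ 2 ^ 2 := Nat.pow_le_pow_left hcc 2
        _ = 4 := by norm_num
    obtain ⟨A, hA⟩ : ∃ A, A + 1 = u ^ 4 := ⟨u ^ 4 - 1, by have := hpos 4 (by norm_num); omega⟩
    have hA4 : u ^ 4 - 1 = A := by omega
    have habd : ab ∣ u ^ 4 - 1 := by rw [← habc]; exact Dvd.intro_left _ rfl
    obtain ⟨Bm, hBm⟩ : ∃ B, B + u = u * u + 1 := ⟨u * u + 1 - u, by
      have : u ≤ u * u + 1 := by nlinarith only []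
      omega⟩
    set Bp := u * u + u + 1 with hBp
    -- the factorisations of `u ^ 3 ± 1`
    have hf1 : ts u 3 1 = (u - 1) * Bp := by
      rw [ts_one]
      obtain ⟨v, rfl⟩ : ∃ v, u = v + 1 := ⟨u - 1, by omega⟩
      rw [Nat.add_sub_cancel, hBp]
      have : (v + 1) ^ 3 = v * ((v + 1) * (v + 1) + (v + 1) + 1) + 1 := by ring
      rw [this, Nat.add_sub_cancel]
    have hf2 : ts u 3 (-1) = (u + 1) * Bm := by
      rw [ts_neg]
      have : (u + 1) * Bm + (u + 1) * u = (u + 1) * (u * u + 1) := by rw [← hBm]; ring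
      linarith only [this]
    have hB_odd : ∀ B, (B = Bp ∨ B = Bm) → Odd B := by
      have he : Even (u * (u + 1)) := Nat.even_mul_succ_self u
      rintro B (rfl | rfl)
      · rw [hBp, show u * u + u + 1 = u * (u + 1) + 1 by ring]
        exact he.add_one
      · obtain ⟨c, hc⟩ := he
        rw [Nat.odd_iff]
        have : u * (u + 1) = u * u + u := by ring
        omega
    -- the prime divisors of `u ^ 4 - 1` and of `B`
    have hgcd : ∀ B, (B = Bp ∨ B = Bm) → Nat.gcd ab B ∣ 3 := by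
      intro B hB
      have h1 : Nat.gcd ab B ∣ A := (Nat.gcd_dvd_left _ _).trans (by rw [← hA4]; exact habd)
      have h2 : Nat.gcd ab B ∣ B := Nat.gcd_dvd_right _ _
      have h1' : ((Nat.gcd ab B : ℕ) : ℤ) ∣ (A : ℤ) := by exact_mod_cast h1
      have h2' : ((Nat.gcd ab B : ℕ) : ℤ) ∣ (B : ℤ) := by exact_mod_cast h2
      have hAz : (A : ℤ) = (u : ℤ) ^ 4 - 1 := by
        have : ((A : ℤ) + 1) = (u : ℤ) ^ 4 := by exact_mod_cast hA
        linarith only [hA]
      have h3 : ((Nat.gcd ab B : ℕ) : ℤ) ∣ 3 := by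
        rcases hB with hB | hB
        · have hBz : (B : ℤ) = (u : ℤ) ^ 2 + u + 1 := by rw [hB, hBp]; push_cast; ring
          have : (3 : ℤ) = (B : ℤ) * (1 + ((u : ℤ) + 2) * (u ^ 2 - u)) - (A : ℤ) * (u + 2) := by
            rw [hAz, hBz]; ring
          rw [this]
          exact dvd_sub (h2'.mul_right _) (h1'.mul_right _)
        · have hBz : (B : ℤ) = (u : ℤ) ^ 2 - u + 1 := by
            have : ((Bm : ℤ) + u) = (u : ℤ) * u + 1 := by exact_mod_cast hBm
            rw [hB]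
            linarith only [hBm]
          have : (3 : ℤ) = (B : ℤ) * (1 - ((u : ℤ) - 2) * (u ^ 2 + u)) + (A : ℤ) * (u - 2) := by
            rw [hAz, hBz]; ring
          rw [this]
          exact dvd_add (h2'.mul_right _) (h1'.mul_right _)
      exact_mod_cast h3
    have hfin : ∀ B B', ((B = Bp ∧ B' = Bm) ∨ (B = Bm ∧ B' = Bp)) → R q ∣ B' → B ∣ ts u 3 (-δ) →
        Nat.Coprime (R q) B → False := by
      intro B B' hB hRB' hBt hcB
      have hlB : Lam p q B := by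
        refine h.lam hP ((hT3 rfl).odd (hB_odd B (hB.imp (fun h => h.1) (fun h => h.1))) hBt) (Or.inl hcB)
      have hL := hab.lcm hlB
      have hsz := hP.size hL
      have hg : Nat.gcd ab B ≤ 3 := Nat.le_of_dvd (by norm_num) (hgcd B (hB.imp (fun h => h.1) (fun h => h.1)))
      have hmul : ab * B ≤ 3 * Nat.lcm ab B := by
        rw [← Nat.gcd_mul_lcm ab B]
        exact Nat.mul_le_mul_right _ hg
      have hB'pos : 0 < B' := Nat.pos_of_ne_zero (by
        rintro rfl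
        rcases hB with ⟨-, h0⟩ | ⟨-, h0⟩
        · rw [← h0, zero_add] at hBm
          nlinarith only [hBm]
        · omega)
      have hRle := Nat.le_of_dvd hB'pos hRB'
      have h12 : A * B ≤ 12 * Nat.lcm ab B := by
        calc A * B ≤ 4 * ab * B := Nat.mul_le_mul_right _ (by rw [← hA4]; exact h4ab)
          _ = 4 * (ab * B) := by ring
          _ ≤ 4 * (3 * Nat.lcm ab B) := Nat.mul_le_mul_left _ hmul
          _ = _ := by ring
      rcases hB with ⟨rfl, rfl⟩ | ⟨rfl, rfl⟩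
      · have hu4 : 4 ≤ u := by
          by_contra hcon
          have : u ≤ 3 := by omega
          have : u * u ≤ 3 * 3 := Nat.mul_le_mul this this
          omega
        exact num_three_b hu4 hA rfl (by omega) hsz h12
      · have hu4 : 4 ≤ u := by
          by_contra hcon
          have h3 : u ≤ 3 := by omega
          have : u * u ≤ 3 * 3 := Nat.mul_le_mul h3 h3
          omega
        exact num_three_a hu4 hA hBm (by omega) hsz h12
    have hc1 : ∀ x, x ∣ u ^ 2 - 1 → Nat.Coprime (R q) x := fun x hx =>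
      Nat.coprime_of_dvd fun r hr h1 h2 => hc r hr h1 1 le_rfl (by norm_num) (h2.trans hx)
    have hu1 : u - 1 ∣ u ^ 2 - 1 := by
      have := pow_two_mul_sub u 1
      rw [pow_one, mul_one] at this
      rw [this]
      exact Dvd.intro _ rfl
    have hu1' : u + 1 ∣ u ^ 2 - 1 := by
      have := pow_two_mul_sub u 1
      rw [pow_one, mul_one] at this
      rw [this]
      exact Dvd.intro_left _ rfl
    -- `R` is prime to the other torus
    have hcopn : Nat.Coprime (R q) (ts u 3 (-δ)) := by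
      apply Nat.coprime_of_dvd
      intro r hr h1 h2
      have h3 := h1.trans hR
      have h4 : r ∣ 2 := by
        have h5 : ts u 3 1 + 2 = ts u 3 (-1) := by
          have := hpos 3 (by norm_num)
          rw [ts_one, ts_neg]
          omega
        rcases hδ with rfl | rfl
        · rw [← h5] at h2
          exact (Nat.dvd_add_right h3).1 h2
        · rw [neg_neg] at h2
          rw [← h5] at h3
          exact (Nat.dvd_add_right h2).1 h3
      rw [(Nat.prime_dvd_prime_iff_eq hr Nat.prime_two).1 h4] at h1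
      omega
    rcases hδ with rfl | rfl
    · rw [hf1] at hR
      refine hfin Bm Bp (Or.inr ⟨rfl, rfl⟩) ((hc1 _ hu1).dvd_of_dvd_mul_left hR) (by rw [hf2]; exact Dvd.intro_left _ rfl)
        (Nat.Coprime.coprime_dvd_right (by rw [hf2]; exact Dvd.intro_left _ rfl) hcopn)
    · rw [hf2] at hR
      rw [neg_neg] at hcopn
      refine hfin Bp Bm (Or.inl ⟨rfl, rfl⟩) ((hc1 _ hu1').dvd_of_dvd_mul_left hR)
        (by rw [neg_neg, hf1]; exact Dvd.intro_left _ rfl)
        (Nat.Coprime.coprime_dvd_right (by rw [hf1]; exact Dvd.intro_left _ rfl) hcopn)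
  · -- `n = 4`
    obtain ⟨hab, habc⟩ := lam_two hP h hu (k := 3) (by norm_num) (hT 3 (by norm_num) (by norm_num))
      (fun r hr h1 => hc r hr h1 3 (by norm_num) (by norm_num))
    have hE := lam_hf hP h e2 (k := 2) (by norm_num) hu (hT 2 (by norm_num) (by norm_num) _ e2)
      (hcop 2 (by norm_num) (by norm_num) _ e2)
    have hEc := hf_mul (u := u) (k := 2) e2
    rw [ts_neg] at hEc
    have hEodd : Odd (hf u 2 (-1)) := by
      by_cases he : Even u
      · exact (hf_odd_of_even (by norm_num) e2 hu he).1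
      · have h4 : cc u = 2 := if_neg he
        rw [h4] at hEc
        obtain ⟨k, hk⟩ := (Nat.not_even_iff_odd.1 he)
        have : u ^ 2 = 4 * (k * k + k) + 1 := by rw [hk]; ring
        rw [Nat.odd_iff]
        omega
    have hcE : Nat.Coprime (hf u 3 1 * hf u 3 (-1)) (hf u 2 (-1)) := by
      apply Nat.coprime_of_dvd
      intro r hr h1 h2
      have h3 : r ∣ u ^ 6 - 1 := by
        have : u ^ (2 * 3) - 1 = u ^ 6 - 1 := rfl
        rw [← this, ← habc]
        exact h1.mul_left _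
      have h4 : r ∣ u ^ 2 + 1 := by
        rw [← hEc]
        exact h2.mul_left _
      have h5 : r ∣ 2 := by
        have h6 : r ∣ u ^ 6 + 1 := h4.trans ⟨u ^ 4 + 1 - u ^ 2, by
          have h7 : u ^ 2 ≤ u ^ 4 := Nat.pow_le_pow_right (by omega) (by norm_num)
          obtain ⟨d, hd⟩ := Nat.exists_eq_add_of_le h7
          have h8 : u ^ 4 + 1 - u ^ 2 = d + 1 := by omega
          rw [h8]
          have h9 : u ^ 6 = u ^ 2 * u ^ 4 := by ring
          have h10 : u ^ 4 = u ^ 2 * u ^ 2 := by ring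
          rw [h9, hd]
          have : u ^ 2 * u ^ 2 = u ^ 2 + d := by rw [← h10, hd]
          linarith only [hd]⟩
        have h7 : u ^ 6 + 1 = (u ^ 6 - 1) + 2 := by have := hpos 6 (by norm_num); omega
        rw [h7] at h6
        exact (Nat.dvd_add_right h3).1 h6
      rw [(Nat.prime_dvd_prime_iff_eq hr Nat.prime_two).1 h5] at h2
      rw [Nat.odd_iff] at hEodd
      omega
    have hsz := hP.size (hab.mul hE hcE)
    obtain ⟨A, hA⟩ : ∃ A, A + 1 = u ^ 6 := ⟨u ^ 6 - 1, by have := hpos 6 (by norm_num); omega⟩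
    refine num_four hu hcc0 hcc hA hcR hsz ?_
    have hA' : cc u ^ 2 * (hf u 3 1 * hf u 3 (-1)) = A := by
      rw [habc]
      have : u ^ (2 * 3) - 1 = u ^ 6 - 1 := rfl
      omega
    rw [← hA', ← hEc]
    ring
  · -- `n = 5`
    obtain ⟨hab, habc⟩ := lam_two hP h hu (k := 4) (by norm_num) (hT 4 (by norm_num) (by norm_num))
      (fun r hr h1 => hc r hr h1 4 (by norm_num) (by norm_num))
    set ab := hf u 4 1 * hf u 4 (-1) with hab0
    obtain ⟨A, hA⟩ : ∃ A, A + 1 = u ^ 8 := ⟨u ^ 8 - 1, by have := hpos 8 (by norm_num); omega⟩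
    have hA' : cc u ^ 2 * ab = A := by
      rw [habc]
      have : u ^ (2 * 4) - 1 = u ^ 8 - 1 := rfl
      omega
    set B := u * u + u + 1 with hB
    have hBt : B ∣ ts u 3 1 := by
      rw [ts_one]
      obtain ⟨v, rfl⟩ : ∃ v, u = v + 1 := ⟨u - 1, by omega⟩
      rw [hB]
      have : (v + 1) ^ 3 = v * ((v + 1) * (v + 1) + (v + 1) + 1) + 1 := by ring
      rw [this, Nat.add_sub_cancel]
      exact Dvd.intro_left _ rfl
    have hBodd : Odd B := by
      rw [hB, show u * u + u + 1 = u * (u + 1) + 1 by ring]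
      exact (Nat.even_mul_succ_self u).add_one
    have hlB : Lam p q B := by
      refine h.lam hP ((hT 3 (by norm_num) (by norm_num) _ e1).odd hBodd hBt) (Or.inl ?_)
      exact Nat.Coprime.coprime_dvd_right hBt (hcop 3 (by norm_num) (by norm_num) _ e1)
    have hgcd : Nat.gcd ab B ∣ 3 := by
      have h1 : Nat.gcd ab B ∣ A := (Nat.gcd_dvd_left _ _).trans (by rw [← hA']; exact Dvd.intro_left _ rfl)
      have h2 : Nat.gcd ab B ∣ B := Nat.gcd_dvd_right _ _
      have h1' : ((Nat.gcd ab B : ℕ) : ℤ) ∣ (A : ℤ) := by exact_mod_cast h1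
      have h2' : ((Nat.gcd ab B : ℕ) : ℤ) ∣ (B : ℤ) := by exact_mod_cast h2
      have hAz : (A : ℤ) = (u : ℤ) ^ 8 - 1 := by
        have : ((A : ℤ) + 1) = (u : ℤ) ^ 8 := by exact_mod_cast hA
        linarith only [hA]
      have hBz : (B : ℤ) = (u : ℤ) ^ 2 + u + 1 := by rw [hB]; push_cast; ring
      have h3 : ((Nat.gcd ab B : ℕ) : ℤ) ∣ 3 := by
        have : (3 : ℤ) = (B : ℤ) * (1 - ((u : ℤ) - 1) * (u ^ 2 * (u - 1) * (u ^ 3 + 1) + 1)) + (A : ℤ) * (u - 1) := by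
          rw [hAz, hBz]; ring
        rw [this]
        exact dvd_add (h2'.mul_right _) (h1'.mul_right _)
      exact_mod_cast h3
    have hL := hab.lcm hlB
    have hsz := hP.size hL
    have hg : Nat.gcd ab B ≤ 3 := Nat.le_of_dvd (by norm_num) hgcd
    have hmul : ab * B ≤ 3 * Nat.lcm ab B := by
      rw [← Nat.gcd_mul_lcm ab B]
      exact Nat.mul_le_mul_right _ hg
    refine num_five hu hcc0 hcc hA hcR hsz ?_
    rw [← hB, ← hA']
    calc cc u ^ 2 * ab * B = cc u ^ 2 * (ab * B) := by ring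
      _ ≤ cc u ^ 2 * (3 * Nat.lcm ab B) := Nat.mul_le_mul_left _ hmul
      _ = _ := by ring
  · -- `n ≥ 6`
    obtain ⟨hab, habc⟩ := lam_two hP h hu (k := n - 1) (by omega) (hT (n - 1) (by omega) (by omega))
      (fun r hr h1 => hc r hr h1 (n - 1) (by omega) (by omega))
    have hsz := hP.size hab
    have hz : u ^ 5 ≤ u ^ (n - 1) := Nat.pow_le_pow_right (by omega) (by omega)
    have h2 : u ^ (2 * (n - 1)) = u ^ (n - 1) * u ^ (n - 1) := by rw [two_mul, pow_add]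
    have h3 : u ^ n = u * u ^ (n - 1) := by
      rw [← pow_succ']
      congr 1
      omega
    rw [h3] at hcR
    rw [h2] at habc
    obtain ⟨A, hA⟩ : ∃ A, A + 1 = u ^ (n - 1) * u ^ (n - 1) := ⟨u ^ (n - 1) * u ^ (n - 1) - 1, by
      have := hpos (n - 1) (by omega)
      have : 1 ≤ u ^ (n - 1) * u ^ (n - 1) := Nat.mul_pos (by omega) (by omega)
      omega⟩
    exact num_six hu hz hcc0 (cc_le' hu) hA hcR hsz (by omega)

omit hu in
/-- the torus contains a prime divisor of `R`: it divides `2 R` -/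
theorem T2.dvd_R {M r : ℕ} (hT : T2 S M) (hr : r.Prime) (hrR : r ∣ R q) (hrM : r ∣ M) : M ∣ 2 * R q := by
  obtain ⟨g, hg⟩ := hT
  have hr2 : r ≠ 2 := by
    rintro rfl
    have := hP.R_odd
    omega
  have h1 : r ∣ orderOf g := by
    have h2 : r.Coprime 2 := (Nat.coprime_primes hr Nat.prime_two).2 hr2
    exact h2.dvd_of_dvd_mul_left (hrM.trans hg)
  exact hg.trans (Nat.mul_dvd_mul_left 2 (hP.om_coprime (h.om g) ⟨r, hr, hrR, h1⟩))

/-- **Types `B_n`, `C_n`.** -/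
theorem kill_BC (hn : 3 ≤ n) {b : ℕ} (hcard : R q ∣ (u ^ (2 * n) - 1) * b)
    (hb : ∀ r : ℕ, r.Prime → r ∣ R q → ¬ r ∣ b)
    (hc : ∀ r : ℕ, r.Prime → r ∣ R q → ∀ i, 1 ≤ i → i < n → ¬ r ∣ u ^ (2 * i) - 1)
    (hT : ∀ k, 1 ≤ k → k ≤ n → ∀ ε : ℤ, (ε = 1 ∨ ε = -1) → T2 S (ts u k ε))
    (hmeo : ∀ g : S, (u - 1) * orderOf g ≤ u ^ (n + 1)) : False := by
  have e1 : (1 : ℤ) = 1 ∨ (1 : ℤ) = -1 := Or.inl rfl
  have e2 : (-1 : ℤ) = 1 ∨ (-1 : ℤ) = -1 := Or.inr rfl
  have hR2 : R q ∣ ts u n 1 * ts u n (-1) := by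
    rw [ts_mul u n e1]
    exact dvd_of_coprime hcard hb
  have hodd := hP.R_odd
  have hfin : ∀ δ : ℤ, (δ = 1 ∨ δ = -1) → R q ∣ ts u n δ → False := fun δ hδ hR =>
    kill_A hP h hu hn hδ hR hc (fun k h1 h2 => hT k h1 h2.le) (fun h3 => by
      subst h3
      refine hT 3 (by norm_num) le_rfl (-δ) ?_
      rcases hδ with rfl | rfl
      · exact e2
      · exact e1)
  by_cases h1 : ∀ r : ℕ, r.Prime → r ∣ R q → ¬ r ∣ ts u n 1
  · exact hfin _ e2 (dvd_of_coprime (by rw [mul_comm]; exact hR2) h1)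
  by_cases h2 : ∀ r : ℕ, r.Prime → r ∣ R q → ¬ r ∣ ts u n (-1)
  · exact hfin _ e1 (dvd_of_coprime hR2 h2)
  push Not at h1 h2
  obtain ⟨r, hr, hrR, hr1⟩ := h1
  obtain ⟨s, hs, hsR, hs1⟩ := h2
  have d1 := T2.dvd_R hP h (hT n (by omega) le_rfl _ e1) hr hrR hr1
  have d2 := T2.dvd_R hP h (hT n (by omega) le_rfl _ e2) hs hsR hs1
  by_cases he : Even u
  · obtain ⟨o1, q1⟩ := hf_odd_of_even (k := n) (by omega) e1 hu he
    obtain ⟨o2, q2⟩ := hf_odd_of_even (k := n) (by omega) e2 hu he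
    have hcop := hf_coprime (u := u) (k := n) (by omega) hu
    rw [q1] at o1
    rw [q2] at o2
    rw [q1, q2] at hcop
    have d1' := (Nat.coprime_two_right.2 o1).dvd_of_dvd_mul_left d1
    have d2' := (Nat.coprime_two_right.2 o2).dvd_of_dvd_mul_left d2
    have hle := Nat.le_of_dvd (by omega) (hcop.mul_dvd_of_dvd_of_dvd d1' d2')
    rw [ts_mul u n e1] at hle
    obtain ⟨x, hx⟩ := h.ex
    have h3 := hmeo x
    rw [hx] at h3
    have h4 : R q ≤ (u - 1) * R q := Nat.le_mul_of_pos_left _ (by omega)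
    have h5 : u ^ (2 * n) = u ^ (n - 1) * u ^ (n + 1) := by
      rw [← pow_add]
      congr 1
      omega
    have h6 : 2 * u ^ (n + 1) ≤ u ^ (n - 1) * u ^ (n + 1) := by
      apply Nat.mul_le_mul_right
      calc 2 ≤ u := hu
        _ = u ^ 1 := (pow_one u).symm
        _ ≤ u ^ (n - 1) := Nat.pow_le_pow_right (by omega) (by omega)
    have h7 : 1 < u ^ (n + 1) := Nat.one_lt_pow (by omega) (by omega)
    omega
  · have ho : Odd (u ^ n) := (Nat.not_even_iff_odd.1 he).pow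
    obtain ⟨k, hk⟩ := ho
    rw [ts_one, hk] at d1
    rw [ts_neg, hk] at d2
    have h3 : 2 * k + 1 - 1 = 2 * k := by omega
    have h4 : 2 * k + 1 + 1 = 2 * (k + 1) := by ring
    rw [h3, Nat.mul_dvd_mul_iff_left (by norm_num)] at d1
    rw [h4, Nat.mul_dvd_mul_iff_left (by norm_num)] at d2
    rcases Nat.even_or_odd k with hk2 | hk2
    · have := hk2.two_dvd.trans d1
      omega
    · have := (hk2.add_one).two_dvd.trans d2
      omega

end kill

end Cfsg.Agent.H424.P4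
end

-- part: H424/P4Orth
section
prune_inst 0x400203004000000000000001040001c0680000000002b8001692003000200cb000000072008200002904602001000004000000030000000000000000000000020802812041041a104a40001801004000000000000000000000000000000000000000000000
set_option linter.all false
open scoped Cfsg.Agent.FastGrp

-- part: H424/P4Sp
section
/-!
# S3591, rows `PSp_{2n}(u)`, `n ≥ 3`, and `Ω_{2n+1}(u)`, `n ≥ 3`, `u` odd (helper424)
-/

set_option autoImplicit false

namespace Cfsg.Agent.H424.P4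

open Cfsg.Agent.H379.P4 Cfsg.Agent.H377

/-- the tori of `PSp` -/
theorem psp_T2 {F : Type*} [Field F] [Finite F] {n k : ℕ} (hk : 1 ≤ k) (hkn : k ≤ n) {ε : ℤ} (hε : ε = 1 ∨ ε = -1) :
    T2 (Cfsg.PSp n F) (ts (Nat.card F) k ε) := by
  obtain ⟨A, hA⟩ : ∃ A : Matrix.symplecticGroup (Fin k) F, orderOf A = ts (Nat.card F) k ε := by
    rcases hε with rfl | rfl
    · rw [ts_one]
      exact Cfsg.Agent.H376.SpEmb.exists_minus F k (by omega)
    · rw [ts_neg]
      exact Cfsg.Agent.H376.SpEmb.exists_plus F k (by omega)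
  obtain ⟨C, hC⟩ := Cfsg.Agent.H376.SpEmb.exists_block (n := n) (a := k) (b := 0) (by omega) A hA
    (1 : Matrix.symplecticGroup (Fin 0) F) orderOf_one
  rw [Nat.lcm_one_right] at hC
  refine ⟨(QuotientGroup.mk C : Cfsg.PSp n F), ?_⟩
  rw [← hC]
  apply orderOf_dvd_of_pow_eq_one
  have h1 : (C ^ orderOf (QuotientGroup.mk C : Cfsg.PSp n F)) ∈ Subgroup.center (Matrix.symplecticGroup (Fin n) F) := by
    rw [← QuotientGroup.eq_one_iff, QuotientGroup.mk_pow]
    exact pow_orderOf_eq_one _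
  have h2 := Cfsg.Agent.H376.SpEmb.center_pow _ h1
  rw [mul_comm, pow_mul]
  exact h2

/-- the product of the order -/
theorem card_split {u n : ℕ} (hn : 1 ≤ n) : u ^ (n ^ 2) * ∏ i ∈ Finset.range n, (u ^ (2 * (i + 1)) - 1) =
    (u ^ (2 * n) - 1) * (u ^ (n ^ 2) * ∏ i ∈ Finset.range (n - 1), (u ^ (2 * (i + 1)) - 1)) := by
  obtain ⟨m, rfl⟩ : ∃ m, n = m + 1 := ⟨n - 1, by omega⟩
  rw [Nat.add_sub_cancel, Finset.prod_range_succ]
  ring

theorem not_dvd_split {u n r : ℕ} (hr : r.Prime) (h1 : ¬ r ∣ u) (h2 : ∀ i, 1 ≤ i → i < n → ¬ r ∣ u ^ (2 * i) - 1) :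
    ¬ r ∣ u ^ (n ^ 2) * ∏ i ∈ Finset.range (n - 1), (u ^ (2 * (i + 1)) - 1) := by
  intro h
  rcases hr.dvd_mul.1 h with h | h
  · exact h1 (hr.dvd_of_dvd_pow h)
  · obtain ⟨i, hi, h3⟩ := (Prime.dvd_finsetProd_iff hr.prime _).1 h
    have hi' := Finset.mem_range.1 hi
    exact h2 (i + 1) (by omega) (by omega) h3

/-- **Row `PSp_{2n}(u)`, `n ≥ 3`.** -/
theorem psp {p q n : ℕ} (hP : Par p q) (hn : 3 ≤ n) {F : Type*} [Field F] [Fintype F]
    (h : Hyp p q (Cfsg.PSp n F)) : False := by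
  classical
  have hfin : Finite (Matrix.symplecticGroup (Fin n) F) :=
    Finite.of_injective (fun A => (A : Matrix (Fin n ⊕ Fin n) (Fin n ⊕ Fin n) F)) Subtype.val_injective
  have hfin' : Finite (Cfsg.PSp n F) := inferInstanceAs
    (Finite (Matrix.symplecticGroup (Fin n) F ⧸ Subgroup.center (Matrix.symplecticGroup (Fin n) F)))
  have hu : 2 ≤ Nat.card F := Finite.one_lt_card
  have hinfo : ∀ r : ℕ, r.Prime → r ∣ R q → ¬ r ∣ Nat.card F ∧ ∀ i, 1 ≤ i → i < n →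
      ¬ r ∣ Nat.card F ^ (2 * i) - 1 := by
    intro r hr hrR
    have hr2 : r ≠ 2 := by
      rintro rfl
      exact hP.two hrR
    have hna : ¬ Cfsg.Agent.H94.PG.Adj (Cfsg.PSp n F) r 2 := by
      intro hadj
      obtain ⟨g, hg⟩ := Cfsg.Agent.H72.AdjSp.orderOf_of_adj hadj
      exact h.not_two hP hr hrR ⟨g, by rw [hg, mul_comm]⟩
    exact ⟨fun hd => hna (psp_adj_two_of_char (by omega) hr hr2 hd),
      (psp_info (by omega) hr hr2 (hrR.trans h.dvd_card) hna).2⟩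
  have hcard : R q ∣ (Nat.card F ^ (2 * n) - 1) * (Nat.card F ^ (n ^ 2) *
      ∏ i ∈ Finset.range (n - 1), (Nat.card F ^ (2 * (i + 1)) - 1)) := by
    rw [← card_split (by omega)]
    have h1 : Nat.card (Cfsg.PSp n F) ∣ Nat.card (Matrix.symplecticGroup (Fin n) F) :=
      Subgroup.card_quotient_dvd_card _
    rw [Cfsg.Agent.S0245.result (F := F) rfl n, ← Nat.card_eq_fintype_card] at h1
    exact h.dvd_card.trans h1
  refine kill_BC hP h hu hn hcard (fun r hr hrR => not_dvd_split hr (hinfo r hr hrR).1 (hinfo r hr hrR).2)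
    (fun r hr hrR => (hinfo r hr hrR).2) (fun k h1 h2 ε hε => psp_T2 h1 h2 hε) (fun g => ?_)
  rw [Nat.card_eq_fintype_card]
  exact Cfsg.Agent.S2264.result n (by omega) g

/-- isometries of order `u ^ k - ε` -/
theorem elt_ts {F : Type*} [Field F] [Finite F] {k N : ℕ} (hk : 1 ≤ k) {ε : ℤ} (hε : ε = 1 ∨ ε = -1)
    (h : N ∣ ts (Nat.card F) k ε) : Elt F k ε N := by
  rcases hε with rfl | rfl
  · rw [ts_one] at h
    exact elt_tor_plus hk h
  · rw [ts_neg] at h
    exact elt_tor_minus hk h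

/-- the tori of `Ω_{2n+1}` -/
theorem odd_T2 {F : Type*} [Field F] [Finite F] (ho : Odd (Nat.card F)) {n k : ℕ} (hn : 3 ≤ n) (hk : 1 ≤ k)
    (hkn : k ≤ n) {ε : ℤ} (hε : ε = 1 ∨ ε = -1) :
    T2 (Cfsg.POmega F (Cfsg.quadFormOdd n F)) (ts (Nat.card F) k ε) := by
  have h1 := (elt_ts (F := F) hk hε dvd_rfl).prod (elt_one (F := F) (n - k))
  rw [mul_one, Nat.lcm_one_right, Nat.add_sub_cancel' hkn] at h1
  obtain ⟨N, hN⟩ : ∃ N, ts (Nat.card F) k ε = 2 * N := by
    have h2 := cc_dvd (u := Nat.card F) (k := k) hε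
    have h3 : cc (Nat.card F) = 2 := if_neg (Nat.not_even_iff_odd.2 ho)
    rw [h3] at h2
    exact h2
  rw [hN] at h1 ⊢
  obtain ⟨g, hg⟩ := Cfsg.Agent.H377.OOdd.exists_even_tor ho hn h1
  exact ⟨g, by rw [hg]⟩

/-- **Row `Ω_{2n+1}(u)`, `n ≥ 3`, `u` odd.** -/
theorem oodd {p q n : ℕ} (hP : Par p q) (hn : 3 ≤ n) {F : Type*} [Field F] [Fintype F] (h2 : (2 : F) ≠ 0)
    (h : Hyp p q (Cfsg.POmega F (Cfsg.quadFormOdd n F))) : False := by
  classical
  have ho : Odd (Nat.card F) := by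
    rw [Nat.card_eq_fintype_card]
    obtain ⟨r, hr⟩ := CharP.exists F
    have : Fact r.Prime := ⟨CharP.char_is_prime F r⟩
    obtain ⟨f, -, hf⟩ := FiniteField.card F r
    rw [hf]
    apply Odd.pow
    apply (Fact.out : r.Prime).odd_of_ne_two
    rintro rfl
    exact h2 (by exact_mod_cast CharP.cast_eq_zero F 2)
  have hcf : 2 * Nat.card (Cfsg.POmega F (Cfsg.quadFormOdd n F)) = Nat.card F ^ (n ^ 2) *
      ∏ i ∈ Finset.range n, (Nat.card F ^ (2 * (i + 1)) - 1) := by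
    have h1 := Cfsg.Agent.S0292.result (F := F) rfl (by rwa [← Nat.card_eq_fintype_card]) n hn
    rwa [← Nat.card_eq_fintype_card] at h1
  have hu : 2 ≤ Nat.card F := Finite.one_lt_card
  have hfin : Finite (Cfsg.POmega F (Cfsg.quadFormOdd n F)) := by
    apply Nat.finite_of_card_ne_zero
    intro h0
    rw [h0, mul_zero] at hcf
    have h3 : 0 < Nat.card F ^ (n ^ 2) * ∏ i ∈ Finset.range n, (Nat.card F ^ (2 * (i + 1)) - 1) := by
      apply Nat.mul_pos (Nat.pow_pos (by omega))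
      apply Finset.prod_pos
      intro i _
      have := Nat.one_lt_pow (n := 2 * (i + 1)) (by omega) (show 1 < Nat.card F by omega)
      omega
    omega
  have hinfo : ∀ r : ℕ, r.Prime → r ∣ R q → ¬ r ∣ Nat.card F ∧ ∀ i, 1 ≤ i → i < n →
      ¬ r ∣ Nat.card F ^ (2 * i) - 1 := by
    intro r hr hrR
    have hr2 : r ≠ 2 := by
      rintro rfl
      exact hP.two hrR
    have hna : ¬ Cfsg.Agent.H94.PG.Adj (Cfsg.POmega F (Cfsg.quadFormOdd n F)) r 2 := by
      intro hadj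
      obtain ⟨g, hg⟩ := Cfsg.Agent.H72.AdjSp.orderOf_of_adj hadj
      exact h.not_two hP hr hrR ⟨g, by rw [hg, mul_comm]⟩
    exact ⟨fun hd => hna (Cfsg.Agent.H377.OOdd.adj_two_of_char ho hn hr hr2 hd),
      (Cfsg.Agent.H377.OOdd.info ho hn hr hr2 (hrR.trans h.dvd_card) hna).2⟩
  have hcard : R q ∣ (Nat.card F ^ (2 * n) - 1) * (Nat.card F ^ (n ^ 2) *
      ∏ i ∈ Finset.range (n - 1), (Nat.card F ^ (2 * (i + 1)) - 1)) := by
    rw [← card_split (by omega), ← hcf]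
    exact h.dvd_card.mul_left 2
  refine kill_BC hP h hu hn hcard (fun r hr hrR => not_dvd_split hr (hinfo r hr hrR).1 (hinfo r hr hrR).2)
    (fun r hr hrR => (hinfo r hr hrR).2) (fun k h1 h2 ε hε => odd_T2 ho hn h1 h2 hε) (fun g => ?_)
  rw [Nat.card_eq_fintype_card]
  exact (Cfsg.Agent.S2265.result (F := F) n).1 hn (by rwa [← Nat.card_eq_fintype_card]) g

end Cfsg.Agent.H424.P4
end

-- part: H424/P4Orth
section
/-!
# S3591, rows `PΩ^±_{2n}(u)`, `n ≥ 4` (helper424)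
-/

set_option autoImplicit false

namespace Cfsg.Agent.H424.P4

open Cfsg.Agent.H379.P4 Cfsg.Agent.H377 Cfsg.Agent.H72.AdjOrth Cfsg.Agent.H424.OrthElt

section arith

variable {u : ℕ}

theorem eta_le (hu : 1 ≤ u) {s j : ℕ} (hj : 1 ≤ j) (h : s ∣ u ^ (2 * j) - 1) : eta (ee u s) ≤ j := by
  have h1 := ee_dvd hu h
  rw [eta]
  split_ifs with he
  · obtain ⟨c, hc⟩ := he
    rw [hc] at h1 ⊢
    have h2 : 2 * c ∣ 2 * j := by rwa [two_mul c]
    have h3 := Nat.le_of_dvd (by omega) h2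
    omega
  · rw [Nat.not_even_iff_odd] at he
    have h2 : (ee u s).Coprime 2 := Nat.coprime_two_right.2 he
    exact Nat.le_of_dvd (by omega) (h2.dvd_of_dvd_mul_left h1)

theorem wO_le (hu : 1 ≤ u) {s j : ℕ} (hs2 : s ≠ 2) (hj : 2 ≤ j) (h : s ∣ u ∨ ∃ i, 1 ≤ i ∧ i ≤ j ∧ s ∣ u ^ (2 * i) - 1) :
    wO u s ≤ j := by
  by_cases hsu : s ∣ u
  · rw [wO, if_pos (Or.inr hsu)]
    exact hj
  · have : wO u s = eta (ee u s) := if_neg (by rw [not_or]; exact ⟨hs2, hsu⟩)
    rw [this]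
    rcases h with h | ⟨i, h1, h2, h3⟩
    · exact absurd h hsu
    · exact (eta_le hu h1 h3).trans h2

end arith

section num

/-- `u = 2` -/
theorem num_two {y a b N R : ℕ} (hy : 8 ≤ y) (hab : (a = y + 1 ∧ b + 1 = 2 * y ∧ R + 1 ≤ y) ∨
    (a + 1 = y ∧ b = 2 * y + 1 ∧ R ≤ y + 1)) (h : a * b ≤ 3 * N) (hN : N ^ 2 < 2 * R ^ 3) : False := by
  have h1 : (a * b) ^ 2 ≤ (3 * N) ^ 2 := Nat.pow_le_pow_left h 2
  have h2 : (3 * N) ^ 2 = 9 * N ^ 2 := by ring
  obtain ⟨v, rfl⟩ : ∃ v, y = v + 8 := ⟨y - 8, by omega⟩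
  rcases hab with ⟨rfl, hb, hR⟩ | ⟨ha, rfl, hR⟩
  · obtain rfl : b = 2 * v + 15 := by omega
    have h3 : R ^ 3 ≤ (v + 7) ^ 3 := Nat.pow_le_pow_left (by omega) 3
    have h4 : ((v + 8 + 1) * (2 * v + 15)) ^ 2 = 18 * (v + 7) ^ 3 +
        (4 * v ^ 4 + 114 * v ^ 3 + 1251 * v ^ 2 + 6264 * v + 12051) := by ring
    omega
  · obtain rfl : a = v + 7 := by omega
    have h3 : R ^ 3 ≤ (v + 9) ^ 3 := Nat.pow_le_pow_left (by omega) 3
    have h4 : ((v + 7) * (2 * (v + 8) + 1)) ^ 2 = 18 * (v + 9) ^ 3 +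
        (4 * v ^ 4 + 106 * v ^ 3 + 951 * v ^ 2 + 3004 * v + 1039) := by ring
    omega

/-- `u = 3` -/
theorem num_three {y a b N R : ℕ} (hy : 27 ≤ y) (hab : (a = y + 1 ∧ b + 1 = 3 * y ∧ 2 * R + 1 ≤ y) ∨
    (a + 1 = y ∧ b = 3 * y + 1 ∧ 2 * R ≤ y + 1)) (h : a * b ≤ 16 * N) (hN : N ^ 2 < 2 * R ^ 3) : False := by
  have h1 : (a * b) ^ 2 ≤ (16 * N) ^ 2 := Nat.pow_le_pow_left h 2
  have h2 : (16 * N) ^ 2 = 256 * N ^ 2 := by ring
  have h0 : (2 * R) ^ 3 = 8 * R ^ 3 := by ring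
  obtain ⟨v, rfl⟩ : ∃ v, y = v + 27 := ⟨y - 27, by omega⟩
  rcases hab with ⟨rfl, hb, hR⟩ | ⟨ha, rfl, hR⟩
  · obtain rfl : b = 3 * v + 80 := by omega
    have h3 : (2 * R) ^ 3 ≤ (v + 26) ^ 3 := Nat.pow_le_pow_left (by omega) 3
    have h4 : ((v + 27 + 1) * (3 * v + 80)) ^ 2 = 64 * (v + 26) ^ 3 +
        (9 * v ^ 4 + 920 * v ^ 3 + 35344 * v ^ 2 + 604928 * v + 3892736) := by ring
    omega
  · obtain rfl : a = v + 26 := by omega
    have h3 : (2 * R) ^ 3 ≤ (v + 28) ^ 3 := Nat.pow_le_pow_left (by omega) 3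
    have h4 : ((v + 26) * (3 * (v + 27) + 1)) ^ 2 = 64 * (v + 28) ^ 3 +
        (9 * v ^ 4 + 896 * v ^ 3 + 33016 * v ^ 2 + 531712 * v + 3140496) := by ring
    omega

end num

/-- what we use of `PΩ^ε_{2n}(u)` -/
structure OQ (S : Type*) [Group S] (F : Type*) [Field F] [Finite F] (n : ℕ) (ε : ℤ) : Prop where
  pm : ε = 1 ∨ ε = -1
  elt : ∀ N, Elt2 F n ε N → ∃ g : S, orderOf g = N
  card : Nat.card S ∣ Nat.card F ^ (n * (n - 1)) * ts (Nat.card F) n ε *
    ∏ i ∈ Finset.range (n - 1), (Nat.card F ^ (2 * (i + 1)) - 1)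
  meo : ∀ g : S, (Nat.card F - 1) * orderOf g ≤ Nat.card F ^ (n + 1)

section main

variable {p q : ℕ} {S : Type*} [Group S] {F : Type*} [Field F] [Finite F] {n : ℕ} {ε : ℤ}

theorem OQ.T2 (O : OQ S F n ε) {k : ℕ} (hk : 1 ≤ k) (hkn : k < n) {δ : ℤ} (hδ : δ = 1 ∨ δ = -1) :
    T2 S (ts (Nat.card F) k δ) := by
  have h1 := elt_ts (F := F) hk hδ dvd_rfl
  rcases Nat.even_or_odd (ts (Nat.card F) k δ) with he | ho
  · have h2 := Elt.add_two (n₂ := n - k) (by omega) (mul_pm hδ O.pm) h1 he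
    rw [← mul_assoc, sq_pm hδ, one_mul, Nat.add_sub_cancel' hkn.le] at h2
    obtain ⟨g, hg⟩ := O.elt _ h2
    obtain ⟨c, hc⟩ := he
    refine ⟨g, ?_⟩
    rw [hg, hc]
    exact ⟨1, by omega⟩
  · obtain ⟨g, hg⟩ := O.elt _ ((elt_extend h1 hδ O.pm (by omega : k + 1 ≤ n)).two (by omega) ho)
    exact ⟨g, by rw [hg]; exact Dvd.intro_left _ rfl⟩

theorem OQ.four (O : OQ S F n ε) {N : ℕ} (hN : Elt F n ε N) : ∃ g : S, N ∣ 4 * orderOf g := by
  obtain ⟨o, -, ho, hNo⟩ := exists_four hN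
  obtain ⟨g, hg⟩ := O.elt o ho
  exact ⟨g, by rwa [hg]⟩

theorem OQ.info (O : OQ S F n ε) (hn : 4 ≤ n) (hP : Par p q) (h : Hyp p q S) {r : ℕ} (hr : r.Prime) (hrR : r ∣ R q) :
    r ≠ 2 ∧ ¬ r ∣ Nat.card F ∧ ∀ i, 1 ≤ i → i ≤ n - 2 → ¬ r ∣ Nat.card F ^ (2 * i) - 1 := by
  have hr2 : r ≠ 2 := by
    rintro rfl
    exact hP.two hrR
  have hw : ¬ wO (Nat.card F) r ≤ n - 2 := by
    intro hw
    obtain ⟨δ, hδ, h1⟩ := exists_elt_wO (F := F) hr hr2
    exact h.not_two hP hr hrR (O.elt _ (elt2_two (hr.odd_of_ne_two hr2) h1 (wO_pos hr) hδ O.pm (by omega)))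
  exact ⟨hr2, fun hd => hw (wO_le Nat.card_pos hr2 (by omega) (Or.inl hd)),
    fun i h1 h2 hd => hw (wO_le Nat.card_pos hr2 (by omega) (Or.inr ⟨i, h1, h2, hd⟩))⟩

/-- the block of the plane: `u - ε δ ∈ {1, 2}` -/
theorem OQ.plane [Finite S] (O : OQ S F n ε) (hn : 4 ≤ n) (hP : Par p q) (h : Hyp p q S) {r : ℕ} (hr : r.Prime)
    (hrR : r ∣ R q) {δ : ℤ} (hδ : δ = 1 ∨ δ = -1) (hd : r ∣ ts (Nat.card F) (n - 1) δ) :
    δ = ε ∧ (Nat.card F = 2 ∨ Nat.card F = 3) := by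
  have hu2 : 2 ≤ Nat.card F := Finite.one_lt_card
  have hr2 := (O.info hn hP h hr hrR).1
  set M := ts (Nat.card F) 1 (δ * ε) with hM
  have hδε := mul_pm hδ O.pm
  have hcop : Nat.Coprime (R q) M := Nat.coprime_of_dvd fun s hs h1 h2 =>
    (O.info hn hP h hs h1).2.2 1 le_rfl (by omega) (h2.trans (ts_dvd hδε))
  have hone : ∀ x, x ∣ M → x ∣ R q → x = 1 := fun x h1 h2 => Nat.dvd_one.1 (hcop ▸ Nat.dvd_gcd h2 h1)
  have hE1 : Elt F (n - 1) δ r := elt_ts (by omega) hδ hd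
  have hE2 : Elt F 1 (δ * ε) M := elt_ts le_rfl hδε dvd_rfl
  have hodd : Odd r := hr.odd_of_ne_two hr2
  have hM12 : M = 1 ∨ M = 2 := by
    rcases Nat.even_or_odd M with he | ho
    · right
      obtain ⟨M', hM'⟩ := he
      have h1 := Elt.prod_two (by omega) hodd hE1 hE2 (by rw [hM']; exact ⟨M', rfl⟩)
      rw [← mul_assoc, sq_pm hδ, one_mul, show n - 1 + 1 = n by omega, show M / 2 = M' by omega] at h1
      obtain ⟨g, hg⟩ := O.elt _ h1
      have h2 := hP.om_coprime (h.om g) ⟨r, hr, hrR, by rw [hg]; exact Nat.dvd_lcm_left _ _⟩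
      rw [hg] at h2
      have h3 := hone M' (by rw [hM']; exact ⟨2, by ring⟩) ((Nat.dvd_lcm_right _ _).trans h2)
      omega
    · left
      have h1 := hE1.prod hE2
      rw [← mul_assoc, sq_pm hδ, one_mul, show n - 1 + 1 = n by omega] at h1
      obtain ⟨g, hg⟩ := O.elt _ (h1.two (by omega) (Odd.of_dvd_nat (hodd.mul ho) (Nat.lcm_dvd_mul r M)))
      have h2 := hP.om_coprime (h.om g) ⟨r, hr, hrR, by rw [hg]; exact Nat.dvd_lcm_left _ _⟩
      rw [hg] at h2
      exact hone M dvd_rfl ((Nat.dvd_lcm_right _ _).trans h2)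
  rcases hδε with h1 | h1
  · rw [h1, ts_one, pow_one] at hM
    refine ⟨?_, by omega⟩
    rcases hδ with rfl | rfl
    · rw [one_mul] at h1; exact h1.symm
    · rw [neg_one_mul] at h1; linarith
  · rw [h1, ts_neg, pow_one] at hM
    omega

theorem neg_pm {δ : ℤ} (hδ : δ = 1 ∨ δ = -1) : -δ = 1 ∨ -δ = -1 := by
  rcases hδ with rfl | rfl
  · right; rfl
  · left; rfl

/-- **the row** -/
theorem OQ.kill [Finite S] (O : OQ S F n ε) (hn : 4 ≤ n) (hP : Par p q) (h : Hyp p q S) : False := by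
  have hu2 : 2 ≤ Nat.card F := Finite.one_lt_card
  have hRb := hP.R_big
  have hRodd := hP.R_odd
  have hdvd : R q ∣ ts (Nat.card F) n ε * (Nat.card F ^ (2 * (n - 1)) - 1) := by
    have h1 := h.dvd_card.trans O.card
    have h2 : Nat.card F ^ (n * (n - 1)) * ts (Nat.card F) n ε *
        ∏ i ∈ Finset.range (n - 1), (Nat.card F ^ (2 * (i + 1)) - 1) =
        (ts (Nat.card F) n ε * (Nat.card F ^ (2 * (n - 1)) - 1)) * (Nat.card F ^ (n * (n - 1)) *
        ∏ i ∈ Finset.range (n - 2), (Nat.card F ^ (2 * (i + 1)) - 1)) := by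
      rw [show n - 1 = (n - 2) + 1 by omega, Finset.prod_range_succ]
      ring
    rw [h2] at h1
    refine dvd_of_coprime h1 fun r hr hrR h3 => ?_
    obtain ⟨-, h4, h5⟩ := O.info hn hP h hr hrR
    rcases hr.dvd_mul.1 h3 with h3 | h3
    · exact h4 (hr.dvd_of_dvd_pow h3)
    · obtain ⟨i, hi, h6⟩ := (Prime.dvd_finsetProd_iff hr.prime _).1 h3
      have hi' := Finset.mem_range.1 hi
      exact h5 (i + 1) (by omega) (by omega) h6
  by_cases hc1 : ∀ r : ℕ, r.Prime → r ∣ R q → ¬ r ∣ Nat.card F ^ (2 * (n - 1)) - 1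
  · refine kill_A hP h hu2 (by omega) O.pm (dvd_of_coprime hdvd hc1) (fun r hr hrR i h1 h2 => ?_)
      (fun k h1 h2 δ hδ => O.T2 h1 h2 hδ) (fun h3 => by omega)
    by_cases hi : i = n - 1
    · rw [hi]
      exact hc1 r hr hrR
    · exact (O.info hn hP h hr hrR).2.2 i h1 (by omega)
  push Not at hc1
  obtain ⟨r, hr, hrR, hr1⟩ := hc1
  have hpl : ∀ s : ℕ, s.Prime → s ∣ R q → ∀ δ : ℤ, (δ = 1 ∨ δ = -1) → s ∣ ts (Nat.card F) (n - 1) δ →
      δ = ε ∧ (Nat.card F = 2 ∨ Nat.card F = 3) := fun s hs hsR δ hδ hd => O.plane hn hP h hs hsR hδ hd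
  have hprod := ts_mul (Nat.card F) (n - 1) O.pm
  obtain ⟨hrε, hu⟩ : r ∣ ts (Nat.card F) (n - 1) ε ∧ (Nat.card F = 2 ∨ Nat.card F = 3) := by
    rw [← hprod] at hr1
    rcases hr.dvd_mul.1 hr1 with h1 | h1
    · exact ⟨h1, (hpl r hr hrR ε O.pm h1).2⟩
    · obtain ⟨h2, h3⟩ := hpl r hr hrR (-ε) (neg_pm O.pm) h1
      rw [h2] at h1
      exact ⟨h1, h3⟩
  have hcopε : Nat.Coprime (R q) (ts (Nat.card F) (n - 1) (-ε)) := Nat.coprime_of_dvd fun s hs h1 h2 => by
    have h3 := (hpl s hs h1 (-ε) (neg_pm O.pm) h2).1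
    rcases O.pm with rfl | rfl
    · norm_num at h3
    · norm_num at h3
  have hA := T2.dvd_R hP h (O.T2 (by omega) (by omega) O.pm) hr hrR hrε
  have hmeo : (Nat.card F - 1) * R q ≤ Nat.card F ^ (n + 1) := by
    obtain ⟨x, hx⟩ := h.ex
    rw [← hx]
    exact O.meo x
  have hEn : Elt F n ε (ts (Nat.card F) n ε) := elt_ts (by omega) O.pm dvd_rfl
  by_cases hc2 : ∀ s : ℕ, s.Prime → s ∣ R q → ¬ s ∣ ts (Nat.card F) n ε
  · -- `R` divides `u ^ (n - 1) - ε`
    have hRd : R q ∣ ts (Nat.card F) (n - 1) ε := by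
      have h1 : R q ∣ Nat.card F ^ (2 * (n - 1)) - 1 := by
        rw [mul_comm] at hdvd
        exact dvd_of_coprime hdvd hc2
      rw [← hprod] at h1
      exact hcopε.dvd_of_dvd_mul_right h1
    have hcopn : Nat.Coprime (R q) (ts (Nat.card F) n ε) := Nat.coprime_of_dvd hc2
    rcases hu with hu | hu
    · -- `u = 2`
      have hev : Even (Nat.card F) := by rw [hu]; exact even_two
      have e2 : Nat.card F ^ n = 2 * 2 ^ (n - 1) := by
        rw [hu, ← pow_succ']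
        congr 1
        omega
      have hy : 8 ≤ 2 ^ (n - 1) := by
        calc 8 = 2 ^ 3 := rfl
          _ ≤ 2 ^ (n - 1) := Nat.pow_le_pow_right (by norm_num) (by omega)
      obtain ⟨ho1, hq1⟩ := hf_odd_of_even (u := Nat.card F) (k := n - 1) (by omega) (neg_pm O.pm) hu2 hev
      obtain ⟨ho2, hq2⟩ := hf_odd_of_even (u := Nat.card F) (k := n) (by omega) O.pm hu2 hev
      rw [hq1] at ho1
      rw [hq2] at ho2
      have hl1 : Lam p q (ts (Nat.card F) (n - 1) (-ε)) := h.lam hP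
        ((O.T2 (by omega) (by omega) (neg_pm O.pm)).odd ho1 dvd_rfl) (Or.inl hcopε)
      have hl2 : Lam p q (ts (Nat.card F) n ε) := h.lam hP (O.elt _ (hEn.two (by omega) ho2)) (Or.inl hcopn)
      have hsz := hP.size (hl1.lcm hl2)
      have hRle := Nat.le_of_dvd (ts_pos hu2 (by omega) O.pm) hRd
      have hg : Nat.gcd (ts (Nat.card F) (n - 1) (-ε)) (ts (Nat.card F) n ε) ∣ 3 := by
        have h1 := Nat.gcd_dvd_left (ts (Nat.card F) (n - 1) (-ε)) (ts (Nat.card F) n ε)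
        have h2 := Nat.gcd_dvd_right (ts (Nat.card F) (n - 1) (-ε)) (ts (Nat.card F) n ε)
        generalize Nat.gcd (ts (Nat.card F) (n - 1) (-ε)) (ts (Nat.card F) n ε) = g at h1 h2 ⊢
        rcases O.pm with rfl | rfl
        · rw [ts_neg, hu] at h1
          rw [ts_one, e2] at h2
          have h3 := (Nat.dvd_sub (h1.mul_left 2) h2)
          have h4 : 2 * (2 ^ (n - 1) + 1) - (2 * 2 ^ (n - 1) - 1) = 3 := by omega
          rwa [h4] at h3
        · rw [neg_neg, ts_one, hu] at h1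
          rw [ts_neg, e2] at h2
          have h3 := (Nat.dvd_sub h2 (h1.mul_left 2))
          have h4 : (2 * 2 ^ (n - 1) + 1) - 2 * (2 ^ (n - 1) - 1) = 3 := by omega
          rwa [h4] at h3
      have hmul : ts (Nat.card F) (n - 1) (-ε) * ts (Nat.card F) n ε ≤
          3 * Nat.lcm (ts (Nat.card F) (n - 1) (-ε)) (ts (Nat.card F) n ε) := by
        rw [← Nat.gcd_mul_lcm]
        exact Nat.mul_le_mul_right _ (Nat.le_of_dvd (by norm_num) hg)
      refine num_two hy ?_ hmul hsz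
      rcases O.pm with rfl | rfl
      · left
        rw [ts_one, hu] at hRle
        rw [ts_neg, ts_one, e2, hu]
        omega
      · right
        rw [ts_neg, hu] at hRle
        rw [neg_neg, ts_neg, ts_one, e2, hu]
        omega
    · -- `u = 3`
      have hod : ¬ Even (Nat.card F) := by rw [hu]; decide
      have hcc : cc (Nat.card F) = 2 := if_neg hod
      have e2 : Nat.card F ^ n = 3 * 3 ^ (n - 1) := by
        rw [hu, ← pow_succ']
        congr 1
        omega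
      have hy : 27 ≤ 3 ^ (n - 1) := by
        calc 27 = 3 ^ 3 := rfl
          _ ≤ 3 ^ (n - 1) := Nat.pow_le_pow_right (by norm_num) (by omega)
      have hl1 : Lam p q (hf (Nat.card F) (n - 1) (-ε)) := lam_hf hP h (neg_pm O.pm) (by omega) hu2
        (O.T2 (by omega) (by omega) (neg_pm O.pm)) hcopε
      have hm1 := hf_mul (u := Nat.card F) (k := n - 1) (neg_pm O.pm)
      rw [hcc] at hm1
      obtain ⟨g, hg⟩ := O.four hEn
      have hl2 : Lam p q (orderOf g) := by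
        rcases h.cases hP g with h1 | h1
        · exfalso
          have h2 : ts (Nat.card F) n ε ∣ 4 * R q := hg.trans (Nat.mul_dvd_mul_left 4 h1)
          have h3 : ts (Nat.card F) n ε ∣ 4 := hcopn.symm.dvd_of_dvd_mul_right h2
          have h4 := Nat.le_of_dvd (by norm_num) h3
          rcases O.pm with rfl | rfl
          · rw [ts_one] at h4
            omega
          · rw [ts_neg] at h4
            omega
        · exact h1.1
      have hL := hl1.lcm hl2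
      have hsz := hP.size hL
      have hR2 : 2 * R q ∣ ts (Nat.card F) (n - 1) ε := by
        have h1 := cc_dvd (u := Nat.card F) (k := n - 1) O.pm
        rw [hcc] at h1
        exact (Nat.coprime_two_left.2 (Nat.odd_iff.2 hRodd)).mul_dvd_of_dvd_of_dvd h1 hRd
      have hRle := Nat.le_of_dvd (ts_pos hu2 (by omega) O.pm) hR2
      set L := Nat.lcm (hf (Nat.card F) (n - 1) (-ε)) (orderOf g) with hL0
      have hd1 : ts (Nat.card F) (n - 1) (-ε) ∣ 4 * L := by
        rw [← hm1]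
        calc 2 * hf (Nat.card F) (n - 1) (-ε) ∣ 2 * L := Nat.mul_dvd_mul_left 2 (Nat.dvd_lcm_left _ _)
          _ ∣ 4 * L := ⟨2, by ring⟩
      have hd2 : ts (Nat.card F) n ε ∣ 4 * L := hg.trans (Nat.mul_dvd_mul_left 4 (Nat.dvd_lcm_right _ _))
      have hgd : Nat.gcd (ts (Nat.card F) (n - 1) (-ε)) (ts (Nat.card F) n ε) ∣ 4 := by
        have h1 := Nat.gcd_dvd_left (ts (Nat.card F) (n - 1) (-ε)) (ts (Nat.card F) n ε)
        have h2 := Nat.gcd_dvd_right (ts (Nat.card F) (n - 1) (-ε)) (ts (Nat.card F) n ε)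
        generalize Nat.gcd (ts (Nat.card F) (n - 1) (-ε)) (ts (Nat.card F) n ε) = g at h1 h2 ⊢
        rcases O.pm with rfl | rfl
        · rw [ts_neg, hu] at h1
          rw [ts_one, e2] at h2
          have h3 := (Nat.dvd_sub (h1.mul_left 3) h2)
          have h4 : 3 * (3 ^ (n - 1) + 1) - (3 * 3 ^ (n - 1) - 1) = 4 := by omega
          rwa [h4] at h3
        · rw [neg_neg, ts_one, hu] at h1
          rw [ts_neg, e2] at h2
          have h3 := (Nat.dvd_sub h2 (h1.mul_left 3))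
          have h4 : (3 * 3 ^ (n - 1) + 1) - 3 * (3 ^ (n - 1) - 1) = 4 := by omega
          rwa [h4] at h3
      have hLpos : 0 < L := by
        apply Nat.lcm_pos _ (orderOf_pos g)
        have := ts_pos hu2 (show 1 ≤ n - 1 by omega) (neg_pm O.pm)
        omega
      have hmul : ts (Nat.card F) (n - 1) (-ε) * ts (Nat.card F) n ε ≤ 16 * L := by
        rw [← Nat.gcd_mul_lcm]
        calc _ ≤ 4 * (4 * L) := Nat.mul_le_mul (Nat.le_of_dvd (by norm_num) hgd)
              (Nat.le_of_dvd (by omega) (Nat.lcm_dvd hd1 hd2))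
          _ = 16 * L := by ring
      refine num_three hy ?_ hmul hsz
      rcases O.pm with rfl | rfl
      · left
        rw [ts_one, hu] at hRle
        rw [ts_neg, ts_one, e2, hu]
        omega
      · right
        rw [ts_neg, hu] at hRle
        rw [neg_neg, ts_neg, ts_one, e2, hu]
        omega
  · -- both tori meet `R`
    push Not at hc2
    obtain ⟨s, hs, hsR, hs1⟩ := hc2
    have hs2 := (O.info hn hP h hs hsR).1
    obtain ⟨g, hg⟩ := O.four hEn
    have hgR : orderOf g ∣ R q := by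
      refine hP.om_coprime (h.om g) ⟨s, hs, hsR, ?_⟩
      rcases hs.dvd_mul.1 (hs1.trans hg) with h1 | h1
      · exfalso
        have h3 : s ∣ 2 ^ 2 := h1
        exact hs2 ((Nat.prime_dvd_prime_iff_eq hs Nat.prime_two).1 (hs.dvd_of_dvd_pow h3))
      · exact h1
    have hB : ts (Nat.card F) n ε ∣ 4 * R q := hg.trans (Nat.mul_dvd_mul_left 4 hgR)
    rcases hu with hu | hu
    · have hev : Even (Nat.card F) := by rw [hu]; exact even_two
      have e2 : Nat.card F ^ n = 2 * 2 ^ (n - 1) := by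
        rw [hu, ← pow_succ']
        congr 1
        omega
      have e3 : Nat.card F ^ (n + 1) = 4 * 2 ^ (n - 1) := by
        rw [pow_succ, e2, hu]
        ring
      have hy : 8 ≤ 2 ^ (n - 1) := by
        calc 8 = 2 ^ 3 := rfl
          _ ≤ 2 ^ (n - 1) := Nat.pow_le_pow_right (by norm_num) (by omega)
      obtain ⟨ho1, hq1⟩ := hf_odd_of_even (u := Nat.card F) (k := n - 1) (by omega) O.pm hu2 hev
      obtain ⟨ho2, hq2⟩ := hf_odd_of_even (u := Nat.card F) (k := n) (by omega) O.pm hu2 hev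
      rw [hq1] at ho1
      rw [hq2] at ho2
      have hA' := (Nat.coprime_two_right.2 ho1).dvd_of_dvd_mul_left hA
      have hB' : ts (Nat.card F) n ε ∣ R q := by
        have h1 : Nat.Coprime (ts (Nat.card F) n ε) (2 ^ 2) := Nat.Coprime.pow_right 2 (Nat.coprime_two_right.2 ho2)
        exact h1.dvd_of_dvd_mul_left hB
      have hcop : Nat.Coprime (ts (Nat.card F) (n - 1) ε) (ts (Nat.card F) n ε) := by
        apply Nat.dvd_one.1
        have h1 := Nat.gcd_dvd_left (ts (Nat.card F) (n - 1) ε) (ts (Nat.card F) n ε)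
        have h2 := Nat.gcd_dvd_right (ts (Nat.card F) (n - 1) ε) (ts (Nat.card F) n ε)
        generalize Nat.gcd (ts (Nat.card F) (n - 1) ε) (ts (Nat.card F) n ε) = g at h1 h2 ⊢
        rcases O.pm with rfl | rfl
        · rw [ts_one, hu] at h1
          rw [ts_one, e2] at h2
          have h3 := (Nat.dvd_sub h2 (h1.mul_left 2))
          have h4 : (2 * 2 ^ (n - 1) - 1) - 2 * (2 ^ (n - 1) - 1) = 1 := by omega
          rwa [h4] at h3
        · rw [ts_neg, hu] at h1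
          rw [ts_neg, e2] at h2
          have h3 := (Nat.dvd_sub (h1.mul_left 2) h2)
          have h4 : 2 * (2 ^ (n - 1) + 1) - (2 * 2 ^ (n - 1) + 1) = 1 := by omega
          rwa [h4] at h3
      have hle := Nat.le_of_dvd (by omega) (hcop.mul_dvd_of_dvd_of_dvd hA' hB')
      rw [e3, hu] at hmeo
      have h1 : (2 ^ (n - 1) - 1) * (2 * 2 ^ (n - 1) - 1) ≤ R q := by
        refine le_trans (Nat.mul_le_mul ?_ ?_) hle
        · rcases O.pm with rfl | rfl
          · rw [ts_one, hu]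
          · rw [ts_neg, hu]; omega
        · rcases O.pm with rfl | rfl
          · rw [ts_one, e2]
          · rw [ts_neg, e2]; omega
      have h2 : (2 - 1) * R q = R q := by rw [show 2 - 1 = 1 from rfl, one_mul]
      rw [h2] at hmeo
      generalize 2 ^ (n - 1) = y at *
      obtain ⟨v, rfl⟩ : ∃ v, y = v + 8 := ⟨y - 8, by omega⟩
      have h3 : (v + 8 - 1) * (2 * (v + 8) - 1) = 2 * v ^ 2 + 29 * v + 105 := by
        rw [show v + 8 - 1 = v + 7 by omega, show 2 * (v + 8) - 1 = 2 * v + 15 by omega]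
        ring
      rw [h3] at h1
      omega
    · have e2 : Nat.card F ^ n = 3 * 3 ^ (n - 1) := by
        rw [hu, ← pow_succ']
        congr 1
        omega
      have e3 : Nat.card F ^ (n + 1) = 9 * 3 ^ (n - 1) := by
        rw [pow_succ, e2, hu]
        ring
      have hy : 27 ≤ 3 ^ (n - 1) := by
        calc 27 = 3 ^ 3 := rfl
          _ ≤ 3 ^ (n - 1) := Nat.pow_le_pow_right (by norm_num) (by omega)
      have hA' : ts (Nat.card F) (n - 1) ε ∣ 4 * R q := hA.trans ⟨2, by ring⟩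
      have hgd : Nat.gcd (ts (Nat.card F) (n - 1) ε) (ts (Nat.card F) n ε) ∣ 2 := by
        have h1 := Nat.gcd_dvd_left (ts (Nat.card F) (n - 1) ε) (ts (Nat.card F) n ε)
        have h2 := Nat.gcd_dvd_right (ts (Nat.card F) (n - 1) ε) (ts (Nat.card F) n ε)
        generalize Nat.gcd (ts (Nat.card F) (n - 1) ε) (ts (Nat.card F) n ε) = g at h1 h2 ⊢
        rcases O.pm with rfl | rfl
        · rw [ts_one, hu] at h1
          rw [ts_one, e2] at h2
          have h3 := (Nat.dvd_sub h2 (h1.mul_left 3))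
          have h4 : (3 * 3 ^ (n - 1) - 1) - 3 * (3 ^ (n - 1) - 1) = 2 := by omega
          rwa [h4] at h3
        · rw [ts_neg, hu] at h1
          rw [ts_neg, e2] at h2
          have h3 := (Nat.dvd_sub (h1.mul_left 3) h2)
          have h4 : 3 * (3 ^ (n - 1) + 1) - (3 * 3 ^ (n - 1) + 1) = 2 := by omega
          rwa [h4] at h3
      have hle : ts (Nat.card F) (n - 1) ε * ts (Nat.card F) n ε ≤ 8 * R q := by
        rw [← Nat.gcd_mul_lcm]
        calc _ ≤ 2 * (4 * R q) := Nat.mul_le_mul (Nat.le_of_dvd (by norm_num) hgd)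
              (Nat.le_of_dvd (by omega) (Nat.lcm_dvd hA' hB))
          _ = 8 * R q := by ring
      rw [e3, hu] at hmeo
      have h1 : (3 ^ (n - 1) - 1) * (3 * 3 ^ (n - 1) - 1) ≤ 8 * R q := by
        refine le_trans (Nat.mul_le_mul ?_ ?_) hle
        · rcases O.pm with rfl | rfl
          · rw [ts_one, hu]
          · rw [ts_neg, hu]; omega
        · rcases O.pm with rfl | rfl
          · rw [ts_one, e2]
          · rw [ts_neg, e2]; omega
      have h2 : (3 - 1) * R q = 2 * R q := rfl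
      rw [h2] at hmeo
      generalize 3 ^ (n - 1) = y at *
      obtain ⟨v, rfl⟩ : ∃ v, y = v + 27 := ⟨y - 27, by omega⟩
      have h3 : (v + 27 - 1) * (3 * (v + 27) - 1) = 3 * v ^ 2 + 158 * v + 2080 := by
        rw [show v + 27 - 1 = v + 26 by omega, show 3 * (v + 27) - 1 = 3 * v + 80 by omega]
        ring
      rw [h3] at h1
      omega

end main

/-- the data of `PΩ⁺` -/
theorem oq_plus {F : Type*} [Field F] [Fintype F] {n : ℕ} (hn : 4 ≤ n) : OQ (Cfsg.POmega F (Cfsg.quadFormPlus n F)) F n 1 where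
  pm := Or.inl rfl
  elt := fun N h => h.plus hn
  card := by
    have h := Cfsg.Agent.S0293.result (F := F) (q := Nat.card F) Nat.card_eq_fintype_card.symm n hn
    rw [ts_one]
    exact Dvd.intro_left _ h
  meo := by
    intro g
    rw [Nat.card_eq_fintype_card]
    exact (Cfsg.Agent.S2265.result (F := F) n).2.1 hn g

theorem oq_minus {F : Type*} [Field F] [Fintype F] {n : ℕ} (hn : 4 ≤ n) {a b : F}
    (hab : ∀ z₁ z₂ : F, z₁ ^ 2 + a * z₁ * z₂ + b * z₂ ^ 2 = 0 → z₁ = 0 ∧ z₂ = 0) :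
    OQ (Cfsg.POmega F (Cfsg.quadFormMinus (n - 1) F a b)) F n (-1) where
  pm := Or.inr rfl
  elt := fun N h => h.minus hn hab
  card := by
    have h := Cfsg.Agent.S0294.result (F := F) (q := Nat.card F) Nat.card_eq_fintype_card.symm n hn a b hab
    rw [ts_neg]
    exact Dvd.intro_left _ h
  meo := by
    intro g
    rw [Nat.card_eq_fintype_card]
    exact (Cfsg.Agent.S2265.result (F := F) n).2.2 hn a b hab g

theorem ts_prod_pos {u n : ℕ} (hu : 2 ≤ u) (hn : 1 ≤ n) {ε : ℤ} (hε : ε = 1 ∨ ε = -1) :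
    u ^ (n * (n - 1)) * ts u n ε * ∏ i ∈ Finset.range (n - 1), (u ^ (2 * (i + 1)) - 1) ≠ 0 := by
  apply Nat.pos_iff_ne_zero.1
  apply Nat.mul_pos (Nat.mul_pos (Nat.pow_pos (by omega)) (ts_pos hu hn hε))
  apply Finset.prod_pos
  intro i _
  have := Nat.one_lt_pow (n := 2 * (i + 1)) (by omega) (show 1 < u by omega)
  omega

theorem OQ.finite {S : Type*} [Group S] {F : Type*} [Field F] [Finite F] {n : ℕ} {ε : ℤ} (O : OQ S F n ε)
    (hn : 4 ≤ n) : Finite S := by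
  apply Nat.finite_of_card_ne_zero
  intro h0
  have h := O.card
  rw [h0, zero_dvd_iff] at h
  exact ts_prod_pos Finite.one_lt_card (by omega) O.pm h

/-- **Row `PΩ⁺_{2n}(u)`, `n ≥ 4`.** -/
theorem oplus {p q n : ℕ} (hP : Par p q) (hn : 4 ≤ n) {F : Type*} [Field F] [Fintype F]
    (h : Hyp p q (Cfsg.POmega F (Cfsg.quadFormPlus n F))) : False := by
  have := (oq_plus (F := F) hn).finite hn
  exact (oq_plus (F := F) hn).kill hn hP h

/-- **Row `PΩ⁻_{2n}(u)`, `n ≥ 4`.** -/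
theorem ominus {p q n : ℕ} (hP : Par p q) (hn : 4 ≤ n) {F : Type*} [Field F] [Fintype F] {a b : F}
    (hab : ∀ z₁ z₂ : F, z₁ ^ 2 + a * z₁ * z₂ + b * z₂ ^ 2 = 0 → z₁ = 0 ∧ z₂ = 0)
    (h : Hyp p q (Cfsg.POmega F (Cfsg.quadFormMinus (n - 1) F a b))) : False := by
  have := (oq_minus (F := F) hn hab).finite hn
  exact (oq_minus (F := F) hn hab).kill hn hP h

end Cfsg.Agent.H424.P4
end
end

-- part: H126/P4/PSL
section
prune_inst 0x4000000000880000000000000000002000000000000208000612000000a00010000000900080000001040928008000000000000100000000000000000000200000028960400510808800000000000000000000000000000000000000000000000000000000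
set_option linter.all false
open scoped Cfsg.Agent.FastGrp

-- part: H126/P4/Num
section
/-!
# Inequalities for S3591, the linear and unitary rows (helper126, tasks 1114, 1115 of helper379)
-/

set_option autoImplicit false

namespace Cfsg.Agent.H126.P4

/-- The main inequality, linear case. -/
theorem ki {u X l : ℤ} (hu : 2 ≤ u) (hX : 5 ≤ X) (h : 2 * u ^ 4 ≤ l ^ 2 * (u - 1) * (X - 4)) :
    2 * (u ^ 2 * X - 1) ^ 3 ≤ l ^ 2 * ((u * X - 1) ^ 2 * (X - 1) ^ 2 * (u - 1)) := by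
  have h1 : u ^ 2 * X ^ 3 * (X - 4) ≤ (u * X - 1) ^ 2 * (X - 1) ^ 2 := by
    have e1 : u * X ^ 2 - (u + 1) * X ≤ (u * X - 1) * (X - 1) := by linarith only []
    have e2 : 0 ≤ u * X ^ 2 - (u + 1) * X := by
      have : u * X ^ 2 - (u + 1) * X = X * (u * (X - 1) - 1) := by ring
      rw [this]
      apply mul_nonneg (by omega)
      nlinarith only [hu, hX]
    have e3 : (u * X ^ 2 - (u + 1) * X) ^ 2 ≤ ((u * X - 1) * (X - 1)) ^ 2 := pow_le_pow_left₀ e2 e1 2
    have e4 : u ^ 2 * X ^ 3 * (X - 4) ≤ (u * X ^ 2 - (u + 1) * X) ^ 2 := by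
      have e5 : (u * X ^ 2 - (u + 1) * X) ^ 2 - u ^ 2 * X ^ 3 * (X - 4) =
          X ^ 3 * (2 * u * (u - 1)) + (u + 1) ^ 2 * X ^ 2 := by ring
      have e6 : 0 ≤ X ^ 3 * (2 * u * (u - 1)) := by
        apply mul_nonneg (by positivity)
        nlinarith only [hu]
      have e7 : 0 ≤ (u + 1) ^ 2 * X ^ 2 := by positivity
      linarith
    calc u ^ 2 * X ^ 3 * (X - 4) ≤ _ := e4
      _ ≤ _ := e3
      _ = _ := by ring
  have h2 : (u ^ 2 * X - 1) ^ 3 ≤ (u ^ 2 * X) ^ 3 := by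
    apply pow_le_pow_left₀
    · nlinarith only [hu, hX]
    · linarith
  have hX3 : 0 ≤ u ^ 2 * X ^ 3 := by positivity
  calc 2 * (u ^ 2 * X - 1) ^ 3 ≤ 2 * (u ^ 2 * X) ^ 3 := by linarith
    _ = (2 * u ^ 4) * (u ^ 2 * X ^ 3) := by ring
    _ ≤ (l ^ 2 * (u - 1) * (X - 4)) * (u ^ 2 * X ^ 3) := mul_le_mul_of_nonneg_right h hX3
    _ = l ^ 2 * (u - 1) * (u ^ 2 * X ^ 3 * (X - 4)) := by ring
    _ ≤ l ^ 2 * (u - 1) * ((u * X - 1) ^ 2 * (X - 1) ^ 2) := by
        apply mul_le_mul_of_nonneg_left h1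
        apply mul_nonneg (sq_nonneg l)
        omega
    _ = _ := by ring

/-- The hypothesis of `ki`, `u ≥ 3`. -/
theorem ki_hyp {u X l : ℤ} (hu : 3 ≤ u) (hX : u ^ 3 ≤ X) (hl : 2 ≤ l) (hl3 : u = 3 → 3 ≤ l) :
    2 * u ^ 4 ≤ l ^ 2 * (u - 1) * (X - 4) := by
  have hX4 : 0 ≤ X - 4 := by nlinarith only [hu, hX, _root_.mul_self_nonneg (u : ℤ)]
  have h0 : u ^ 3 - 4 ≤ X - 4 := by linarith
  rcases eq_or_lt_of_le hu with h | h
  · have hl' := hl3 h.symm
    subst h
    have h1 : (9 : ℤ) ≤ l ^ 2 := by nlinarith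
    nlinarith only [hX, h1]
  · have hu4 : 4 ≤ u := h
    have h1 : (4 : ℤ) ≤ l ^ 2 := by nlinarith only [hl]
    have h2 : 0 ≤ u ^ 3 - 4 := by nlinarith only [h, mul_pos (by linarith : (0 : ℤ) < u) (by linarith : (0 : ℤ) < u)]
    have h3 : 2 * u ^ 4 ≤ 4 * (u - 1) * (u ^ 3 - 4) := by
      have h4 : 64 ≤ u ^ 3 := by
        calc (64 : ℤ) = 4 ^ 3 := by norm_num
          _ ≤ u ^ 3 := pow_le_pow_left₀ (by norm_num) hu4 3
      have h5 : 4 * (u - 1) * (u ^ 3 - 4) - 2 * u ^ 4 = 2 * u * u ^ 3 - 4 * u ^ 3 - 16 * u + 16 := by ring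
      have h6 : 0 ≤ 2 * u * u ^ 3 - 4 * u ^ 3 - 16 * u + 16 := by
        have h7 : 2 * u * u ^ 3 - 4 * u ^ 3 - 16 * u + 16 = (2 * u - 4) * (u ^ 3 - 8) - 16 := by ring
        rw [h7]
        nlinarith only [hu, h4]
      linarith
    calc 2 * u ^ 4 ≤ 4 * (u - 1) * (u ^ 3 - 4) := h3
      _ ≤ l ^ 2 * (u - 1) * (X - 4) := by
        apply mul_le_mul _ h0 h2
        · exact mul_nonneg (sq_nonneg l) (by linarith)
        · exact mul_le_mul_of_nonneg_right h1 (by linarith)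

/-- The contradiction, linear case. -/
theorem contra {U X l L g R : ℤ} (hU : 2 ≤ U) (hg : 1 ≤ g) (hX : 1 ≤ X) (hR : 0 ≤ R)
    (h1 : (U * X - 1) * (X - 1) ≤ L * (U - 1) * g) (h2 : R * g * (U - 1) ≤ U ^ 2 * X - 1)
    (h3 : (l * L) ^ 2 < 2 * R ^ 3)
    (h4 : 2 * (U ^ 2 * X - 1) ^ 3 ≤ l ^ 2 * ((U * X - 1) ^ 2 * (X - 1) ^ 2 * (U - 1))) : False := by
  have hU1 : 1 ≤ U - 1 := by linarith
  have hpos : 0 < (U - 1) * g := mul_pos (by linarith) (by linarith)
  have e1 : (l * L) ^ 2 * ((U - 1) * g) ^ 3 < 2 * R ^ 3 * ((U - 1) * g) ^ 3 :=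
    mul_lt_mul_of_pos_right h3 (pow_pos hpos 3)
  have e2 : 2 * R ^ 3 * ((U - 1) * g) ^ 3 = 2 * (R * g * (U - 1)) ^ 3 := by ring
  have e3 : (R * g * (U - 1)) ^ 3 ≤ (U ^ 2 * X - 1) ^ 3 := by
    apply pow_le_pow_left₀ _ h2
    exact mul_nonneg (mul_nonneg hR (by linarith)) (by linarith)
  have e4 : 0 ≤ (U * X - 1) * (X - 1) := mul_nonneg (by nlinarith only [hU, hX]) (by linarith)
  have e5 : ((U * X - 1) * (X - 1)) ^ 2 ≤ (L * (U - 1) * g) ^ 2 := pow_le_pow_left₀ e4 h1 2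
  have e6 : l ^ 2 * ((U * X - 1) ^ 2 * (X - 1) ^ 2 * (U - 1)) ≤ l ^ 2 * ((L * (U - 1) * g) ^ 2 * ((U - 1) * g)) := by
    apply mul_le_mul_of_nonneg_left _ (sq_nonneg l)
    have e7 : (U * X - 1) ^ 2 * (X - 1) ^ 2 * (U - 1) = ((U * X - 1) * (X - 1)) ^ 2 * (U - 1) := by ring
    rw [e7]
    apply mul_le_mul e5 _ (by linarith) (sq_nonneg _)
    nlinarith only [hU, hg]
  have e8 : l ^ 2 * ((L * (U - 1) * g) ^ 2 * ((U - 1) * g)) = (l * L) ^ 2 * ((U - 1) * g) ^ 3 := by ring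
  linarith

/-- `k = 4`. -/
theorem four {u l N R : ℤ} (hu : 4 ≤ u) (hl : 2 ≤ l) (h1 : (u ^ 2 - 1) * (u ^ 2 + u + 1) ≤ 3 * N) (hR : 0 ≤ R)
    (h2 : R ≤ u ^ 2 + 1) (h3 : (l * N) ^ 2 < 2 * R ^ 3) : False := by
  have e0 : 0 ≤ (u ^ 2 - 1) * (u ^ 2 + 1) := mul_nonneg (by nlinarith only [hu]) (by linarith only [_root_.sq_nonneg (u : ℤ)])
  have e1 : (u ^ 2 - 1) * (u ^ 2 + 1) ≤ 3 * N := by nlinarith only [hu, h1]
  have e2 : ((u ^ 2 - 1) * (u ^ 2 + 1)) ^ 2 ≤ (3 * N) ^ 2 := pow_le_pow_left₀ e0 e1 2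
  have e3 : R ^ 3 ≤ (u ^ 2 + 1) ^ 3 := pow_le_pow_left₀ hR h2 3
  have e4 : 4 * ((u ^ 2 - 1) * (u ^ 2 + 1)) ^ 2 ≤ l ^ 2 * (3 * N) ^ 2 := by
    apply mul_le_mul (by nlinarith only [hl]) e2 (sq_nonneg _) (sq_nonneg _)
  have e5 : l ^ 2 * (3 * N) ^ 2 = 9 * (l * N) ^ 2 := by ring
  have e6 : 18 * (u ^ 2 + 1) ^ 3 ≤ 4 * ((u ^ 2 - 1) * (u ^ 2 + 1)) ^ 2 := by
    have e7 : 4 * ((u ^ 2 - 1) * (u ^ 2 + 1)) ^ 2 - 18 * (u ^ 2 + 1) ^ 3 =
        (u ^ 2 + 1) ^ 2 * (4 * (u ^ 2 - 1) ^ 2 - 18 * (u ^ 2 + 1)) := by ring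
    have e8 : 0 ≤ 4 * (u ^ 2 - 1) ^ 2 - 18 * (u ^ 2 + 1) := by
      have : 16 ≤ u ^ 2 := by nlinarith only [hu]
      nlinarith only [this]
    have := mul_nonneg (sq_nonneg (u ^ 2 + 1)) e8
    linarith only [this]
  linarith

/-- `k = 3`. -/
theorem three {u l c d R : ℤ} (hu : 4 ≤ u) (hl : 2 ≤ l) (hc : 0 < c) (hc2 : c ≤ 2) (h1 : d * c = u ^ 2 + 1) (hR : 0 ≤ R)
    (h2 : R ≤ u ^ 2 + u + 1) (h3 : (l * ((u ^ 2 - 1) * d)) ^ 2 < 2 * R ^ 3) : False := by
  have hu2 : 16 ≤ u ^ 2 := by nlinarith only [hu]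
  have hd : u ^ 2 + 1 ≤ 2 * d := by
    have hd0 : 0 < d := by
      by_contra hcon
      rw [not_lt] at hcon
      nlinarith only [hc, h1, hcon]
    nlinarith only [hc, hc2, h1]
  have e1 : (u ^ 2 - 1) * (u ^ 2 + 1) ≤ l * ((u ^ 2 - 1) * d) := by
    calc (u ^ 2 - 1) * (u ^ 2 + 1) ≤ (u ^ 2 - 1) * (2 * d) := mul_le_mul_of_nonneg_left hd (by linarith)
      _ = 2 * ((u ^ 2 - 1) * d) := by ring
      _ ≤ l * ((u ^ 2 - 1) * d) := mul_le_mul_of_nonneg_right hl (mul_nonneg (by linarith) (by linarith))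
  have e2 : ((u ^ 2 - 1) * (u ^ 2 + 1)) ^ 2 ≤ (l * ((u ^ 2 - 1) * d)) ^ 2 :=
    pow_le_pow_left₀ (mul_nonneg (by linarith) (by linarith)) e1 2
  have e3 : R ^ 3 ≤ (u ^ 2 + u + 1) ^ 3 := pow_le_pow_left₀ hR h2 3
  have e4 : 2 * (u ^ 2 + u + 1) ^ 3 ≤ ((u ^ 2 - 1) * (u ^ 2 + 1)) ^ 2 := by
    have e5 : 4 * (u ^ 2 + u + 1) ≤ 6 * (u ^ 2 - 1) := by nlinarith only [hu2]
    -- `u ^ 2 + u + 1 ≤ 3/2 (u ^ 2 - 1)`
    have e6 : 8 * (u ^ 2 + u + 1) ^ 3 ≤ 27 * (u ^ 2 - 1) ^ 3 := by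
      have e7 : 2 * (u ^ 2 + u + 1) ≤ 3 * (u ^ 2 - 1) := by linarith
      have e8 := pow_le_pow_left₀ (by linarith only [hu, hu2] : (0 : ℤ) ≤ 2 * (u ^ 2 + u + 1)) e7 3
      linarith only [e8]
    have e9 : 27 * (u ^ 2 - 1) ^ 3 ≤ 4 * ((u ^ 2 - 1) * (u ^ 2 + 1)) ^ 2 := by
      have e10 : 4 * ((u ^ 2 - 1) * (u ^ 2 + 1)) ^ 2 - 27 * (u ^ 2 - 1) ^ 3 =
          (u ^ 2 - 1) ^ 2 * (4 * (u ^ 2 + 1) ^ 2 - 27 * (u ^ 2 - 1)) := by ring
      have e11 : 0 ≤ 4 * (u ^ 2 + 1) ^ 2 - 27 * (u ^ 2 - 1) := by nlinarith only [hu2]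
      have := mul_nonneg (sq_nonneg (u ^ 2 - 1)) e11
      linarith only [this]
    linarith
  linarith

/-- `(u - 1) gcd(n, u - 1) ∣ u ^ n - 1`. -/
theorem dvd_geom {u n : ℕ} (hu : 1 ≤ u) : (u - 1) * Nat.gcd n (u - 1) ∣ u ^ n - 1 := by
  set g := Nat.gcd n (u - 1) with hg
  have h1 : u ≡ 1 [MOD g] := by
    have h2 : g ∣ u - 1 := Nat.gcd_dvd_right _ _
    exact ((Nat.modEq_iff_dvd' hu).2 h2).symm
  have h2 : (∑ i ∈ Finset.range n, u ^ i) ≡ n [MOD g] := by
    have h3 : (∑ i ∈ Finset.range n, u ^ i) ≡ (∑ i ∈ Finset.range n, 1) [MOD g] := by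
      apply Nat.ModEq.sum
      intro i _
      have := h1.pow i
      rwa [one_pow] at this
    rwa [Finset.sum_const, Finset.card_range, smul_eq_mul, mul_one] at h3
  have h3 : g ∣ ∑ i ∈ Finset.range n, u ^ i :=
    (Nat.modEq_zero_iff_dvd).1 (h2.trans ((Nat.modEq_zero_iff_dvd).2 (Nat.gcd_dvd_left _ _)))
  have h4 : (u - 1) * (∑ i ∈ Finset.range n, u ^ i) = u ^ n - 1 := by
    zify [hu, Nat.one_le_pow n u hu]
    rw [mul_comm]
    exact geom_sum_mul (u : ℤ) n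
  rw [← h4]
  exact Nat.mul_dvd_mul_left _ h3

end Cfsg.Agent.H126.P4

namespace Cfsg.Agent.H126.P4

/-- The main inequality, unitary case. -/
theorem ki' {u X l σ : ℤ} (hu : 2 ≤ u) (hX : u ^ 3 ≤ X) (hl : 2 ≤ l) (hσ : σ = 1 ∨ σ = -1) :
    2 * (u ^ 2 * X - σ) ^ 3 ≤ l ^ 2 * ((u * X + σ) ^ 2 * (X - σ) ^ 2 * (u + 1)) := by
  have hu3 : 8 ≤ u ^ 3 := by
    calc (8 : ℤ) = 2 ^ 3 := by norm_num
      _ ≤ u ^ 3 := pow_le_pow_left₀ (by norm_num) hu 3
  have hX8 : 8 ≤ X := by linarith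
  have hu2 : 4 ≤ u ^ 2 := by nlinarith only [hu]
  have e1 : u * X * (X - 1) ≤ (u * X + σ) * (X - σ) := by
    rcases hσ with rfl | rfl
    · linarith only [hX, hu3]
    · nlinarith only [hu, hX, hu3]
  have e0 : 0 ≤ u * X * (X - 1) := mul_nonneg (mul_nonneg (by linarith) (by linarith)) (by linarith)
  have e2 : (u * X * (X - 1)) ^ 2 ≤ ((u * X + σ) * (X - σ)) ^ 2 := pow_le_pow_left₀ e0 e1 2
  have e3 : 32 ≤ u ^ 2 * X := by nlinarith only [hX, hu3, hu2]
  have e4 : 32 * (u ^ 2 * X - σ) ≤ 33 * (u ^ 2 * X) := by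
    rcases hσ with rfl | rfl <;> linarith
  have e5 : 0 ≤ 32 * (u ^ 2 * X - σ) := by
    rcases hσ with rfl | rfl <;> linarith
  have e6 : 32768 * (u ^ 2 * X - σ) ^ 3 ≤ 35937 * (u ^ 2 * X) ^ 3 := by
    have := pow_le_pow_left₀ e5 e4 3
    have e7 : (32 * (u ^ 2 * X - σ)) ^ 3 = 32768 * (u ^ 2 * X - σ) ^ 3 := by ring
    have e8 : (33 * (u ^ 2 * X)) ^ 3 = 35937 * (u ^ 2 * X) ^ 3 := by ring
    linarith
  have e7 : 49 * X ^ 2 ≤ 64 * (X - 1) ^ 2 := by nlinarith only [hX, hu3]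
  have e8 : 49 * (u ^ 2 * X ^ 4) ≤ 64 * (u * X * (X - 1)) ^ 2 := by
    have := mul_le_mul_of_nonneg_left e7 (by positivity : (0 : ℤ) ≤ u ^ 2 * X ^ 2)
    linarith only [this]
  have hl2 : 4 ≤ l ^ 2 := by nlinarith only [hl]
  have e9 : (u ^ 2 * X) ^ 3 ≤ u ^ 2 * X ^ 4 * (u + 1) := by
    have h1 : u ^ 4 ≤ X * (u + 1) := by
      calc u ^ 4 = u ^ 3 * u := by ring
        _ ≤ X * (u + 1) := mul_le_mul hX (by linarith) (by linarith) (by linarith)
    calc (u ^ 2 * X) ^ 3 = (u ^ 2 * X ^ 3) * u ^ 4 := by ring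
      _ ≤ (u ^ 2 * X ^ 3) * (X * (u + 1)) := mul_le_mul_of_nonneg_left h1 (by positivity)
      _ = _ := by ring
  have e10 : 4 * ((u * X * (X - 1)) ^ 2 * (u + 1)) ≤ l ^ 2 * ((u * X + σ) ^ 2 * (X - σ) ^ 2 * (u + 1)) := by
    have h1 : (u * X + σ) ^ 2 * (X - σ) ^ 2 * (u + 1) = ((u * X + σ) * (X - σ)) ^ 2 * (u + 1) := by ring
    rw [h1]
    apply mul_le_mul hl2 (mul_le_mul_of_nonneg_right e2 (by linarith)) _ (sq_nonneg l)
    exact mul_nonneg (sq_nonneg _) (by linarith)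
  have e11 : 49 * (u ^ 2 * X ^ 4) * (u + 1) ≤ 64 * (u * X * (X - 1)) ^ 2 * (u + 1) :=
    mul_le_mul_of_nonneg_right e8 (by linarith)
  have hpos : 0 ≤ (u ^ 2 * X) ^ 3 := by positivity
  linarith only [e6, e9, e10, e11, hpos]

/-- The contradiction, unitary case. -/
theorem contra' {U X l L g R σ : ℤ} (hU : 2 ≤ U) (hg : 1 ≤ g) (hX : 1 ≤ X) (hR : 0 ≤ R) (hσ : σ = 1 ∨ σ = -1)
    (h1 : (U * X + σ) * (X - σ) ≤ L * (U + 1) * g) (h2 : R * g * (U + 1) ≤ U ^ 2 * X - σ)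
    (h3 : (l * L) ^ 2 < 2 * R ^ 3)
    (h4 : 2 * (U ^ 2 * X - σ) ^ 3 ≤ l ^ 2 * ((U * X + σ) ^ 2 * (X - σ) ^ 2 * (U + 1))) : False := by
  have hpos : 0 < (U + 1) * g := mul_pos (by linarith) (by linarith)
  have e1 : (l * L) ^ 2 * ((U + 1) * g) ^ 3 < 2 * R ^ 3 * ((U + 1) * g) ^ 3 :=
    mul_lt_mul_of_pos_right h3 (pow_pos hpos 3)
  have e2 : 2 * R ^ 3 * ((U + 1) * g) ^ 3 = 2 * (R * g * (U + 1)) ^ 3 := by ring
  have e3 : (R * g * (U + 1)) ^ 3 ≤ (U ^ 2 * X - σ) ^ 3 := by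
    apply pow_le_pow_left₀ _ h2
    exact mul_nonneg (mul_nonneg hR (by linarith)) (by linarith)
  have e4 : 0 ≤ (U * X + σ) * (X - σ) := by
    rcases hσ with rfl | rfl
    · exact mul_nonneg (by nlinarith only [hU, hX]) (by linarith)
    · exact mul_nonneg (by nlinarith only [hU, hX]) (by linarith)
  have e5 : ((U * X + σ) * (X - σ)) ^ 2 ≤ (L * (U + 1) * g) ^ 2 := pow_le_pow_left₀ e4 h1 2
  have e6 : l ^ 2 * ((U * X + σ) ^ 2 * (X - σ) ^ 2 * (U + 1)) ≤ l ^ 2 * ((L * (U + 1) * g) ^ 2 * ((U + 1) * g)) := by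
    apply mul_le_mul_of_nonneg_left _ (sq_nonneg l)
    have e7 : (U * X + σ) ^ 2 * (X - σ) ^ 2 * (U + 1) = ((U * X + σ) * (X - σ)) ^ 2 * (U + 1) := by ring
    rw [e7]
    apply mul_le_mul e5 _ (by linarith) (sq_nonneg _)
    nlinarith only [hU, hg]
  have e8 : l ^ 2 * ((L * (U + 1) * g) ^ 2 * ((U + 1) * g)) = (l * L) ^ 2 * ((U + 1) * g) ^ 3 := by ring
  linarith

/-- `k = 4`, unitary. -/
theorem four' {u l N R : ℤ} (hu : 4 ≤ u) (hl : 2 ≤ l) (h1 : (u ^ 2 - 1) * (u ^ 2 - u + 1) ≤ 3 * N) (hR : 0 ≤ R)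
    (h2 : R ≤ u ^ 2 + 1) (h3 : (l * N) ^ 2 < 2 * R ^ 3) : False := by
  have hu2 : 16 ≤ u ^ 2 := by nlinarith only [hu]
  have e0 : 0 ≤ (u ^ 2 - 1) * (3 * u ^ 2) := mul_nonneg (by linarith) (by linarith)
  have e1 : (u ^ 2 - 1) * (3 * u ^ 2) ≤ 12 * N := by
    have h4 : 3 * u ^ 2 ≤ 4 * (u ^ 2 - u + 1) := by linarith only [sq_nonneg (u - 2)]
    have := mul_le_mul_of_nonneg_left h4 (by linarith : (0 : ℤ) ≤ u ^ 2 - 1)
    linarith
  have e2 : ((u ^ 2 - 1) * (3 * u ^ 2)) ^ 2 ≤ (12 * N) ^ 2 := pow_le_pow_left₀ e0 e1 2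
  have e3 : R ^ 3 ≤ (u ^ 2 + 1) ^ 3 := pow_le_pow_left₀ hR h2 3
  have e4 : 4 * ((u ^ 2 - 1) * (3 * u ^ 2)) ^ 2 ≤ l ^ 2 * (12 * N) ^ 2 := by
    apply mul_le_mul (by nlinarith only [hl]) e2 (sq_nonneg _) (sq_nonneg _)
  have e5 : l ^ 2 * (12 * N) ^ 2 = 144 * (l * N) ^ 2 := by ring
  have e6 : 288 * (u ^ 2 + 1) ^ 3 ≤ 4 * ((u ^ 2 - 1) * (3 * u ^ 2)) ^ 2 := by
    set w := u ^ 2 with hw
    have h5 : 16 * (w + 1) ≤ 17 * w := by linarith
    have h6 : 15 * w ≤ 16 * (w - 1) := by linarith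
    have h7 := pow_le_pow_left₀ (by linarith : (0 : ℤ) ≤ 16 * (w + 1)) h5 3
    have h8 := pow_le_pow_left₀ (by linarith : (0 : ℤ) ≤ 15 * w) h6 2
    have h9 : 0 ≤ w ^ 3 := by positivity
    have h10 : 225 * w ^ 2 * w ^ 2 ≤ 256 * (w - 1) ^ 2 * w ^ 2 := by nlinarith only [h8, sq_nonneg w]
    have h11 : 16 * w ^ 3 ≤ w ^ 4 := by
      have : w ^ 4 = w * w ^ 3 := by ring
      rw [this]
      exact mul_le_mul_of_nonneg_right (by linarith only [h3, hu2, e3, e4, h7, h8, h10]) h9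
    linarith only [hu2, h7, h8, h10]
  linarith

end Cfsg.Agent.H126.P4
end

-- part: H126/P4/PSL
section
/-!
# S3591, the row `PSL_n(u)`, `n ≥ 4` (helper126, task 1114 of helper379)
-/

set_option autoImplicit false
set_option linter.unusedSectionVars false
set_option linter.unusedVariables false

namespace Cfsg.Agent.H126.P4

open Matrix Cfsg.Agent.H72.AdjOrth Cfsg.Agent.H379.P4

section elements

variable {F : Type*} [Field F] [Fintype F] {n : ℕ}

theorem det_fin_one (c : F) : (c • (1 : Matrix (Fin 1) (Fin 1) F)).det = c := by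
  rw [Matrix.det_smul, Matrix.det_one]
  simp

/-- A full torus of `GL_a`, `a ≤ n - 2`. -/
theorem torus {a : ℕ} (ha : a ≠ 0) (han : a + 2 ≤ n) :
    ∃ z : Matrix.ProjectiveSpecialLinearGroup (Fin n) F, orderOf z = Fintype.card F ^ a - 1 := by
  obtain ⟨A, hA⟩ := H72.AdjPSU.exists_singer F ha
  obtain ⟨c, hc⟩ : ∃ c, n = a + (1 + c) := ⟨n - a - 1, by omega⟩
  have hc0 : 0 < c := by omega
  let e : Fin n ≃ Fin a ⊕ (Fin 1 ⊕ Fin c) :=
    ((finCongr hc).trans finSumFinEquiv.symm).trans (Equiv.sumCongr (Equiv.refl _) finSumFinEquiv.symm)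
  have hdet0 : (A : Matrix (Fin a) (Fin a) F).det ≠ 0 :=
    ((Matrix.isUnit_iff_isUnit_det _).1 A.isUnit).ne_zero
  refine H72.AdjPSL.exists_order_of_index e (A := fromBlocks (A : Matrix (Fin a) (Fin a) F) 0 0
    (fromBlocks ((A : Matrix (Fin a) (Fin a) F).det⁻¹ • 1) 0 0 1)) ?_ (N := Fintype.card F ^ a - 1) ?_ _ dvd_rfl
  · rw [Matrix.det_fromBlocks_zero₂₁, Matrix.det_fromBlocks_zero₂₁, det_fin_one, Matrix.det_one, mul_one,
      mul_inv_cancel₀ hdet0]
  · intro k t hk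
    rw [H72.AdjPSU.fromBlocks_pow, H72.AdjPSU.fromBlocks_pow, one_pow] at hk
    obtain ⟨h1, h2⟩ := H72.AdjPSU.fromBlocks_eq_smul hk
    obtain ⟨h3, h4⟩ := H72.AdjPSU.fromBlocks_eq_smul h2
    have ht : t = 1 := by
      have := congrFun (congrFun h4 ⟨0, hc0⟩) ⟨0, hc0⟩
      simpa using this.symm
    rw [ht, one_smul] at h1
    rw [← hA]
    apply orderOf_dvd_of_pow_eq_one
    apply Units.ext
    rw [Units.val_pow_eq_pow_val, h1, Units.val_one]

/-- The torus of `GL_{n-1}`. -/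
theorem torus' {a : ℕ} (ha : a ≠ 0) (han : a + 1 = n) : ∃ z : Matrix.ProjectiveSpecialLinearGroup (Fin n) F,
    orderOf z = (Fintype.card F ^ a - 1) / Nat.gcd n (Fintype.card F - 1) := by
  obtain ⟨A, hA⟩ := H72.AdjPSU.exists_singer F ha
  let e : Fin n ≃ Fin a ⊕ Fin 1 := (finCongr han.symm).trans finSumFinEquiv.symm
  have hdet0 : (A : Matrix (Fin a) (Fin a) F).det ≠ 0 :=
    ((Matrix.isUnit_iff_isUnit_det _).1 A.isUnit).ne_zero
  have hq1 := Fintype.one_lt_card (α := F)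
  set g := Nat.gcd n (Fintype.card F - 1) with hg
  have hgd : g ∣ Fintype.card F ^ a - 1 := (Nat.gcd_dvd_right _ _).trans (by
    have := Nat.sub_dvd_pow_sub_pow (Fintype.card F) 1 a
    rwa [one_pow] at this)
  have hg0 : 0 < g := Nat.gcd_pos_of_pos_right _ (by omega)
  refine H72.AdjPSL.exists_order_of_index e (A := fromBlocks (A : Matrix (Fin a) (Fin a) F) 0 0
    ((A : Matrix (Fin a) (Fin a) F).det⁻¹ • 1)) ?_ (N := (Fintype.card F ^ a - 1) / g) ?_ _ dvd_rfl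
  · rw [Matrix.det_fromBlocks_zero₂₁, det_fin_one, mul_inv_cancel₀ hdet0]
  · intro k t hk
    rw [H72.AdjPSU.fromBlocks_pow] at hk
    obtain ⟨h1, h2⟩ := H72.AdjPSU.fromBlocks_eq_smul hk
    have h3 : (A : Matrix (Fin a) (Fin a) F).det⁻¹ ^ k = t := by
      rw [smul_pow, one_pow] at h2
      have := congrFun (congrFun h2 0) 0
      simpa only [_root_.inv_pow, _root_.Fin.isValue, _root_.Matrix.smul_apply, _root_.Matrix.one_apply_eq, _root_.smul_eq_mul, _root_.mul_one] using this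
    have h4 : (A : Matrix (Fin a) (Fin a) F).det ^ k = t ^ a := by
      rw [← Matrix.det_pow, h1, Matrix.det_smul, Matrix.det_one, mul_one, Fintype.card_fin]
    have ht0 : t ≠ 0 := by
      rw [← h3]
      exact pow_ne_zero _ (inv_ne_zero hdet0)
    have h5 : t ^ n = 1 := by
      rw [← han, pow_succ, ← h4, ← h3, ← mul_pow, mul_inv_cancel₀ hdet0, one_pow]
    have h6 : t ^ (Fintype.card F - 1) = 1 := FiniteField.pow_card_sub_one_eq_one t ht0
    have h7 : t ^ g = 1 := by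
      rw [hg, ← orderOf_dvd_iff_pow_eq_one]
      exact Nat.dvd_gcd (orderOf_dvd_of_pow_eq_one h5) (orderOf_dvd_of_pow_eq_one h6)
    have h8 : A ^ (k * g) = 1 := by
      apply Units.ext
      rw [Units.val_pow_eq_pow_val, pow_mul, h1, smul_pow, one_pow, h7, one_smul, Units.val_one]
    have h9 := orderOf_dvd_of_pow_eq_one h8
    rw [hA] at h9
    obtain ⟨m, hm⟩ := hgd
    rw [hm, Nat.mul_div_cancel_left _ hg0]
    rw [hm, mul_comm k g] at h9
    exact Nat.dvd_of_mul_dvd_mul_left hg0 h9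

end elements

section main

variable {p q n : ℕ} {F : Type*} [Field F] [Fintype F]

/-- The class of the prime divisors of `R`. -/
theorem exists_class (hP : Par p q) (hn : 4 ≤ n) (h : Hyp p q (Matrix.ProjectiveSpecialLinearGroup (Fin n) F)) :
    ∃ k, (k = n - 1 ∨ k = n) ∧ ∀ r : ℕ, r.Prime → r ∣ R q → ¬ r ∣ Fintype.card F ∧ ee (Fintype.card F) r = k := by
  classical
  have hq1 := Fintype.one_lt_card (α := F)
  have key : ∀ r : ℕ, r.Prime → r ∣ R q → ¬ r ∣ Fintype.card F ∧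
      (ee (Fintype.card F) r = n - 1 ∨ ee (Fintype.card F) r = n) := by
    intro r hr hrR
    have hr2 : r ≠ 2 := by
      rintro rfl
      exact hP.two hrR
    have h1 : n < H72.AdjPSL.wL (Fintype.card F) r + H72.AdjPSL.wL (Fintype.card F) 2 := by
      by_contra hcon
      rw [not_lt] at hcon
      obtain ⟨z, hz⟩ := H72.AdjPSL.adj_of_wL hr Nat.prime_two hr2 hcon
      exact h.not_two hP hr hrR ⟨z, by rw [hz, mul_comm]⟩
    have h2 : H72.AdjPSL.wL (Fintype.card F) 2 = 2 := by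
      rw [H72.AdjPSL.wL, if_pos]
      rcases Nat.even_or_odd (Fintype.card F) with he | ho
      · exact Or.inl he.two_dvd
      · right
        obtain ⟨m, hm⟩ := ho
        exact ⟨m, by omega⟩
    rw [h2, H72.AdjPSL.wL] at h1
    split_ifs at h1 with h3
    · omega
    · rw [not_or] at h3
      have h4 := H72.AdjPSL.ee_le (n := n) hr h3.1 (hrR.trans h.dvd_card)
      exact ⟨h3.1, by omega⟩
  obtain ⟨r0, hr0, -, hrR0, -⟩ := h.exists_prime hP
  refine ⟨ee (Fintype.card F) r0, (key r0 hr0 hrR0).2, fun r hr hrR => ⟨(key r hr hrR).1, ?_⟩⟩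
  by_contra hne
  have hrr : r ≠ r0 := by
    rintro rfl
    exact hne rfl
  obtain ⟨ℓ, hℓ⟩ := CharP.exists F
  have hℓp : Fact ℓ.Prime := ⟨CharP.char_is_prime F ℓ⟩
  obtain ⟨j, -, hj⟩ := FiniteField.card F ℓ
  have hℓd : ℓ ∣ Fintype.card F := by
    rw [hj]
    exact dvd_pow_self _ j.ne_zero
  -- the adjacency criterion
  have main : ∀ r s : ℕ, r.Prime → s.Prime → r ∣ R q → s ∣ R q → r ≠ s → ee (Fintype.card F) r = n - 1 →
      ee (Fintype.card F) s = n → False := by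
    intro r s hr hs hrR hsR hrs hk hl
    have hr2 : r ≠ 2 := by
      rintro rfl
      exact hP.two hrR
    have hs2 : s ≠ 2 := by
      rintro rfl
      exact hP.two hsR
    have hrp : r ≠ ℓ := by
      rintro rfl
      exact (key r hr hrR).1 hℓd
    have hsp : s ≠ ℓ := by
      rintro rfl
      exact (key s hs hsR).1 hℓd
    have h1 := (S2468.result (F := F) ℓ n (by omega) (by omega) r s hr hs hr2 hs2 hrp hsp hrs (hrR.trans h.dvd_card)
      (hsR.trans h.dvd_card) (n - 1) n hk.symm hl.symm (by (clear * - hn; omega)) (by (clear * - hn hl hr2 hs2 hrp hsp; omega))).2 ⟨by (clear * - hn; omega), fun hd => by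
        have h3 : n - 1 ∣ 1 := by
          have h4 : n - 1 ∣ n - (n - 1) := Nat.dvd_sub hd dvd_rfl
          rwa [show n - (n - 1) = 1 by (clear * - hn hl hr2 hs2 hrp hsp; omega)] at h4
        have := Nat.le_of_dvd (by norm_num) h3
        (clear * - hn this; omega)⟩
    apply h1
    obtain ⟨x, hx⟩ := h.ex
    have hd : r * s ∣ orderOf x := by
      rw [hx]
      exact ((Nat.coprime_primes hr hs).2 hrs).mul_dvd_of_dvd_of_dvd hrR hsR
    exact ⟨x ^ (orderOf x / (r * s)), orderOf_pow_orderOf_div (orderOf_pos x).ne' hd⟩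
  rcases (key r hr hrR).2 with h1 | h1 <;> rcases (key r0 hr0 hrR0).2 with h2 | h2
  · exact hne (h1.trans h2.symm)
  · exact main r r0 hr hr0 hrR hrR0 hrr h1 h2
  · exact main r0 r hr0 hr hrR0 hrR hrr.symm h2 h1
  · exact hne (h1.trans h2.symm)

theorem cop_of_class {u k : ℕ} (hu : 1 ≤ u) (hk : ∀ r : ℕ, r.Prime → r ∣ R q → ¬ r ∣ u ∧ ee u r = k) {i : ℕ}
    (hi : ¬ k ∣ i) : Nat.Coprime (R q) (u ^ i - 1) :=
  Nat.coprime_of_dvd fun r hr h1 h2 => hi ((hk r hr h1).2 ▸ ee_dvd hu h2)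

theorem cop_u {u k : ℕ} (hk : ∀ r : ℕ, r.Prime → r ∣ R q → ¬ r ∣ u ∧ ee u r = k) : Nat.Coprime (R q) u :=
  Nat.coprime_of_dvd fun r hr h1 h2 => (hk r hr h1).1 h2

/-- `R ∣ u ^ k - 1`. -/
theorem R_dvd (hn : 4 ≤ n) (h : Hyp p q (Matrix.ProjectiveSpecialLinearGroup (Fin n) F)) {k : ℕ}
    (hkn : k = n - 1 ∨ k = n) (hk : ∀ r : ℕ, r.Prime → r ∣ R q → ¬ r ∣ Fintype.card F ∧ ee (Fintype.card F) r = k) :
    R q ∣ Fintype.card F ^ k - 1 := by
  classical
  have hq1 := Fintype.one_lt_card (α := F)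
  have h1 : R q ∣ Nat.card (GL (Fin n) F) := by
    refine (h.dvd_card.trans (Subgroup.card_quotient_dvd_card _)).trans ?_
    exact Subgroup.card_dvd_of_injective (Matrix.SpecialLinearGroup.toGL (n := Fin n) (R := F))
      Matrix.SpecialLinearGroup.toGL_injective
  rw [Nat.card_eq_fintype_card, ← Nat.card_eq_fintype_card, Matrix.card_GL_field] at h1
  have h2 : ∀ i : Fin n, Fintype.card F ^ n - Fintype.card F ^ (i : ℕ) =
      Fintype.card F ^ (i : ℕ) * (Fintype.card F ^ (n - i) - 1) := by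
    intro i
    rw [Nat.mul_sub, ← pow_add, mul_one]
    congr 2
    omega
  let i0 : Fin n := ⟨n - k, by omega⟩
  rw [← Finset.mul_prod_erase Finset.univ _ (Finset.mem_univ i0)] at h1
  have h3 : Nat.Coprime (R q) (∏ x ∈ Finset.univ.erase i0, (Fintype.card F ^ n - Fintype.card F ^ (x : ℕ))) := by
    apply Nat.Coprime.prod_right
    intro i hi
    rw [h2]
    apply Nat.Coprime.mul_right
    · exact (cop_u hk).pow_right _
    · apply cop_of_class (by omega) hk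
      intro hd
      have h4 : (i : ℕ) ≠ n - k := fun h5 => (Finset.ne_of_mem_erase hi) (Fin.ext h5)
      have h5 := i.2
      have h6 := Nat.le_of_dvd (by omega) hd
      obtain ⟨c, hc⟩ := hd
      rcases Nat.lt_or_ge c 2 with hc2 | hc2
      · interval_cases c
        · omega
        · omega
      · have : k * 2 ≤ k * c := Nat.mul_le_mul_left _ hc2
        (clear * - hn hkn hc this; omega)
  have h4 := h3.dvd_of_dvd_mul_right h1
  rw [h2] at h4
  have h5 := ((cop_u hk).pow_right (i0 : ℕ)).dvd_of_dvd_mul_left h4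
  have h6 : n - (i0 : ℕ) = k := by
    change n - (n - k) = k
    omega
  rwa [h6] at h5

/-- The least common multiple of the two tori. -/
theorem lcm_bound {u k A B g : ℕ} (hu : 2 ≤ u) (hk : 3 ≤ k) (hA : A * g = u ^ (k - 1) - 1) (hB : B = u ^ (k - 2) - 1) :
    (u ^ (k - 1) - 1) * (u ^ (k - 2) - 1) ≤ Nat.lcm A B * (u - 1) * g := by
  have h1 : Nat.gcd A B ∣ u - 1 := by
    have h2 : Nat.gcd (u ^ (k - 1) - 1) (u ^ (k - 2) - 1) = u - 1 := by
      rw [Nat.pow_sub_one_gcd_pow_sub_one]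
      have h3 : Nat.gcd (k - 1) (k - 2) = 1 := by
        rw [show k - 1 = (k - 2) + 1 by omega]
        simp only [_root_.Nat.gcd_self_add_left, _root_.Nat.gcd_one_left]
      rw [h3, pow_one]
    rw [← h2, ← hA, ← hB]
    exact Nat.gcd_dvd_gcd_mul_right_left _ _ _
  have h2 := Nat.le_of_dvd (by omega) h1
  rw [← hA, ← hB]
  calc A * g * B = (A * B) * g := by ring
    _ = (Nat.gcd A B * Nat.lcm A B) * g := by rw [Nat.gcd_mul_lcm]
    _ ≤ ((u - 1) * Nat.lcm A B) * g := Nat.mul_le_mul_right _ (Nat.mul_le_mul_right _ h2)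
    _ = _ := by ring

/-- The odd part of `u ^ 2 + 1`. -/
theorem exists_d {u : ℕ} (hu : 2 ≤ u) : ∃ d c, d * c = u ^ 2 + 1 ∧ 0 < c ∧ c ≤ 2 ∧ Nat.Coprime d (u ^ 2 - 1) := by
  have hu2 : 1 ≤ u ^ 2 := Nat.one_le_pow _ _ (by omega)
  have key : ∀ d, d ∣ u ^ 2 + 1 → d % 2 = 1 → Nat.Coprime d (u ^ 2 - 1) := by
    intro d hd hodd
    apply Nat.coprime_of_dvd
    intro r hr h1 h2
    have h3 := Nat.dvd_sub (h1.trans hd) h2
    have h4 : u ^ 2 + 1 - (u ^ 2 - 1) = 2 := by omega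
    rw [h4, Nat.prime_dvd_prime_iff_eq hr Nat.prime_two] at h3
    subst h3
    omega
  rcases Nat.even_or_odd u with he | ho
  · refine ⟨u ^ 2 + 1, 1, mul_one _, one_pos, by norm_num, key _ dvd_rfl ?_⟩
    have : u ^ 2 % 2 = 0 := Nat.even_iff.1 ((Nat.even_pow' (by norm_num)).2 he)
    omega
  · obtain ⟨v, rfl⟩ := ho
    refine ⟨2 * v ^ 2 + 2 * v + 1, 2, by ring, by norm_num, le_rfl, key _ ⟨2, by ring⟩ (by omega)⟩

/-- **Task 1114.** -/
theorem psl (hP : Par p q) (hn : 4 ≤ n) (h : Hyp p q (Matrix.ProjectiveSpecialLinearGroup (Fin n) F)) : False := by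
  classical
  have hu := Fintype.one_lt_card (α := F)
  obtain ⟨k, hkn, hk⟩ := exists_class hP hn h
  have hRd := R_dvd hn h hkn hk
  have hR17 := hP.R_big
  obtain ⟨ℓ, hℓ⟩ := CharP.exists F
  have hℓp : Fact ℓ.Prime := ⟨CharP.char_is_prime F ℓ⟩
  obtain ⟨j, -, hj⟩ := FiniteField.card F ℓ
  have hℓd : ℓ ∣ Fintype.card F := by
    rw [hj]
    exact dvd_pow_self _ j.ne_zero
  -- the characteristic
  have hLℓ : Lam p q ℓ := by
    obtain ⟨z, hz⟩ := H72.AdjPSL.exists_order_of_block_lt (n := n) (H72.AdjPSL.hasBlock_char (F := F) ℓ) (by omega) ℓ dvd_rfl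
    exact h.lam hP ⟨z, hz⟩ (Or.inl (Nat.Coprime.coprime_dvd_right hℓd (cop_u hk)))
  have hcop : ∀ {i : ℕ}, ¬ k ∣ i → Nat.Coprime (R q) (Fintype.card F ^ i - 1) := fun hi =>
    cop_of_class (by omega) hk hi
  -- the tori
  have hLt : ∀ {a : ℕ}, a ≠ 0 → a + 2 ≤ n → ¬ k ∣ a → Lam p q (Fintype.card F ^ a - 1) := by
    intro a ha han hka
    exact h.lam hP (torus ha han) (Or.inl (hcop hka))
  have hcopℓ : ∀ {i : ℕ}, i ≠ 0 → Nat.Coprime ℓ (Fintype.card F ^ i - 1) := by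
    intro i hi
    have h1 : Nat.Coprime (Fintype.card F ^ i) (Fintype.card F ^ i - 1) := by
      have h2 : 1 ≤ Fintype.card F ^ i := Nat.one_le_pow _ _ (by omega)
      have h3 := Nat.coprime_self_sub_right h2 |>.2 (Nat.coprime_one_right _)
      exact h3
    exact Nat.Coprime.coprime_dvd_left (hℓd.trans (dvd_pow_self _ hi)) h1
  set u := Fintype.card F with hud
  have hℓ2 := hℓp.out.two_le
  have hk3 : 3 ≤ k := by omega
  rcases (by omega : k = 3 ∨ k = 4 ∨ 5 ≤ k) with hk' | hk' | hk'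
  · -- `n = 4`, `R ∣ u ^ 2 + u + 1`
    subst hk'
    have hn4 : n = 4 := by omega
    have h1 : u ^ 3 - 1 = (u ^ 2 + u + 1) * (u - 1) := by
      obtain ⟨v, hv⟩ : ∃ v, u = v + 1 := ⟨u - 1, by omega⟩
      rw [hv, Nat.add_sub_cancel]
      have : (v + 1) ^ 3 = ((v + 1) ^ 2 + (v + 1) + 1) * v + 1 := by ring
      rw [this]
      simp
    rw [h1] at hRd
    have hcop1 : Nat.Coprime (R q) (u - 1) := by
      have := hcop (i := 1) (by norm_num)
      rwa [pow_one] at this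
    have hRd' := hcop1.dvd_of_dvd_mul_right hRd
    have hRle := Nat.le_of_dvd (by positivity) hRd'
    obtain ⟨d, c, hdc, hc0, hc2, hd1⟩ := exists_d (u := u) (by omega)
    have hdu : d ∣ u ^ 4 - 1 := by
      have h2 : u ^ 4 - 1 = (u ^ 2 + 1) * (u ^ 2 - 1) := by
        obtain ⟨v, hv⟩ : ∃ v, u ^ 2 = v + 1 := ⟨u ^ 2 - 1, by
          have := Nat.one_le_pow 2 u (by omega)
          omega⟩
        have h4 : u ^ 4 = u ^ 2 * u ^ 2 := by ring
        rw [h4, hv, Nat.add_sub_cancel]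
        have : (v + 1) * (v + 1) = (v + 1 + 1) * v + 1 := by ring
        rw [this]
        simp
      rw [h2, ← hdc, mul_assoc]
      exact Dvd.intro _ rfl
    have hd1' : Nat.Coprime d (u - 1) := Nat.Coprime.coprime_dvd_right (by
      have := Nat.sub_dvd_pow_sub_pow u 1 2
      rwa [one_pow] at this) hd1
    have hLd : Lam p q d := by
      apply h.lam hP (H72.AdjPSL.exists_order_of_block (n := n) (H72.AdjPSL.hasBlock_singer (F := F) (a := 4) (by norm_num) hdu hd1')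
        (by norm_num) (by omega) hd1' d dvd_rfl)
      left
      exact Nat.Coprime.coprime_dvd_right hdu (hcop (by norm_num))
    have hL2 := hLt (a := 2) (by norm_num) (by omega) (by norm_num)
    have hLN := hLℓ.mul (hL2.mul hLd hd1.symm) (Nat.Coprime.mul_right (hcopℓ (by norm_num))
      (Nat.Coprime.coprime_dvd_right hdu (hcopℓ (by norm_num))))
    have hsize := hP.size hLN
    have hu4 : 4 ≤ u := by
      by_contra hcon
      rw [not_le] at hcon
      interval_cases u <;> omega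
    have hu2 : 1 ≤ u ^ 2 := Nat.one_le_pow _ _ (by omega)
    zify [hu2] at hsize hRle hdc
    exact three (u := u) (l := ℓ) (c := c) (d := d) (by exact_mod_cast hu4) (by exact_mod_cast hℓ2)
      (by exact_mod_cast hc0) (by exact_mod_cast hc2) hdc (by positivity) hRle hsize
  · -- `R ∣ u ^ 2 + 1`
    subst hk'
    have h1 : u ^ 4 - 1 = (u ^ 2 + 1) * (u ^ 2 - 1) := by
      obtain ⟨v, hv⟩ : ∃ v, u ^ 2 = v + 1 := ⟨u ^ 2 - 1, by
        have := Nat.one_le_pow 2 u (by omega)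
        omega⟩
      have h4 : u ^ 4 = u ^ 2 * u ^ 2 := by ring
      rw [h4, hv, Nat.add_sub_cancel]
      have : (v + 1) * (v + 1) = (v + 1 + 1) * v + 1 := by ring
      rw [this]
      simp
    rw [h1] at hRd
    have hRd' := (hcop (i := 2) (by norm_num)).dvd_of_dvd_mul_right hRd
    have hRle := Nat.le_of_dvd (by positivity) hRd'
    have h3 : u ^ 3 - 1 = (u ^ 2 + u + 1) * (u - 1) := by
      obtain ⟨v, hv⟩ : ∃ v, u = v + 1 := ⟨u - 1, by omega⟩
      rw [hv, Nat.add_sub_cancel]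
      have : (v + 1) ^ 3 = ((v + 1) ^ 2 + (v + 1) + 1) * v + 1 := by ring
      rw [this]
      simp
    have hL3 : Lam p q (u ^ 2 + u + 1) := by
      rcases hkn with hkn | hkn
      · exact (hLt (a := 3) (by norm_num) (by omega) (by norm_num)).dvd ⟨_, h3⟩
      · have h4 := h.lam hP (torus' (F := F) (n := n) (a := 3) (by norm_num) (by omega)) (by
          left
          have hgd : Nat.gcd n (u - 1) ∣ u ^ 3 - 1 := (Nat.gcd_dvd_right _ _).trans ⟨_, by rw [h3, mul_comm]⟩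
          exact Nat.Coprime.coprime_dvd_right (Nat.div_dvd_of_dvd hgd) (hcop (by norm_num)))
        apply h4.dvd
        rw [h3, Nat.mul_div_assoc _ (Nat.gcd_dvd_right _ _)]
        exact Dvd.intro _ rfl
    have hL2 := hLt (a := 2) (by norm_num) (by omega) (by norm_num)
    have hLN := hLℓ.mul (hL2.lcm hL3) (by
      have h4 : Nat.Coprime ℓ ((u ^ 2 - 1) * (u ^ 2 + u + 1)) :=
        Nat.Coprime.mul_right (hcopℓ (by norm_num)) (Nat.Coprime.coprime_dvd_right ⟨_, h3⟩ (hcopℓ (by norm_num)))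
      exact Nat.Coprime.coprime_dvd_right (Nat.lcm_dvd_mul _ _) h4)
    have hsize := hP.size hLN
    have hu4 : 4 ≤ u := by
      by_contra hcon
      rw [not_le] at hcon
      interval_cases u <;> omega
    have hg3 : Nat.gcd (u ^ 2 - 1) (u ^ 2 + u + 1) ∣ 3 := by
      have h4 := Nat.gcd_dvd_left (u ^ 2 - 1) (u ^ 2 + u + 1)
      have h5 := Nat.gcd_dvd_right (u ^ 2 - 1) (u ^ 2 + u + 1)
      obtain ⟨v, hv⟩ : ∃ v, u = v + 2 := ⟨u - 2, by omega⟩
      have h6 : Nat.gcd (u ^ 2 - 1) (u ^ 2 + u + 1) ∣ u + 2 := by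
        have h7 := Nat.dvd_sub h5 h4
        have h8 : u ^ 2 + u + 1 - (u ^ 2 - 1) = u + 2 := by
          have := Nat.one_le_pow 2 u (by omega)
          (clear * - this; omega)
        rwa [h8] at h7
      have h7 : Nat.gcd (u ^ 2 - 1) (u ^ 2 + u + 1) ∣ (u + 2) * v := h6.mul_right _
      have h8 := Nat.dvd_sub h4 h7
      have h9 : u ^ 2 - 1 - (u + 2) * v = 3 := by
        rw [hv]
        have : (v + 2) ^ 2 = (v + 2 + 2) * v + 4 := by ring
        rw [this]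
        omega
      rwa [h9] at h8
    have hN3 : (u ^ 2 - 1) * (u ^ 2 + u + 1) ≤ 3 * Nat.lcm (u ^ 2 - 1) (u ^ 2 + u + 1) := by
      rw [← Nat.gcd_mul_lcm]
      exact Nat.mul_le_mul_right _ (Nat.le_of_dvd (by norm_num) hg3)
    have hu2 : 1 ≤ u ^ 2 := Nat.one_le_pow _ _ (by omega)
    zify [hu2] at hsize hRle hN3
    exact four (u := u) (l := ℓ) (by exact_mod_cast hu4) (by exact_mod_cast hℓ2) hN3 (by positivity) hRle hsize
  · -- the torus of rank `k - 1`
    obtain ⟨g, hg, A, hA, hLA, hRg⟩ : ∃ g, 0 < g ∧ ∃ A, A * g = u ^ (k - 1) - 1 ∧ Lam p q A ∧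
        R q * g * (u - 1) ∣ u ^ k - 1 := by
      have hcop1 : Nat.Coprime (R q) (u - 1) := by
        have := hcop (i := 1) (by
          intro hd
          have := Nat.le_of_dvd (by norm_num) hd
          omega)
        rwa [pow_one] at this
      rcases hkn with hkn | hkn
      · refine ⟨1, one_pos, u ^ (k - 1) - 1, mul_one _, hLt (by omega) (by omega) (by
          intro hd
          have := Nat.le_of_dvd (by omega) hd
          omega), ?_⟩
        rw [mul_one]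
        apply Nat.Coprime.mul_dvd_of_dvd_of_dvd hcop1 hRd
        have := Nat.sub_dvd_pow_sub_pow u 1 k
        rwa [one_pow] at this
      · have hg0 : 0 < Nat.gcd n (u - 1) := Nat.gcd_pos_of_pos_right _ (by omega)
        have hgd : Nat.gcd n (u - 1) ∣ u ^ (n - 1) - 1 := (Nat.gcd_dvd_right _ _).trans (by
          have := Nat.sub_dvd_pow_sub_pow u 1 (n - 1)
          rwa [one_pow] at this)
        refine ⟨Nat.gcd n (u - 1), hg0, (u ^ (n - 1) - 1) / Nat.gcd n (u - 1), ?_, ?_, ?_⟩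
        · rw [hkn]
          exact Nat.div_mul_cancel hgd
        · apply h.lam hP (torus' (by omega) (by omega))
          left
          apply Nat.Coprime.coprime_dvd_right (Nat.div_dvd_of_dvd hgd)
          apply hcop
          intro hd
          have := Nat.le_of_dvd (by omega) hd
          omega
        · have h1 : (u - 1) * Nat.gcd n (u - 1) ∣ u ^ k - 1 := by
            rw [hkn]
            exact dvd_geom (by omega)
          have h2 : Nat.Coprime (R q) ((u - 1) * Nat.gcd n (u - 1)) :=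
            hcop1.mul_right (Nat.Coprime.coprime_dvd_right (Nat.gcd_dvd_right _ _) hcop1)
          have h3 := h2.mul_dvd_of_dvd_of_dvd hRd h1
          rwa [mul_comm (u - 1), ← mul_assoc] at h3
    have hLB : Lam p q (u ^ (k - 2) - 1) := hLt (by omega) (by omega) (by
      intro hd
      have := Nat.le_of_dvd (by omega) hd
      omega)
    have hLN := hLℓ.mul (hLA.lcm hLB) (by
      have h1 : Nat.Coprime ℓ (A * (u ^ (k - 2) - 1)) :=
        Nat.Coprime.mul_right (Nat.Coprime.coprime_dvd_right ⟨g, hA.symm⟩ (hcopℓ (by omega))) (hcopℓ (by omega))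
      exact Nat.Coprime.coprime_dvd_right (Nat.lcm_dvd_mul _ _) h1)
    have hsize := hP.size hLN
    have hlcm := lcm_bound (by omega) (by omega) hA rfl
    have hRle := Nat.le_of_dvd (by
      have : 1 < u ^ k := Nat.one_lt_pow (by omega) (by omega)
      omega) hRg
    -- to integers
    have hX1 : 1 ≤ u ^ (k - 2) := Nat.one_le_pow _ _ (by omega)
    have hX2 : 1 ≤ u ^ (k - 1) := Nat.one_le_pow _ _ (by omega)
    have hX3 : 1 ≤ u ^ k := Nat.one_le_pow _ _ (by omega)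
    zify [hX1, hX2, hX3, (by omega : 1 ≤ u)] at hlcm hRle hsize
    have e1 : (u : ℤ) ^ (k - 1) = u * u ^ (k - 2) := by
      rw [← pow_succ']
      congr 1
      omega
    have e2 : (u : ℤ) ^ k = u ^ 2 * u ^ (k - 2) := by
      rw [← pow_add]
      congr 1
      omega
    rw [e1] at hlcm
    rw [e2] at hRle
    by_cases hu2 : u = 2
    · have hℓ2' : ℓ = 2 := by
        have h1 : ℓ ∣ 2 := hu2 ▸ hℓd
        exact (Nat.prime_dvd_prime_iff_eq hℓp.out Nat.prime_two).1 h1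
      rcases (by omega : k = 5 ∨ 6 ≤ k) with h5 | h6
      · -- `R ∣ 31`
        exfalso
        rw [hu2, h5] at hRd
        have h31 : Nat.Prime 31 := by norm_num
        have h1 : R q ∣ 31 := hRd
        rcases (Nat.dvd_prime h31).1 h1 with h2 | h2
        · omega
        · have := hP.R_mod_four
          omega
      · refine contra (U := u) (X := (u : ℤ) ^ (k - 2)) (l := ℓ) (by omega) (g := g) (by exact_mod_cast hg)
          (by exact_mod_cast hX1) (by positivity) hlcm hRle hsize (ki (by omega) ?_ ?_)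
        · have h1 : (16 : ℤ) ≤ (u : ℤ) ^ (k - 2) := by
            rw [hu2]
            calc (16 : ℤ) = 2 ^ 4 := by norm_num
              _ ≤ (2 : ℤ) ^ (k - 2) := pow_le_pow_right₀ (by norm_num) (by omega)
          push_cast [hu2] at h1 ⊢
          linarith only [h1]
        · have h1 : (16 : ℤ) ≤ (u : ℤ) ^ (k - 2) := by
            rw [hu2]
            calc (16 : ℤ) = 2 ^ 4 := by norm_num
              _ ≤ (2 : ℤ) ^ (k - 2) := pow_le_pow_right₀ (by norm_num) (by omega)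
          rw [hu2] at h1 ⊢
          rw [hℓ2']
          push_cast at h1 ⊢
          linarith only [h1]
    · have hu3 : (3 : ℤ) ≤ u := by
        have : 3 ≤ u := by omega
        exact_mod_cast this
      have hX : (u : ℤ) ^ 3 ≤ (u : ℤ) ^ (k - 2) := pow_le_pow_right₀ (by linarith only [hu3]) (by omega)
      have h27 : (27 : ℤ) ≤ (u : ℤ) ^ 3 := by
        calc (27 : ℤ) = 3 ^ 3 := by norm_num
          _ ≤ (u : ℤ) ^ 3 := pow_le_pow_left₀ (by norm_num) hu3 3
      refine contra (U := u) (X := (u : ℤ) ^ (k - 2)) (l := ℓ) (by linarith only [hu3]) (g := g) (by exact_mod_cast hg)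
        (by exact_mod_cast hX1) (by positivity) hlcm hRle hsize
        (ki (by linarith only [hu3]) (by linarith only [hX, h27]) (ki_hyp hu3 hX (by exact_mod_cast hℓ2) ?_))
      intro h3
      have h3' : u = 3 := by exact_mod_cast h3
      have : ℓ = 3 := by
        have h1 : ℓ ∣ 3 := h3' ▸ hℓd
        exact (Nat.prime_dvd_prime_iff_eq hℓp.out Nat.prime_three).1 h1
      rw [this]
      norm_num

end main

end Cfsg.Agent.H126.P4
end
end

-- part: H126/P4/PSU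
section
prune_inst 0x880000000000000000000000000000000000000000000000000000000000800000000000000800000000008110000200200000000000000000000000000860010010008800000000000000000000000000000000000000000000000000000000
set_option linter.all false
open scoped Cfsg.Agent.FastGrp

/-!
# S3591, the row `PSU_n(u)`, `n ≥ 4` (helper126, task 1115 of helper379)
-/

set_option autoImplicit false
set_option linter.unusedSectionVars false
set_option linter.unusedVariables false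

namespace Cfsg.Agent.H126.P4

open Matrix Cfsg.Agent.H379.P4 Cfsg.Agent.H72.AdjPSU Cfsg.Agent.H103.UniBlock Cfsg.Agent.H186
  Cfsg.Agent.ClassicalGeometry.GUBasic Cfsg.Agent.H127

/-- `u ^ i - (-1) ^ i`. -/
def T (u i : ℕ) : ℕ := if Even i then u ^ i - 1 else u ^ i + 1

theorem T_pos {u i : ℕ} (hu : 2 ≤ u) (hi : i ≠ 0) : 0 < T u i := by
  rw [T]
  split_ifs
  · have : 1 < u ^ i := Nat.one_lt_pow hi (by omega)
    omega
  · omega

theorem T_int {u i : ℕ} (hu : 1 ≤ u) : (T u i : ℤ) = u ^ i - (-1) ^ i := by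
  rw [T]
  split_ifs with h
  · rw [h.neg_one_pow, Nat.cast_sub (Nat.one_le_pow _ _ hu)]
    push_cast
    ring
  · rw [(Nat.not_even_iff_odd.1 h).neg_one_pow]
    push_cast
    ring

theorem dvd_T_iff {u i d : ℕ} (hu : 1 ≤ u) : d ∣ T u i ↔ (-(u : ZMod d)) ^ i = 1 := by
  rw [T]
  split_ifs with he
  · rw [he.neg_pow, ← ZMod.natCast_eq_zero_iff, Nat.cast_sub (Nat.one_le_pow _ _ hu)]
    push_cast
    exact sub_eq_zero
  · rw [(Nat.not_even_iff_odd.1 he).neg_pow, ← ZMod.natCast_eq_zero_iff]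
    push_cast
    constructor
    · intro h
      linear_combination -h
    · intro h
      linear_combination -h

theorem dvd_T {u i d : ℕ} (hu : 1 ≤ u) : d ∣ T u i ↔ nu u d ∣ i := by
  rw [dvd_T_iff hu, nu, orderOf_dvd_iff_pow_eq_one]

section elements

variable {F : Type*} [Field F] [Fintype F] {u n : ℕ}

/-- Unitary matrices of order `T u a`. -/
theorem exists_uni (hF : Fintype.card F = u ^ 2) {a : ℕ} (ha : a ≠ 0) :
    ∃ A : (Matrix (Fin a) (Fin a) F)ˣ, Uni u (A : Matrix (Fin a) (Fin a) F) ∧ orderOf A = T u a := by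
  have hq := two_le hF
  obtain ⟨p, hp⟩ := CharP.exists F
  have : Fact p.Prime := ⟨CharP.char_is_prime F p⟩
  rw [T]
  split_ifs with he
  · obtain ⟨j, hj⟩ := he
    have hj2 : a = 2 * j := by omega
    subst hj2
    obtain ⟨A, hA⟩ := exists_singer F (show j ≠ 0 by omega)
    have hA' : orderOf A = u ^ (2 * j) - 1 := by rw [hA, hF, ← pow_mul]
    let A' : GL (Fin j) F := A
    have hpow : ∀ k : ℕ, (fromBlocks (A' : Matrix (Fin j) (Fin j) F) 0 0 (st u ((A'⁻¹ : GL (Fin j) F) :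
        Matrix (Fin j) (Fin j) F))) ^ k = fromBlocks ((A' ^ k : GL (Fin j) F) : Matrix (Fin j) (Fin j) F) 0 0
          (st u (((A' ^ k)⁻¹ : GL (Fin j) F) : Matrix (Fin j) (Fin j) F)) := by
      intro k
      induction k with
      | zero =>
        rw [pow_zero, pow_zero, inv_one, Units.val_one, st_one hF, fromBlocks_one]
      | succ k ih =>
        rw [pow_succ, ih, fromBlocks_multiply, pow_succ, _root_.mul_inv_rev, Units.val_mul, Units.val_mul, st_mul hF]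
        simp only [Matrix.mul_zero, Matrix.zero_mul, add_zero, zero_add]
    let e : Fin (2 * j) ≃ Fin j ⊕ Fin j := (finCongr (two_mul j)).trans finSumFinEquiv.symm
    let B : Matrix (Fin j ⊕ Fin j) (Fin j ⊕ Fin j) F :=
      fromBlocks (A' : Matrix (Fin j) (Fin j) F) 0 0 (st u ((A'⁻¹ : GL (Fin j) F) : Matrix (Fin j) (Fin j) F))
    have hBu : IsUnit B.det := by
      rw [Matrix.det_fromBlocks_zero₂₁]
      refine IsUnit.mul ((Matrix.isUnit_iff_isUnit_det _).1 A'.isUnit) ?_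
      rw [det_st _ hF]
      exact ((Matrix.isUnit_iff_isUnit_det _).1 (A'⁻¹).isUnit).pow u
    have hBu' : IsUnit (B.submatrix e e) := by
      rw [Matrix.isUnit_iff_isUnit_det, Matrix.det_submatrix_equiv_self]
      exact hBu
    have hs : ∀ k : ℕ, (B.submatrix e e) ^ k = (B ^ k).submatrix e e := by
      intro k
      induction k with
      | zero => rw [pow_zero, pow_zero, Matrix.submatrix_one_equiv]
      | succ k ih => rw [pow_succ, pow_succ, ih, Matrix.submatrix_mul_equiv]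
    refine ⟨hBu'.unit, uni_submatrix e (uni_hyp hF A'), ?_⟩
    rw [← hA']
    apply orderOf_eq_orderOf_iff.2
    intro k
    have h1 : hBu'.unit ^ k = 1 ↔ (B.submatrix e e) ^ k = 1 := by
      rw [← Units.val_inj, Units.val_pow_eq_pow_val, IsUnit.unit_spec, Units.val_one]
    rw [h1, hs]
    constructor
    · intro h2
      have h3 : B ^ k = 1 := by
        have h4 := congrArg (fun M => M.submatrix e.symm e.symm) h2
        simp only [Matrix.submatrix_submatrix, Matrix.submatrix_one_equiv] at h4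
        rw [← h4]
        ext i j
        simp
      rw [hpow, ← fromBlocks_one, fromBlocks_inj] at h3
      exact Units.ext h3.1
    · intro h2
      have h3 : A' ^ k = 1 := h2
      rw [hpow, h3, inv_one, Units.val_one, st_one hF, fromBlocks_one, Matrix.submatrix_one_equiv]
  · obtain ⟨j, hj, -⟩ := UnitRoots.exists_eq_pow hF p
    obtain ⟨A, hA, ho⟩ := exists_singer_unitary (p := p) hj hF (Nat.not_even_iff_odd.1 he)
    exact ⟨A, hA, ho⟩

theorem uni_scalar (hF : Fintype.card F = u ^ 2) {κ : Type*} [Fintype κ] [DecidableEq κ] {c : F} (hc : c ^ (u + 1) = 1) :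
    Uni u (c • (1 : Matrix κ κ F)) := by
  refine ⟨1, isUnit_one, ?_⟩
  rw [st_smul, st_one hF, Matrix.mul_one, Matrix.smul_mul, Matrix.one_mul, smul_smul, ← pow_succ, hc, one_smul]

/-- A full torus. -/
theorem torusU (hF : Fintype.card F = u ^ 2) {a : ℕ} (ha : a ≠ 0) (han : a + 2 ≤ n) :
    ∃ z : Cfsg.PSU n F u, orderOf z = T u a := by
  have hq := two_le hF
  obtain ⟨A, hAu, hA⟩ := exists_uni hF ha
  obtain ⟨c, hc⟩ : ∃ c, n = a + (1 + c) := ⟨n - a - 1, by omega⟩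
  have hc0 : 0 < c := by omega
  let e : Fin n ≃ Fin a ⊕ (Fin 1 ⊕ Fin c) :=
    ((finCongr hc).trans finSumFinEquiv.symm).trans (Equiv.sumCongr (Equiv.refl _) finSumFinEquiv.symm)
  have hdet0 : (A : Matrix (Fin a) (Fin a) F).det ≠ 0 :=
    ((Matrix.isUnit_iff_isUnit_det _).1 A.isUnit).ne_zero
  have hdet1 : (A : Matrix (Fin a) (Fin a) F).det⁻¹ ^ (u + 1) = 1 := by
    rw [inv_pow, _root_.Cfsg.Agent.H72.AdjPSU.det_pow hF hAu, inv_one]
  refine exists_order_of_index hF (by omega) e (A := fromBlocks (A : Matrix (Fin a) (Fin a) F) 0 0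
    (fromBlocks ((A : Matrix (Fin a) (Fin a) F).det⁻¹ • 1) 0 0 1))
    (uni_fromBlocks (by omega) hAu (uni_fromBlocks (by omega) (uni_scalar hF hdet1) (uni_one hF))) ?_ (N := T u a) ?_ _
    dvd_rfl
  · rw [Matrix.det_fromBlocks_zero₂₁, Matrix.det_fromBlocks_zero₂₁, det_fin_one, Matrix.det_one, mul_one,
      mul_inv_cancel₀ hdet0]
  · intro k t hk
    rw [fromBlocks_pow, fromBlocks_pow, one_pow] at hk
    obtain ⟨h1, h2⟩ := fromBlocks_eq_smul hk
    obtain ⟨h3, h4⟩ := fromBlocks_eq_smul h2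
    have ht : t = 1 := by
      have := congrFun (congrFun h4 ⟨0, hc0⟩) ⟨0, hc0⟩
      simpa using this.symm
    rw [ht, one_smul] at h1
    rw [← hA]
    apply orderOf_dvd_of_pow_eq_one
    apply Units.ext
    rw [Units.val_pow_eq_pow_val, h1, Units.val_one]

theorem add_one_dvd_T {a : ℕ} (hu : 1 ≤ u) : u + 1 ∣ T u a := by
  rw [dvd_T_iff hu]
  have h1 : (-(u : ZMod (u + 1))) = 1 := by
    have h2 : ((u + 1 : ℕ) : ZMod (u + 1)) = 0 := ZMod.natCast_self _
    push_cast at h2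
    linear_combination -h2
  rw [h1, one_pow]

/-- The torus of rank `n - 1`. -/
theorem torusU' (hF : Fintype.card F = u ^ 2) {a : ℕ} (ha : a ≠ 0) (han : a + 1 = n) (hn : 3 ≤ n) :
    ∃ z : Cfsg.PSU n F u, orderOf z = T u a / Nat.gcd n (u + 1) := by
  have hq := two_le hF
  obtain ⟨A, hAu, hA⟩ := exists_uni hF ha
  let e : Fin n ≃ Fin a ⊕ Fin 1 := (finCongr han.symm).trans finSumFinEquiv.symm
  have hdet0 : (A : Matrix (Fin a) (Fin a) F).det ≠ 0 :=
    ((Matrix.isUnit_iff_isUnit_det _).1 A.isUnit).ne_zero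
  have hdet1 : (A : Matrix (Fin a) (Fin a) F).det⁻¹ ^ (u + 1) = 1 := by
    rw [inv_pow, _root_.Cfsg.Agent.H72.AdjPSU.det_pow hF hAu, inv_one]
  set g := Nat.gcd n (u + 1) with hg
  have hgd : g ∣ T u a := (Nat.gcd_dvd_right _ _).trans (add_one_dvd_T (by omega))
  have hg0 : 0 < g := Nat.gcd_pos_of_pos_right _ (by omega)
  refine exists_order_of_index hF hn e (A := fromBlocks (A : Matrix (Fin a) (Fin a) F) 0 0
    ((A : Matrix (Fin a) (Fin a) F).det⁻¹ • 1)) (uni_fromBlocks (by omega) hAu (uni_scalar hF hdet1)) ?_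
    (N := T u a / g) ?_ _ dvd_rfl
  · rw [Matrix.det_fromBlocks_zero₂₁, det_fin_one, mul_inv_cancel₀ hdet0]
  · intro k t hk
    rw [fromBlocks_pow] at hk
    obtain ⟨h1, h2⟩ := fromBlocks_eq_smul hk
    have h3 : (A : Matrix (Fin a) (Fin a) F).det⁻¹ ^ k = t := by
      rw [smul_pow, one_pow] at h2
      have := congrFun (congrFun h2 0) 0
      simpa only [_root_.inv_pow, _root_.Fin.isValue, _root_.Matrix.smul_apply, _root_.Matrix.one_apply_eq, _root_.smul_eq_mul, _root_.mul_one] using this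
    have h4 : (A : Matrix (Fin a) (Fin a) F).det ^ k = t ^ a := by
      rw [← Matrix.det_pow, h1, Matrix.det_smul, Matrix.det_one, mul_one, Fintype.card_fin]
    have h5 : t ^ n = 1 := by
      rw [← han, pow_succ, ← h4, ← h3, ← mul_pow, mul_inv_cancel₀ hdet0, one_pow]
    have h6 : t ^ (u + 1) = 1 := by
      rw [← h3, ← pow_mul, mul_comm k, pow_mul, hdet1, one_pow]
    have h7 : t ^ g = 1 := by
      rw [hg, ← orderOf_dvd_iff_pow_eq_one]
      exact Nat.dvd_gcd (orderOf_dvd_of_pow_eq_one h5) (orderOf_dvd_of_pow_eq_one h6)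
    have h8 : A ^ (k * g) = 1 := by
      apply Units.ext
      rw [Units.val_pow_eq_pow_val, pow_mul, h1, smul_pow, one_pow, h7, one_smul, Units.val_one]
    have h9 := orderOf_dvd_of_pow_eq_one h8
    rw [hA] at h9
    obtain ⟨m, hm⟩ := hgd
    rw [hm, Nat.mul_div_cancel_left _ hg0]
    rw [hm, mul_comm k g] at h9
    exact Nat.dvd_of_mul_dvd_mul_left hg0 h9

end elements

section main

variable {p q n u : ℕ} {F : Type*} [Field F] [Fintype F]

/-- The order of `u²` modulo `r`. -/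
theorem ord_sq {r : ℕ} : orderOf ((u ^ 2 : ℕ) : ZMod r) = nu u r / Nat.gcd (nu u r) 2 := by
  have h1 : ((u ^ 2 : ℕ) : ZMod r) = (-(u : ZMod r)) ^ 2 := by
    push_cast
    ring
  rw [h1, orderOf_pow' _ two_ne_zero]
  rfl

/-- An element of order `r s` of `PSU` gives one of `PSL_n(u²)`. -/
theorem to_psl (hF : Fintype.card F = u ^ 2) {m : ℕ} (hm : Nat.Coprime m (u ^ 2 - 1)) (hm0 : m ≠ 0) {x : Cfsg.PSU n F u}
    (hx : m ∣ orderOf x) : ∃ z : Matrix.ProjectiveSpecialLinearGroup (Fin n) F, orderOf z = m := by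
  classical
  obtain ⟨g, rfl⟩ := QuotientGroup.mk'_surjective _ x
  have h1 : m ∣ orderOf g := hx.trans (orderOf_map_dvd _ g)
  have hg0 : orderOf g ≠ 0 := (orderOf_pos g).ne'
  set y : Cfsg.SU n F u := g ^ (orderOf g / m) with hy
  have hym : orderOf y = m := orderOf_pow_orderOf_div hg0 h1
  set y' : Matrix.SpecialLinearGroup (Fin n) F := (y : Matrix.SpecialLinearGroup (Fin n) F) with hy'
  have hym' : orderOf y' = m := by rw [hy', Subgroup.orderOf_coe, hym]
  refine ⟨QuotientGroup.mk' _ y', Nat.dvd_antisymm ?_ ?_⟩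
  · rw [← hym']
    exact orderOf_map_dvd _ _
  · set z := (QuotientGroup.mk' (Subgroup.center (Matrix.SpecialLinearGroup (Fin n) F))) y' with hz
    have h2 : y' ^ orderOf z ∈ Subgroup.center (Matrix.SpecialLinearGroup (Fin n) F) := by
      rw [← QuotientGroup.eq_one_iff]
      have h3 : z ^ orderOf z = 1 := pow_orderOf_eq_one z
      rw [hz, ← map_pow] at h3
      exact h3
    have h3 := S2468.center_pow _ h2
    rw [← pow_mul, Nat.card_eq_fintype_card, hF] at h3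
    have h4 := orderOf_dvd_of_pow_eq_one h3
    rw [hym'] at h4
    exact hm.dvd_of_dvd_mul_right h4

/-- No element whose order is divisible by primes of the classes `n - 1` and `n`. -/
theorem no_adj (hF : Fintype.card F = u ^ 2) (hn : 4 ≤ n) {r s : ℕ} (hr : r.Prime) (hs : s.Prime) (hr2 : r ≠ 2)
    (hs2 : s ≠ 2) (hru : ¬ r ∣ u) (hsu : ¬ s ∣ u) (hrs : r ≠ s) (h1 : nu u r = n - 1) (h2 : nu u s = n)
    {x : Cfsg.PSU n F u} (hx : r * s ∣ orderOf x) : False := by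
  have hq := two_le hF
  obtain ⟨ℓ, hℓ⟩ := CharP.exists F
  have hℓp : Fact ℓ.Prime := ⟨CharP.char_is_prime F ℓ⟩
  obtain ⟨j, hj, hj0⟩ := UnitRoots.exists_eq_pow hF ℓ
  have hℓu : ℓ ∣ u := by
    rw [hj]
    apply dvd_pow_self
    rintro rfl
    rw [pow_zero] at hj
    omega
  have hnot : ∀ r : ℕ, r.Prime → nu u r = n - 1 ∨ nu u r = n → Nat.Coprime r (u ^ 2 - 1) := by
    intro r hr h
    rw [Nat.Prime.coprime_iff_not_dvd hr]
    intro hd
    have h3 : r ∣ T u 2 := by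
      rw [T, if_pos even_two]
      exact hd
    rw [dvd_T (by omega)] at h3
    have := Nat.le_of_dvd (by norm_num) h3
    omega
  obtain ⟨z, hz⟩ := to_psl hF ((hnot r hr (Or.inl h1)).mul_left (hnot s hs (Or.inr h2)))
    (Nat.mul_ne_zero hr.ne_zero hs.ne_zero) hx
  have hcard : r * s ∣ Nat.card (Matrix.ProjectiveSpecialLinearGroup (Fin n) F) := hz ▸ orderOf_dvd_natCard z
  have hrp : r ≠ ℓ := by
    rintro rfl
    exact hru hℓu
  have hsp : s ≠ ℓ := by
    rintro rfl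
    exact hsu hℓu
  rcases Nat.even_or_odd n with he | ho
  · -- `ord r = n - 1`, `ord s = n / 2`
    obtain ⟨m, hm⟩ := he
    have e1 : n - 1 = orderOf ((Fintype.card F : ℕ) : ZMod r) := by
      rw [hF, ord_sq, h1]
      have : Nat.gcd (n - 1) 2 = 1 := by
        rw [Nat.gcd_comm, ← Nat.coprime_iff_gcd_eq_one, Nat.coprime_two_left, Nat.odd_iff]
        (clear * - hn h2 hrp hsp hm; omega)
      rw [this, Nat.div_one]
    have e2 : m = orderOf ((Fintype.card F : ℕ) : ZMod s) := by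
      rw [hF, ord_sq, h2]
      have : Nat.gcd n 2 = 2 := Nat.gcd_eq_right ⟨m, by omega⟩
      rw [this]
      omega
    have := (S2468.result (F := F) ℓ n (by omega) (by omega) s r hs hr hs2 hr2 hsp hrp hrs.symm
      ((Dvd.intro_left _ rfl).trans hcard) ((Dvd.intro _ rfl).trans hcard) m (n - 1) e2 e1 (by omega) (by (clear * - hm; omega))).2
      ⟨by (clear * - hn hm; omega), fun hd => by
        have h4 : m ∣ n - (n - 1) := Nat.dvd_sub ⟨2, by omega⟩ hd
        have := Nat.le_of_dvd (by (clear * - hn h2 hrp hsp hm e1 e2; omega)) h4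
        (clear * - hn hm this; omega)⟩
    exact this ⟨z, by rw [hz, mul_comm]⟩
  · -- `ord r = (n - 1) / 2`, `ord s = n`
    obtain ⟨m, hm⟩ := ho
    have e1 : m = orderOf ((Fintype.card F : ℕ) : ZMod r) := by
      rw [hF, ord_sq, h1]
      have : Nat.gcd (n - 1) 2 = 2 := Nat.gcd_eq_right ⟨m, by (clear * - hm; omega)⟩
      rw [this]
      (clear * - hm; omega)
    have e2 : n = orderOf ((Fintype.card F : ℕ) : ZMod s) := by
      rw [hF, ord_sq, h2]
      have : Nat.gcd n 2 = 1 := by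
        rw [Nat.gcd_comm, ← Nat.coprime_iff_gcd_eq_one, Nat.coprime_two_left, Nat.odd_iff]
        omega
      rw [this, Nat.div_one]
    have := (S2468.result (F := F) ℓ n (by omega) (by omega) r s hr hs hr2 hs2 hrp hsp hrs
      ((Dvd.intro _ rfl).trans hcard) ((Dvd.intro_left _ rfl).trans hcard) m n e1 e2 (by omega) (by omega)).2
      ⟨by omega, fun hd => by
        have h4 : m ∣ n - 2 * m := Nat.dvd_sub hd (Dvd.intro_left _ rfl)
        have := Nat.le_of_dvd (by omega) h4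
        omega⟩
    exact this ⟨z, hz⟩

/-- The class of the prime divisors of `R`. -/
theorem exists_classU (hF : Fintype.card F = u ^ 2) (hP : Par p q) (hn : 4 ≤ n) (h : Hyp p q (Cfsg.PSU n F u)) :
    ∃ k, (k = n - 1 ∨ k = n) ∧ ∀ r : ℕ, r.Prime → r ∣ R q → ¬ r ∣ u ∧ nu u r = k := by
  classical
  have hq1 := two_le hF
  have key : ∀ r : ℕ, r.Prime → r ∣ R q → ¬ r ∣ u ∧ (nu u r = n - 1 ∨ nu u r = n) := by
    intro r hr hrR
    have hr2 : r ≠ 2 := by
      rintro rfl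
      exact hP.two hrR
    have h1 : n < wU u r + wU u 2 := by
      by_contra hcon
      rw [not_lt] at hcon
      obtain ⟨z, hz⟩ := adj_of_wU hF (by omega) hr Nat.prime_two hr2 hcon
      exact h.not_two hP hr hrR ⟨z, by rw [hz, mul_comm]⟩
    have h2 : wU u 2 = 2 := by
      rw [wU, if_pos]
      rcases Nat.even_or_odd u with he | ho
      · exact Or.inl he.two_dvd
      · right
        obtain ⟨m, hm⟩ := ho
        exact ⟨m + 1, by omega⟩
    rw [h2, wU] at h1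
    split_ifs at h1 with h3
    · omega
    · rw [not_or] at h3
      have h4 := nu_le (n := n) hF (by omega) hr h3.1 (hrR.trans h.dvd_card)
      exact ⟨h3.1, by omega⟩
  obtain ⟨r0, hr0, -, hrR0, -⟩ := h.exists_prime hP
  refine ⟨nu u r0, (key r0 hr0 hrR0).2, fun r hr hrR => ⟨(key r hr hrR).1, ?_⟩⟩
  by_contra hne
  have hrr : r ≠ r0 := by
    rintro rfl
    exact hne rfl
  have main : ∀ r s : ℕ, r.Prime → s.Prime → r ∣ R q → s ∣ R q → r ≠ s → nu u r = n - 1 → nu u s = n → False := by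
    intro r s hr hs hrR hsR hrs hk hl
    have hr2 : r ≠ 2 := by
      rintro rfl
      exact hP.two hrR
    have hs2 : s ≠ 2 := by
      rintro rfl
      exact hP.two hsR
    obtain ⟨x, hx⟩ := h.ex
    refine no_adj hF hn hr hs hr2 hs2 (key r hr hrR).1 (key s hs hsR).1 hrs hk hl (x := x) ?_
    rw [hx]
    exact ((Nat.coprime_primes hr hs).2 hrs).mul_dvd_of_dvd_of_dvd hrR hsR
  rcases (key r hr hrR).2 with h1 | h1 <;> rcases (key r0 hr0 hrR0).2 with h2 | h2
  · exact hne (h1.trans h2.symm)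
  · exact main r r0 hr hr0 hrR hrR0 hrr h1 h2
  · exact main r0 r hr0 hr hrR0 hrR hrr.symm h2 h1
  · exact hne (h1.trans h2.symm)

theorem cop_of_classU {k : ℕ} (hu : 1 ≤ u) (hk : ∀ r : ℕ, r.Prime → r ∣ R q → ¬ r ∣ u ∧ nu u r = k) {i : ℕ}
    (hi : ¬ k ∣ i) : Nat.Coprime (R q) (T u i) :=
  Nat.coprime_of_dvd fun r hr h1 h2 => hi ((hk r hr h1).2 ▸ (dvd_T hu).1 h2)

theorem cop_uU {k : ℕ} (hk : ∀ r : ℕ, r.Prime → r ∣ R q → ¬ r ∣ u ∧ nu u r = k) : Nat.Coprime (R q) u :=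
  Nat.coprime_of_dvd fun r hr h1 h2 => (hk r hr h1).1 h2

/-- `R ∣ u ^ k - (-1) ^ k`. -/
theorem R_dvdU (hF : Fintype.card F = u ^ 2) (hn : 4 ≤ n) (h : Hyp p q (Cfsg.PSU n F u)) {k : ℕ}
    (hkn : k = n - 1 ∨ k = n) (hk : ∀ r : ℕ, r.Prime → r ∣ R q → ¬ r ∣ u ∧ nu u r = k) : R q ∣ T u k := by
  classical
  have hq1 := two_le hF
  have h1 : R q ∣ u ^ (n * (n - 1) / 2) * ∏ i ∈ Finset.range n, (if Even i then u ^ (i + 1) + 1 else u ^ (i + 1) - 1) := by
    rw [← S0280.result hF n (by omega)]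
    exact ((h.dvd_card.trans (Dvd.intro_left _ rfl)).trans (Dvd.intro_left _ rfl))
  have h2 := ((cop_uU hk).pow_right _).dvd_of_dvd_mul_left h1
  have h3 : ∀ i, (if Even i then u ^ (i + 1) + 1 else u ^ (i + 1) - 1) = T u (i + 1) := by
    intro i
    rw [T]
    split_ifs with h4 h5 h5
    · rw [Nat.even_add_one] at h5
      exact absurd h4 h5
    · rfl
    · rfl
    · rw [Nat.even_add_one, not_not] at h5
      exact absurd h5 h4
  simp only [h3] at h2
  have hmem : k - 1 ∈ Finset.range n := Finset.mem_range.2 (by omega)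
  rw [← Finset.mul_prod_erase _ _ hmem, show k - 1 + 1 = k by omega] at h2
  refine Nat.Coprime.dvd_of_dvd_mul_right ?_ h2
  apply Nat.Coprime.prod_right
  intro i hi
  apply cop_of_classU (by omega) hk
  intro hd
  have h4 : i ≠ k - 1 := Finset.ne_of_mem_erase hi
  have h5 := Finset.mem_range.1 (Finset.mem_of_mem_erase hi)
  obtain ⟨c, hc⟩ := hd
  rcases Nat.lt_or_ge c 2 with hc2 | hc2
  · interval_cases c
    · omega
    · omega
  · have : k * 2 ≤ k * c := Nat.mul_le_mul_left _ hc2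
    omega

theorem dvd_geomU (hu : 1 ≤ u) : (u + 1) * Nat.gcd n (u + 1) ∣ T u n := by
  set g := Nat.gcd n (u + 1) with hg
  rw [← Int.natCast_dvd_natCast, T_int hu]
  push_cast
  have h1 : (-(u : ℤ)) ≡ 1 [ZMOD g] := by
    have h2 : (g : ℤ) ∣ ((u + 1 : ℕ) : ℤ) := Int.natCast_dvd_natCast.2 (Nat.gcd_dvd_right _ _)
    rw [Int.modEq_iff_dvd]
    push_cast at h2
    have e : (1 : ℤ) - -(u : ℤ) = u + 1 := by ring
    rw [e]
    exact h2
  have h2 : (∑ i ∈ Finset.range n, (-(u : ℤ)) ^ i) ≡ n [ZMOD g] := by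
    have h3 : (∑ i ∈ Finset.range n, (-(u : ℤ)) ^ i) ≡ (∑ i ∈ Finset.range n, 1) [ZMOD g] := by
      apply Int.ModEq.sum
      intro i _
      have := h1.pow i
      rwa [one_pow] at this
    rwa [Finset.sum_const, Finset.card_range, nsmul_eq_mul, mul_one] at h3
  have h3 : (g : ℤ) ∣ ∑ i ∈ Finset.range n, (-(u : ℤ)) ^ i := by
    have h4 : (n : ℤ) ≡ 0 [ZMOD g] := (Int.modEq_zero_iff_dvd).2 (Int.natCast_dvd_natCast.2 (Nat.gcd_dvd_left _ _))
    exact (Int.modEq_zero_iff_dvd).1 (h2.trans h4)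
  have h4 : (u : ℤ) ^ n - (-1) ^ n = ((u + 1) * (∑ i ∈ Finset.range n, (-(u : ℤ)) ^ i)) * (-(-1) ^ n) := by
    have h5 := geom_sum_mul (-(u : ℤ)) n
    have h6 : (-(u : ℤ)) ^ n = (-1) ^ n * u ^ n := by rw [neg_pow]
    have h7 : ((-1 : ℤ) ^ n) * (-1) ^ n = 1 := by
      rw [← mul_pow]
      norm_num
    have h8 : ((u : ℤ) + 1) * (∑ i ∈ Finset.range n, (-(u : ℤ)) ^ i) = 1 - (-1) ^ n * u ^ n := by
      rw [← h6]
      linear_combination -h5
    rw [h8]
    linear_combination (-(u : ℤ) ^ n) * h7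
  rw [h4]
  exact (mul_dvd_mul_left _ h3).mul_right _

theorem lcm_boundU {k A B g : ℕ} (hu : 2 ≤ u) (hk : 3 ≤ k) (hA : A * g = T u (k - 1)) (hB : B = T u (k - 2)) :
    T u (k - 1) * T u (k - 2) ≤ Nat.lcm A B * (u + 1) * g := by
  have h1 : Nat.gcd A B ∣ u + 1 := by
    have h2 : Nat.gcd A B ∣ T u (k - 1) := (Nat.gcd_dvd_left _ _).trans (hA ▸ Dvd.intro _ rfl)
    have h3 : Nat.gcd A B ∣ T u (k - 2) := (Nat.gcd_dvd_right _ _).trans (by rw [hB])
    rw [dvd_T (by omega)] at h2 h3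
    have h4 := Nat.dvd_sub h2 h3
    rw [show k - 1 - (k - 2) = 1 by omega, Nat.dvd_one] at h4
    exact dvd_of_nu_eq_one h4
  have h2 := Nat.le_of_dvd (by omega) h1
  rw [← hA, ← hB]
  calc A * g * B = (A * B) * g := by ring
    _ = (Nat.gcd A B * Nat.lcm A B) * g := by rw [Nat.gcd_mul_lcm]
    _ ≤ ((u + 1) * Nat.lcm A B) * g := Nat.mul_le_mul_right _ (Nat.mul_le_mul_right _ h2)
    _ = _ := by ring

/-- **Task 1115.** -/
theorem psu (hP : Par p q) (hn : 4 ≤ n) (hF : Fintype.card F = u ^ 2) (h : Hyp p q (Cfsg.PSU n F u)) : False := by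
  classical
  have hu := two_le hF
  obtain ⟨k, hkn, hk⟩ := exists_classU hF hP hn h
  have hRd := R_dvdU hF hn h hkn hk
  have hR17 := hP.R_big
  obtain ⟨ℓ, hℓ⟩ := CharP.exists F
  have hℓp : Fact ℓ.Prime := ⟨CharP.char_is_prime F ℓ⟩
  obtain ⟨j, hj, -⟩ := UnitRoots.exists_eq_pow hF ℓ
  have hℓd : ℓ ∣ u := by
    rw [hj]
    apply dvd_pow_self
    rintro rfl
    rw [pow_zero] at hj
    omega
  -- the characteristic
  have hLℓ : Lam p q ℓ := by
    obtain ⟨z, hz⟩ := exists_order_of_block_lt (n := n) hF (by omega) (hasBlock_char hF ℓ) (by omega) ℓ dvd_rfl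
    exact h.lam hP ⟨z, hz⟩ (Or.inl (Nat.Coprime.coprime_dvd_right hℓd (cop_uU hk)))
  have hcop : ∀ {i : ℕ}, ¬ k ∣ i → Nat.Coprime (R q) (T u i) := fun hi => cop_of_classU (by omega) hk hi
  -- the tori
  have hLt : ∀ {a : ℕ}, a ≠ 0 → a + 2 ≤ n → ¬ k ∣ a → Lam p q (T u a) := by
    intro a ha han hka
    exact h.lam hP (torusU hF ha han) (Or.inl (hcop hka))
  have hcopℓ : ∀ {i : ℕ}, i ≠ 0 → Nat.Coprime ℓ (T u i) := by
    intro i hi
    rw [Nat.Prime.coprime_iff_not_dvd hℓp.out, dvd_T_iff (by omega)]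
    intro h1
    have h2 : (u : ZMod ℓ) = 0 := (ZMod.natCast_eq_zero_iff _ _).2 hℓd
    rw [h2, neg_zero, zero_pow hi] at h1
    exact zero_ne_one h1
  have hℓ2 := hℓp.out.two_le
  have hT1 : T u 1 = u + 1 := by rw [T, if_neg (by decide), pow_one]
  have hT2 : T u 2 = u ^ 2 - 1 := by rw [T, if_pos (by decide)]
  have hT3 : T u 3 = (u ^ 2 - u + 1) * (u + 1) := by
    rw [T, if_neg (by decide)]
    obtain ⟨v, hv⟩ : ∃ v, u = v + 1 := ⟨u - 1, by omega⟩
    rw [hv]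
    have : (v + 1) ^ 2 - (v + 1) = v * (v + 1) := by
      have : (v + 1) ^ 2 = v * (v + 1) + (v + 1) := by ring
      omega
    rw [this]
    ring
  have hT4 : T u 4 = (u ^ 2 + 1) * (u ^ 2 - 1) := by
    rw [T, if_pos (by decide)]
    obtain ⟨v, hv⟩ : ∃ v, u ^ 2 = v + 1 := ⟨u ^ 2 - 1, by
      have := Nat.one_le_pow 2 u (by omega)
      omega⟩
    have h4 : u ^ 4 = u ^ 2 * u ^ 2 := by ring
    rw [h4, hv, Nat.add_sub_cancel]
    have : (v + 1) * (v + 1) = (v + 1 + 1) * v + 1 := by ring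
    rw [this]
    simp
  have hu2 : 1 ≤ u ^ 2 := Nat.one_le_pow _ _ (by omega)
  have huu : u ≤ u ^ 2 := by nlinarith only []
  have hcop1 : Nat.Coprime (R q) (u + 1) := by
    have := hcop (i := 1) (by
      intro hd
      have := Nat.le_of_dvd (by norm_num) hd
      omega)
    rwa [hT1] at this
  rcases (by omega : k = 3 ∨ k = 4 ∨ 5 ≤ k) with hk' | hk' | hk'
  · -- `n = 4`, `R ∣ u ^ 2 - u + 1`
    subst hk'
    have hn4 : n = 4 := by omega
    rw [hT3] at hRd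
    have hRd' := hcop1.dvd_of_dvd_mul_right hRd
    have hRle := Nat.le_of_dvd (by omega) hRd'
    obtain ⟨d, c, hdc, hc0, hc2, hd1⟩ := exists_d (u := u) (by omega)
    have hdu : d ∣ T u 4 := by
      rw [hT4, ← hdc, mul_assoc]
      exact Dvd.intro _ rfl
    have hd1' : Nat.Coprime d (u + 1) := Nat.Coprime.coprime_dvd_right (by
      rw [← hT2]
      exact add_one_dvd_T (by omega)) hd1
    have hLd : Lam p q d := by
      have hdu' : d ∣ u ^ (2 * 2) - 1 := by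
        rw [T, if_pos (by decide)] at hdu
        exact hdu
      apply h.lam hP (exists_order_of_block (n := n) hF (by omega) (hasBlock_even hF (j := 2) (by norm_num) hdu' hd1')
        (by norm_num) (by omega) hd1' d dvd_rfl)
      left
      exact Nat.Coprime.coprime_dvd_right hdu (hcop (by norm_num))
    have hL2 := hLt (a := 2) (by norm_num) (by omega) (by norm_num)
    rw [hT2] at hL2
    have hLN := hLℓ.mul (hL2.mul hLd hd1.symm) (Nat.Coprime.mul_right (by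
      rw [← hT2]
      exact hcopℓ (by norm_num)) (Nat.Coprime.coprime_dvd_right hdu (hcopℓ (by norm_num))))
    have hsize := hP.size hLN
    have hu4 : 4 ≤ u := by
      by_contra hcon
      rw [not_le] at hcon
      interval_cases u <;> omega
    have hRle' : R q ≤ u ^ 2 + u + 1 := by omega
    zify [hu2] at hsize hRle' hdc
    exact three (u := u) (l := ℓ) (c := c) (d := d) (by exact_mod_cast hu4) (by exact_mod_cast hℓ2)
      (by exact_mod_cast hc0) (by exact_mod_cast hc2) hdc (by positivity) hRle' hsize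
  · -- `R ∣ u ^ 2 + 1`
    subst hk'
    rw [hT4] at hRd
    have hc2 := hcop (i := 2) (by norm_num)
    rw [hT2] at hc2
    have hRd' := hc2.dvd_of_dvd_mul_right hRd
    have hRle := Nat.le_of_dvd (by positivity) hRd'
    have hL3 : Lam p q (u ^ 2 - u + 1) := by
      rcases hkn with hkn | hkn
      · exact (hLt (a := 3) (by norm_num) (by omega) (by norm_num)).dvd ⟨_, hT3⟩
      · have hgd : Nat.gcd n (u + 1) ∣ T u 3 := (Nat.gcd_dvd_right _ _).trans (add_one_dvd_T (by omega))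
        have h4 := h.lam hP (torusU' (n := n) hF (a := 3) (by norm_num) (by omega) (by omega)) (by
          left
          exact Nat.Coprime.coprime_dvd_right (Nat.div_dvd_of_dvd hgd) (hcop (by norm_num)))
        apply h4.dvd
        rw [hT3, Nat.mul_div_assoc _ (Nat.gcd_dvd_right _ _)]
        exact Dvd.intro _ rfl
    have hL2 := hLt (a := 2) (by norm_num) (by omega) (by norm_num)
    rw [hT2] at hL2
    have hLN := hLℓ.mul (hL2.lcm hL3) (by
      have h4 : Nat.Coprime ℓ ((u ^ 2 - 1) * (u ^ 2 - u + 1)) :=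
        Nat.Coprime.mul_right (by rw [← hT2]; exact hcopℓ (by norm_num))
          (Nat.Coprime.coprime_dvd_right ⟨_, hT3⟩ (hcopℓ (by norm_num)))
      exact Nat.Coprime.coprime_dvd_right (Nat.lcm_dvd_mul _ _) h4)
    have hsize := hP.size hLN
    have hu4 : 4 ≤ u := by
      by_contra hcon
      rw [not_le] at hcon
      interval_cases u <;> omega
    have hg3 : Nat.gcd (u ^ 2 - 1) (u ^ 2 - u + 1) ∣ 3 := by
      have h4 := Nat.gcd_dvd_left (u ^ 2 - 1) (u ^ 2 - u + 1)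
      have h5 := Nat.gcd_dvd_right (u ^ 2 - 1) (u ^ 2 - u + 1)
      obtain ⟨v, hv⟩ : ∃ v, u = v + 2 := ⟨u - 2, by omega⟩
      have h6 : Nat.gcd (u ^ 2 - 1) (u ^ 2 - u + 1) ∣ v := by
        have h7 := Nat.dvd_sub h4 h5
        have h8 : u ^ 2 - 1 - (u ^ 2 - u + 1) = v := by (clear * - huu hv; omega)
        rwa [h8] at h7
      have h7 : Nat.gcd (u ^ 2 - 1) (u ^ 2 - u + 1) ∣ (u + 2) * v := h6.mul_left _
      have h8 := Nat.dvd_sub h4 h7
      have h9 : u ^ 2 - 1 - (u + 2) * v = 3 := by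
        rw [hv]
        have : (v + 2) ^ 2 = (v + 2 + 2) * v + 4 := by ring
        rw [this]
        omega
      rwa [h9] at h8
    have hN3 : (u ^ 2 - 1) * (u ^ 2 - u + 1) ≤ 3 * Nat.lcm (u ^ 2 - 1) (u ^ 2 - u + 1) := by
      conv_lhs => rw [← Nat.gcd_mul_lcm]
      exact Nat.mul_le_mul_right _ (Nat.le_of_dvd (by norm_num) hg3)
    zify [hu2, huu] at hsize hRle hN3
    exact four' (u := u) (l := ℓ) (by exact_mod_cast hu4) (by exact_mod_cast hℓ2) hN3 (by positivity) hRle hsize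
  · -- the torus of rank `k - 1`
    obtain ⟨g, hg, A, hA, hLA, hRg⟩ : ∃ g, 0 < g ∧ ∃ A, A * g = T u (k - 1) ∧ Lam p q A ∧
        R q * g * (u + 1) ∣ T u k := by
      rcases hkn with hkn | hkn
      · refine ⟨1, one_pos, T u (k - 1), mul_one _, hLt (by omega) (by omega) (by
          intro hd
          have := Nat.le_of_dvd (by omega) hd
          omega), ?_⟩
        rw [mul_one]
        exact Nat.Coprime.mul_dvd_of_dvd_of_dvd hcop1 hRd (add_one_dvd_T (by omega))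
      · have hg0 : 0 < Nat.gcd n (u + 1) := Nat.gcd_pos_of_pos_right _ (by omega)
        have hgd : Nat.gcd n (u + 1) ∣ T u (n - 1) := (Nat.gcd_dvd_right _ _).trans (add_one_dvd_T (by omega))
        refine ⟨Nat.gcd n (u + 1), hg0, T u (n - 1) / Nat.gcd n (u + 1), ?_, ?_, ?_⟩
        · rw [hkn]
          exact Nat.div_mul_cancel hgd
        · apply h.lam hP (torusU' hF (by omega) (by omega) (by omega))
          left
          apply Nat.Coprime.coprime_dvd_right (Nat.div_dvd_of_dvd hgd)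
          apply hcop
          intro hd
          have := Nat.le_of_dvd (by omega) hd
          omega
        · have h1 : (u + 1) * Nat.gcd n (u + 1) ∣ T u k := by
            rw [hkn]
            exact dvd_geomU (by omega)
          have h2 : Nat.Coprime (R q) ((u + 1) * Nat.gcd n (u + 1)) :=
            hcop1.mul_right (Nat.Coprime.coprime_dvd_right (Nat.gcd_dvd_right _ _) hcop1)
          have h3 := h2.mul_dvd_of_dvd_of_dvd hRd h1
          rwa [mul_comm (u + 1), ← mul_assoc] at h3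
    have hLB : Lam p q (T u (k - 2)) := hLt (by omega) (by omega) (by
      intro hd
      have := Nat.le_of_dvd (by omega) hd
      omega)
    have hLN := hLℓ.mul (hLA.lcm hLB) (by
      have h1 : Nat.Coprime ℓ (A * T u (k - 2)) :=
        Nat.Coprime.mul_right (Nat.Coprime.coprime_dvd_right ⟨g, hA.symm⟩ (hcopℓ (by omega))) (hcopℓ (by omega))
      exact Nat.Coprime.coprime_dvd_right (Nat.lcm_dvd_mul _ _) h1)
    have hsize := hP.size hLN
    have hlcm := lcm_boundU hu (by omega) hA rfl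
    have hRle := Nat.le_of_dvd (T_pos hu (by omega)) hRg
    -- to integers
    have hX1 : 1 ≤ u ^ (k - 2) := Nat.one_le_pow _ _ (by omega)
    zify at hlcm hRle hsize
    rw [T_int (by omega), T_int (by omega)] at hlcm
    rw [T_int (by omega)] at hRle
    have e1 : (u : ℤ) ^ (k - 1) = u * u ^ (k - 2) := by
      rw [← pow_succ']
      congr 1
      omega
    have e2 : (u : ℤ) ^ k = u ^ 2 * u ^ (k - 2) := by
      rw [← pow_add]
      congr 1
      omega
    have e3 : ((-1 : ℤ)) ^ (k - 1) = -(-1) ^ k := by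
      have : k = (k - 1) + 1 := by omega
      conv_rhs => rw [this, pow_succ]
      ring
    have e4 : ((-1 : ℤ)) ^ (k - 2) = (-1) ^ k := by
      have : k = (k - 2) + 2 := by omega
      conv_rhs => rw [this, pow_add]
      ring
    rw [e1, e3, e4, sub_neg_eq_add] at hlcm
    rw [e2] at hRle
    have hσ : ((-1 : ℤ)) ^ k = 1 ∨ ((-1 : ℤ)) ^ k = -1 := by
      rcases Nat.even_or_odd k with he | ho
      · exact Or.inl he.neg_one_pow
      · exact Or.inr ho.neg_one_pow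
    have hu' : (2 : ℤ) ≤ u := by exact_mod_cast hu
    have hX : (u : ℤ) ^ 3 ≤ (u : ℤ) ^ (k - 2) := pow_le_pow_right₀ (by linarith only [hu]) (by omega)
    exact contra' (U := u) (X := (u : ℤ) ^ (k - 2)) (l := ℓ) (g := g) (σ := (-1) ^ k) hu' (by exact_mod_cast hg)
      (by exact_mod_cast hX1) (by positivity) hσ hlcm hRle hsize (ki' hu' hX (by exact_mod_cast hℓ2) hσ)

end main

end Cfsg.Agent.H126.P4

private theorem dce_e56c50b963b0 : _root_.True := by
  try have : _root_.True := by simp only [_root_.Cfsg.Agent.H103.UniBlock.Uni.congr_simp]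
  try have : _root_.True := by simp only [_root_.Cfsg.Agent.H126.P4.T.eq_1]
  exact _root_.True.intro
end

-- part: H481/P4/Three
section
prune_inst 0x2020040c80000000000010000000042000000000200001682005000000c30000000900080005021046120010400000000000300000000000003000000200208028920412410104240001801004000000000000000000000000000000000000000000000
set_option linter.all false
open scoped Cfsg.Agent.FastGrp

/-!
# S3591: no simple section `PSL₃(u)`, `PSU₃(u)` (helper481)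

`U = u` for `PSL₃(u)`, `U = -u` for `PSU₃(u)`.
-/

set_option autoImplicit false

universe u v

namespace Cfsg.Agent.H481.P4

open Cfsg.Agent.H379.P4
open Cfsg.Agent.H374.Quad (Om)

variable {p q : ℕ}

/-- an element order divisible by `R` is `R` -/
theorem eq_R (hP : Par p q) {m : ℕ} (hm : Om p q m) (h : R q ∣ m) : m = R q := by
  have h17 := hP.R_big
  rcases hP.om_cases hm with h1 | h1
  · exact Nat.dvd_antisymm h1 h
  · have h2 := hP.coprime_lam h1
    have h3 : R q ∣ 1 := by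
      rw [← Nat.Coprime.gcd_eq_one h2]
      exact Nat.dvd_gcd dvd_rfl h
    have := Nat.le_of_dvd (by norm_num) h3
    omega

/-- an even element order is prime to `R` -/
theorem coprime_of_even (hP : Par p q) {m : ℕ} (hm : Om p q m) (h : 2 ∣ m) : Nat.Coprime (R q) m := by
  rcases hP.om_cases hm with h1 | h1
  · exact absurd (h.trans h1) hP.two
  · exact hP.coprime_lam h1

section

variable {U : ℤ} {d A B C D l : ℕ}

/-- the arithmetic data of `PSL₃(U)` -/
structure Dat (U : ℤ) (d A B C D l : ℕ) : Prop where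
  hd : d = 1 ∨ d = 3
  hdU : (d : ℤ) ∣ U - 1
  hU : U ≤ -2 ∨ 2 ≤ U
  hA : (d : ℤ) * A = U ^ 2 + U + 1
  hB : (d : ℤ) * B = U ^ 2 - 1
  hC : (C : ℤ) = U - 1 ∨ (C : ℤ) = 1 - U
  hD : d * D = l * C
  hl : (l = 2 ∧ U % 2 = 0) ∨ (l % 2 = 1 ∧ U % 2 = 1)

theorem sq_mod_eight {U : ℤ} (h : U % 2 = 1) : (U ^ 2) % 8 = 1 := by
  have : U % 8 = 1 ∨ U % 8 = 3 ∨ U % 8 = 5 ∨ U % 8 = 7 := by omega
  rcases this with h2 | h2 | h2 | h2 <;> rw [pow_two, Int.mul_emod, h2] <;> rfl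

theorem sq_mod_four {U : ℤ} (h : U % 2 = 0) : (U ^ 2) % 4 = 0 := by
  have : U % 4 = 0 ∨ U % 4 = 2 := by omega
  rcases this with h2 | h2 <;> rw [pow_two, Int.mul_emod, h2] <;> rfl

/-- `R = A` -/
theorem Dat.eq_A (h : Dat U d A B C D l) (hP : Par p q) (oA : Om p q A) (oB : Om p q B) (oC : Om p q C)
    (oD : Om p q D) (ex : R q ∣ A ∨ R q ∣ B ∨ R q ∣ C ∨ R q ∣ D ∨ R q ∣ 4) : A = R q := by
  have h17 := hP.R_big
  have h4 := hP.R_mod_four
  have hdd := h.hd
  have hB := h.hB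
  have hC := h.hC
  have hD := h.hD
  rcases ex with ex | ex | ex | ex | ex
  · exact eq_R hP oA ex
  · exfalso
    have h1 := eq_R hP oB ex
    have hev : U % 2 = 0 := by
      rcases h.hl with h2 | h2
      · exact h2.2
      · exfalso
        have h3 := sq_mod_eight h2.2
        rw [h1] at hB
        rcases hdd with rfl | rfl <;> push_cast at hB <;> omega
    have h3 := sq_mod_four hev
    rw [h1] at hB
    have hd3 : d = 3 := by
      rcases hdd with rfl | rfl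
      · exfalso
        push_cast at hB
        omega
      · rfl
    subst hd3
    have hl2 : l = 2 := by
      rcases h.hl with h2 | h2
      · exact h2.1
      · omega
    subst hl2
    obtain ⟨t, ht⟩ := h.hdU
    push_cast at ht hB
    -- `C = 3 c`
    have hc : ∃ c : ℕ, C = 3 * c ∧ ((c : ℤ) = t ∨ (c : ℤ) = -t) := by
      refine ⟨t.natAbs, ?_, ?_⟩
      · rcases hC with h5 | h5 <;> (clear * - ht h5; omega)
      · (clear * -; omega)
    obtain ⟨c, hc1, hc2⟩ := hc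
    have hD2 : D = 2 * c := by omega
    have hcop := coprime_of_even hP oD ⟨c, hD2⟩
    have hcR : c ∣ R q := by
      have h5 : (3 : ℤ) * (R q : ℤ) = 3 * (t * (U + 1)) := by
        rw [hB]
        have : U ^ 2 - 1 = (U - 1) * (U + 1) := by ring
        rw [this, ht]
        ring
      have h6 : (R q : ℤ) = t * (U + 1) := by
        have := mul_left_cancel₀ (by norm_num : (3 : ℤ) ≠ 0) h5
        exact this
      have h7 : (c : ℤ) ∣ (R q : ℤ) := by
        rw [h6]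
        rcases hc2 with h8 | h8
        · rw [h8]
          exact Dvd.intro _ rfl
        · rw [h8]
          exact ⟨-(U + 1), by ring⟩
      exact Int.natCast_dvd_natCast.1 h7
    have hc1' : c = 1 := by
      have h5 : Nat.Coprime (R q) c := Nat.Coprime.coprime_dvd_right ⟨2, by omega⟩ hcop
      exact Nat.dvd_one.1 (h5 ▸ Nat.dvd_gcd hcR dvd_rfl)
    have h5 : U = 4 ∨ U = -2 := by (clear * - ht hc2 hc1'; omega)
    rcases h5 with rfl | rfl <;> norm_num only [_root_.mul_eq_left₀, _root_.Nat.cast_eq_one] at hB <;> omega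
  · exfalso
    have h1 := eq_R hP oC ex
    have hl2 : l = 2 := by
      rcases h.hl with h2 | h2
      · exact h2.1
      · omega
    subst hl2
    have hcop := coprime_of_even hP oD (by rcases hdd with rfl | rfl <;> (clear * - hD; omega))
    have h5 : D ∣ R q * 2 := ⟨d, by rw [mul_comm D d, hD, h1]; ring⟩
    have h6 : D ∣ 2 := (Nat.Coprime.symm hcop).dvd_of_dvd_mul_left h5
    have h7 := Nat.le_of_dvd (by norm_num) h6
    rcases hdd with rfl | rfl <;> omega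
  · exfalso
    have h1 := eq_R hP oD ex
    rcases h.hl with h2 | h2
    · obtain ⟨rfl, h3⟩ := h2
      rcases hdd with rfl | rfl <;> (clear * - h4 h1 hD; omega)
    · have hCe : 2 ∣ C := by omega
      obtain ⟨c, rfl⟩ := hCe
      have h5 : 2 ∣ d * D := ⟨l * c, by rw [hD]; ring⟩
      rcases hdd with rfl | rfl <;> omega
  · exfalso
    have := Nat.le_of_dvd (by norm_num) ex
    omega

theorem Dat.bound (h : Dat U d A B C D l) (hP : Par p q) (hA : A = R q) : U ≠ 2 ∧ U ≠ -2 ∧ U ≠ 3 ∧ U ≠ -3 := by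
  have h17 := hP.R_big
  have h1 := h.hA
  rw [hA] at h1
  refine ⟨?_, ?_, ?_, ?_⟩ <;> rintro rfl <;> rcases h.hd with h2 | h2 <;> rw [h2] at h1 <;> norm_num only [_root_.one_mul, _root_.mul_eq_left₀, _root_.Nat.cast_eq_one] at h1 <;> omega

theorem Dat.false_of_dvd_R (h : Dat U d A B C D l) (hP : Par p q) (hA : A = R q) (hB : B ∣ R q) : False := by
  obtain ⟨k, hk⟩ := hB
  obtain ⟨n1, n2, n3, n4⟩ := h.bound hP hA
  have h17 := hP.R_big
  have h1 := h.hA
  have h2 := h.hB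
  have h3 : U ^ 2 + U + 1 = k * (U ^ 2 - 1) := by
    rw [← h1, ← h2, hA, hk]
    push_cast
    ring
  have hk0 : k ≠ 0 := by
    rintro rfl
    rw [mul_zero] at hk
    omega
  have hk1 : k ≠ 1 := by
    rintro rfl
    push_cast at h3
    have : U = -2 := by linarith only [h3]
    exact n2 this
  have hk2 : (2 : ℤ) ≤ k := by omega
  rcases h.hU with h4 | h4
  · have h6 : (0 : ℤ) ≤ U ^ 2 - 1 := by nlinarith only [h4]
    have h5 : (0 : ℤ) ≤ ((k : ℤ) - 2) * (U ^ 2 - 1) := mul_nonneg (by omega) h6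
    nlinarith only [h3, h4, h5]
  · have h6 : (0 : ℤ) ≤ U ^ 2 - 1 := by nlinarith only [h2]
    have h5 : (0 : ℤ) ≤ ((k : ℤ) - 2) * (U ^ 2 - 1) := mul_nonneg (by omega) h6
    have h7 : 3 ≤ U := by omega
    nlinarith only [h3, h5, h7]

theorem Dat.false_of_dvd_E (h : Dat U d A B C D l) (hP : Par p q) (hA : A = R q) (hE : R q = E q + 1)
    (hB : B ∣ E q) : False := by
  obtain ⟨k, hk⟩ := hB
  obtain ⟨n1, n2, n3, n4⟩ := h.bound hP hA
  have h1 := h.hA
  have h2 := h.hB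
  have hU := h.hU
  have h3 : U ^ 2 + U + 1 - d = k * (U ^ 2 - 1) := by
    rw [← h1, ← h2, hA, hE, hk]
    push_cast
    ring
  rcases h.hd with h4 | h4
  · rw [h4] at h3
    have h5 : (U + 1) * U = (U + 1) * (k * (U - 1)) := by
      push_cast at h3
      linear_combination h3
    have h6 := mul_left_cancel₀ (by omega : U + 1 ≠ 0) h5
    have h7 : U - 1 ∣ 1 := ⟨k - 1, by linear_combination h6⟩
    have h8 := Int.isUnit_iff.1 (isUnit_of_dvd_one h7)
    (clear * - n1 n2 n3 n4 h2 hU h3 h6 h8; omega)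
  · rw [h4] at h3
    have h5 : (U - 1) * (U + 2) = (U - 1) * (k * (U + 1)) := by
      push_cast at h3
      linear_combination h3
    have h6 := mul_left_cancel₀ (by omega : U - 1 ≠ 0) h5
    have h7 : U + 1 ∣ 1 := ⟨k - 1, by linear_combination h6⟩
    have h8 := Int.isUnit_iff.1 (isUnit_of_dvd_one h7)
    (clear * - n2 n3 n4 h2 hU h3 h6 h8; omega)

theorem Dat.false_even (h : Dat U d A B C D l) (hP : Par p q) (hA : A = R q) (hp : p = 2)
    (hR : R q = q * q + 1) : False := by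
  have h1 := h.hA
  rw [hA, hR] at h1
  have hU := h.hU
  have hb := hP.big
  rcases h.hd with h4 | h4
  · rw [h4] at h1
    push_cast at h1
    have h5 : (q : ℤ) * q = U * (U + 1) := by linear_combination h1
    have hq : (0 : ℤ) < q := by omega
    rcases hU with hU | hU
    · have h6 : (q : ℤ) < -U := by
        by_contra hlt
        push Not at hlt
        nlinarith only [h1, hU, hlt]
      have h7 : (q : ℤ) ≤ -U - 1 := by omega
      nlinarith only [h1, hU, h6]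
    · have h6 : U < q := by
        by_contra hlt
        push Not at hlt
        nlinarith only [h1, hU, hlt]
      have h7 : U + 1 ≤ (q : ℤ) := by omega
      nlinarith only [h1, hU, h6]
  · obtain ⟨t, ht⟩ := h.hdU
    rw [h4] at h1 ht
    push_cast at h1 ht
    have hU2 : U = 3 * t + 1 := by linarith only [ht]
    rw [hU2] at h1
    have h5 : (q : ℤ) * q = 3 * (t * t + t) := by linarith only [h1]
    have h6 : (3 : ℤ) ∣ q * q := Dvd.intro _ h5.symm
    have h7 : (3 : ℕ) ∣ q * q := by exact_mod_cast h6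
    have h8 : 3 ∣ q := by
      rcases (Nat.Prime.dvd_mul Nat.prime_three).1 h7 with h | h <;> exact h
    obtain ⟨n, hn⟩ := hP.pow
    rw [hn, hp] at h8
    have := (Nat.prime_dvd_prime_iff_eq Nat.prime_three Nat.prime_two).1 (Nat.prime_three.dvd_of_dvd_pow h8)
    omega

theorem Dat.false_odd (h : Dat U d A B C D l) (hP : Par p q) (hA : A = R q) (hp : p ≠ 2)
    (hR : 2 * R q = q * q + 1) (hE : R q = E q + 1) (oB : Om p q B) : False := by
  have h17 := hP.R_big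
  have h1 := h.hA
  have h2 := h.hB
  obtain ⟨n1, n2, n3, n4⟩ := h.bound hP hA
  have hb := hP.big
  have h3 : (d : ℤ) * (q * q + 1) = 2 * (U ^ 2 + U + 1) := by
    rw [← h1, hA]
    have : ((2 * R q : ℕ) : ℤ) = ((q * q + 1 : ℕ) : ℤ) := by rw [hR]
    push_cast at this
    rw [← this]
    ring
  have key : B ∣ p * (q - 1) ∨ B ∣ p * (q + 1) → p ∣ B → False := by
    intro hB hpB
    have hpp := hP.prime
    have hpI : Prime (p : ℤ) := Nat.prime_iff_prime_int.1 hpp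
    have hpq : (p : ℤ) ∣ q := Int.natCast_dvd_natCast.2 hP.p_dvd
    have hpB' : (p : ℤ) ∣ (U - 1) * (U + 1) := by
      have h5 : (p : ℤ) ∣ (d : ℤ) * B := Dvd.dvd.mul_left (Int.natCast_dvd_natCast.2 hpB) _
      rw [h2] at h5
      have : (U - 1) * (U + 1) = U ^ 2 - 1 := by ring
      rw [this]
      exact h5
    obtain ⟨a, ha⟩ := hpq
    rcases hpI.dvd_or_dvd hpB' with h5 | h5
    · obtain ⟨b, hb'⟩ := h5
      have hUb : U = p * b + 1 := by linarith only [hb']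
      have h6 : (p : ℤ) ∣ 6 - d := by
        refine ⟨d * a * q - 2 * (U + 2) * b, ?_⟩
        have h7 : (d : ℤ) * (q * q + 1) = 2 * (U ^ 2 + U + 1) := h3
        have h8 : (q : ℤ) * q = p * a * q := by rw [← ha]
        rw [h8] at h7
        linear_combination -h7 - 2 * (U + 2) * hUb
      rcases h.hd with h7 | h7
      · rw [h7] at h6
        have h8 : p ∣ 5 := by
          have : ((p : ℕ) : ℤ) ∣ ((5 : ℕ) : ℤ) := by simpa using h6
          exact Int.natCast_dvd_natCast.1 this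
        have hp5 : p = 5 := (Nat.prime_dvd_prime_iff_eq hpp (by norm_num)).1 h8
        subst hp5
        rw [h7] at h3 h2
        push_cast at h3 h2
        have hq25 : 25 ≤ q := by
          obtain ⟨n, hn⟩ := hP.pow
          have hne := hP.ne
          have : 2 ≤ n := by
            by_contra hlt
            have : n = 0 ∨ n = 1 := by omega
            rcases this with h9 | h9 <;> rw [h9] at hn <;> omega
          rw [hn]
          exact (Nat.pow_le_pow_right (by norm_num) this : 5 ^ 2 ≤ 5 ^ n)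
        have hBle : (B : ℤ) ≤ 5 * (q + 1) := by
          rcases hB with h9 | h9
          · have := Nat.le_of_dvd (by omega) h9
            (clear * - this; omega)
          · have := Nat.le_of_dvd (by omega) h9
            omega
        have hUq : U ≤ q := by
          by_contra hlt
          push Not at hlt
          nlinarith only [h2, hq25, hBle, hlt, sq_nonneg (U + 1)]
        nlinarith only [h3, h2, hq25, hBle, hUq]
      · rw [h7] at h6
        have h8 : p ∣ 3 := by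
          have : ((p : ℕ) : ℤ) ∣ ((3 : ℕ) : ℤ) := by simpa using h6
          exact Int.natCast_dvd_natCast.1 this
        have hp3 : p = 3 := (Nat.prime_dvd_prime_iff_eq hpp (by norm_num)).1 h8
        subst hp3
        obtain ⟨t, ht⟩ := h.hdU
        rw [h7] at h3 ht
        push_cast at h3 ht
        have hUt : U = 3 * t + 1 := by linarith only [ht]
        rw [hUt] at h3
        have h9 : (q : ℤ) * q = 1 + 6 * t + 6 * t ^ 2 := by linarith only [h3]
        have h10 : (q : ℤ) = 3 * a := by push_cast at ha; exact ha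
        rw [h10] at h9
        have h11 : (3 : ℤ) ∣ 1 := ⟨3 * a * a - 2 * t - 2 * t ^ 2, by linarith only [h9]⟩
        norm_num at h11
    · obtain ⟨b, hb'⟩ := h5
      have h6 : (p : ℤ) ∣ 2 - d := by
        refine ⟨d * a * q - 2 * U * b, ?_⟩
        have h7 : (d : ℤ) * (q * q + 1) = 2 * (U ^ 2 + U + 1) := h3
        have h8 : (q : ℤ) * q = p * a * q := by rw [← ha]
        rw [h8] at h7
        linear_combination -h7 - 2 * U * hb'
      have h8 : p ∣ 1 := by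
        rcases h.hd with h7 | h7
        · rw [h7] at h6
          have : ((p : ℕ) : ℤ) ∣ ((1 : ℕ) : ℤ) := by simpa using h6
          exact Int.natCast_dvd_natCast.1 this
        · rw [h7] at h6
          have : ((p : ℕ) : ℤ) ∣ ((1 : ℕ) : ℤ) := by
            have h9 := (dvd_neg).2 h6
            simpa only [_root_.Nat.cast_one, _root_.Nat.cast_ofNat, _root_.Int.reduceSub, _root_.neg_neg] using h9
          exact Int.natCast_dvd_natCast.1 this
      exact hpp.one_lt.ne' (Nat.dvd_one.1 h8)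
  have key2 : B ∣ p * (q - 1) ∨ B ∣ p * (q + 1) → False := by
    intro hB
    by_cases hpB : p ∣ B
    · exact key hB hpB
    · have hc : Nat.Coprime B p := (Nat.Coprime.symm ((Nat.Prime.coprime_iff_not_dvd hP.prime).2 hpB))
      obtain ⟨s1, s2⟩ := hP.sub_dvd
      rcases hB with h5 | h5
      · exact h.false_of_dvd_E hP hA hE ((hc.dvd_of_dvd_mul_left h5).trans s1)
      · exact h.false_of_dvd_E hP hA hE ((hc.dvd_of_dvd_mul_left h5).trans s2)
  rcases oB with h5 | h5 | h5 | h5 | ⟨-, h5⟩ | ⟨h6, -⟩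
  · exact key2 (Or.inl h5)
  · exact key2 (Or.inr h5)
  · exact h.false_of_dvd_E hP hA hE h5
  · exact h.false_of_dvd_R hP hA h5
  · have h6 := Nat.le_of_dvd (by norm_num) h5
    have h7 : B ≠ 0 := by rintro rfl; norm_num at h5
    have h8 : U ^ 2 ≤ 28 := by
      rcases h.hd with h9 | h9 <;> rw [h9] at h2 <;> push_cast at h2 <;> omega
    have h9 : U ≤ 5 := by nlinarith only [h8]
    have h10 : -5 ≤ U := by nlinarith only [hA, h17, h1, h2, h6]
    rw [hA] at h1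
    obtain ⟨m, hm⟩ := h5
    have h11 : B = 1 ∨ B = 3 ∨ B = 9 := by
      have : B ∣ 9 := ⟨m, hm⟩
      have : B ∈ Nat.divisors 9 := Nat.mem_divisors.2 ⟨this, by norm_num⟩
      have h12 : Nat.divisors 9 = {1, 3, 9} := by decide
      rw [h12] at this
      simpa using this
    have h12 : U = 4 ∨ U = -4 ∨ U = 5 ∨ U = -5 := by
      rcases h.hU with h13 | h13 <;> (clear * - n2 n4 h10 h13 n1 n3 h9; omega)
    rcases h12 with rfl | rfl | rfl | rfl <;> rcases h.hd with h9 | h9 <;> rw [h9] at h2 h1 <;>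
      norm_num only [_root_.one_mul] at h2 h1 <;> (clear * - h6 h2 hE h17 h1; omega)
  · exact hp h6

/-- **The elimination of `PSL₃(U)`.** -/
theorem Dat.elim (h : Dat U d A B C D l) (hP : Par p q) (oA : Om p q A) (oB : Om p q B) (oC : Om p q C)
    (oD : Om p q D) (ex : R q ∣ A ∨ R q ∣ B ∨ R q ∣ C ∨ R q ∣ D ∨ R q ∣ 4) : False := by
  have hA := h.eq_A hP oA oB oC oD ex
  rcases hP.R_eq with ⟨h1, -, h3, h4⟩ | ⟨h1, -, h3, -⟩
  · exact h.false_odd hP hA h1 h3 h4 oB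
  · exact h.false_even hP hA h1 h3

end

/-- parity of the cardinality of a field of characteristic `l` -/
theorem parity {F : Type*} [Field F] [Fintype F] (l : ℕ) [hl : Fact l.Prime] [CharP F l] :
    (l = 2 ∧ Fintype.card F % 2 = 0) ∨ (l % 2 = 1 ∧ Fintype.card F % 2 = 1) := by
  obtain ⟨n, -, hn⟩ := FiniteField.card F l
  rcases hl.out.eq_two_or_odd with h | h
  · left
    refine ⟨h, ?_⟩
    rw [hn, h]
    have : (2 : ℕ) ∣ 2 ^ (n : ℕ) := dvd_pow_self 2 n.ne_zero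
    omega
  · right
    refine ⟨h, ?_⟩
    simp [hn, Nat.pow_mod, h]

theorem psl_three {p q : ℕ} (hP : Par p q) {F : Type*} [Field F] [Fintype F]
    (h : Hyp p q (Matrix.ProjectiveSpecialLinearGroup (Fin 3) F)) : False := by
  obtain ⟨l, hc⟩ := CharP.exists F
  have hl : Fact l.Prime := ⟨CharP.char_is_prime F l⟩
  have hs := Cfsg.Agent.S2476.result (F := F) l
  have hpar := parity (F := F) l
  have h2 : 2 ≤ Fintype.card F := Fintype.one_lt_card
  have hom : ∀ m ∈ Set.range (orderOf : Matrix.ProjectiveSpecialLinearGroup (Fin 3) F → ℕ), Om p q m := by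
    rintro m ⟨x, rfl⟩
    exact h.om x
  have hex : R q ∈ Set.range (orderOf : Matrix.ProjectiveSpecialLinearGroup (Fin 3) F → ℕ) := h.ex
  rw [hs] at hom hex
  clear hs h
  generalize Fintype.card F = u at *
  obtain ⟨t, rfl⟩ : ∃ t, u = t + 1 := ⟨u - 1, by omega⟩
  rw [Nat.add_sub_cancel] at hom hex
  have hd : Nat.gcd 3 t = 1 ∨ Nat.gcd 3 t = 3 := (Nat.dvd_prime Nat.prime_three).1 (Nat.gcd_dvd_left _ _)
  have hdt : Nat.gcd 3 t ∣ t := Nat.gcd_dvd_right _ _
  have hd3 : Nat.gcd 3 t ∣ 3 := Nat.gcd_dvd_left _ _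
  have e1 : (t + 1) ^ 2 + (t + 1) + 1 = t * (t + 3) + 3 := by ring
  have e2 : (t + 1) ^ 2 - 1 = t * (t + 2) := by
    have h : (t + 1) ^ 2 = t * (t + 2) + 1 := by ring
    rw [h, Nat.add_sub_cancel]
  have hA : Nat.gcd 3 t * (((t + 1) ^ 2 + (t + 1) + 1) / Nat.gcd 3 t) = (t + 1) ^ 2 + (t + 1) + 1 := by
    apply Nat.mul_div_cancel'
    rw [e1]
    exact dvd_add (hdt.mul_right _) hd3
  have hB : Nat.gcd 3 t * (((t + 1) ^ 2 - 1) / Nat.gcd 3 t) = t * (t + 2) := by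
    rw [e2]
    exact Nat.mul_div_cancel' (hdt.mul_right _)
  have hD : Nat.gcd 3 t * ((l * t) / Nat.gcd 3 t) = l * t := Nat.mul_div_cancel' (hdt.mul_left _)
  have hdat : Dat ((t + 1 : ℕ) : ℤ) (Nat.gcd 3 t) (((t + 1) ^ 2 + (t + 1) + 1) / Nat.gcd 3 t)
      (((t + 1) ^ 2 - 1) / Nat.gcd 3 t) t ((l * t) / Nat.gcd 3 t) l := by
    refine ⟨hd, ?_, Or.inr (by omega), ?_, ?_, Or.inl (by push_cast; ring), hD, ?_⟩
    · have : ((t + 1 : ℕ) : ℤ) - 1 = (t : ℤ) := by push_cast; ring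
      rw [this]
      exact Int.natCast_dvd_natCast.2 hdt
    · rw [← Nat.cast_mul, hA]
      push_cast
      ring
    · rw [← Nat.cast_mul, hB]
      push_cast
      ring
    · rcases hpar with ⟨a, b⟩ | ⟨a, b⟩
      · exact Or.inl ⟨a, by omega⟩
      · exact Or.inr ⟨a, by omega⟩
  refine hdat.elim hP (hom _ (Or.inl dvd_rfl)) (hom _ (Or.inr (Or.inl dvd_rfl)))
    (hom _ (Or.inr (Or.inr (Or.inl dvd_rfl)))) (hom _ (Or.inr (Or.inr (Or.inr (Or.inl dvd_rfl))))) ?_
  rcases hex with h1 | h1 | h1 | h1 | ⟨-, h1⟩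
  · exact Or.inl h1
  · exact Or.inr (Or.inl h1)
  · exact Or.inr (Or.inr (Or.inl h1))
  · exact Or.inr (Or.inr (Or.inr (Or.inl h1)))
  · exact Or.inr (Or.inr (Or.inr (Or.inr h1)))

theorem psu_three {p q u : ℕ} (hP : Par p q) {F : Type*} [Field F] [Fintype F]
    (hF : Fintype.card F = u ^ 2) (hu : 3 ≤ u) (h : Hyp p q (Cfsg.PSU 3 F u)) : False := by
  obtain ⟨l, hc⟩ := CharP.exists F
  have hl : Fact l.Prime := ⟨CharP.char_is_prime F l⟩
  have hpar := parity (F := F) l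
  rw [hF] at hpar
  have hex : R q ∣ u + 1 ∨ R q ∣ l * ((u + 1) / Nat.gcd 3 (u + 1)) ∨
      R q ∣ (u ^ 2 - 1) / Nat.gcd 3 (u + 1) ∨ R q ∣ (u ^ 2 - u + 1) / Nat.gcd 3 (u + 1) ∨
        (l = 2 ∧ R q ∣ 4) := by
    obtain ⟨x, hx⟩ := h.ex
    rw [← hx]
    exact H124.SUThreeEig.orderOf_dvd hF l x
  have oC : Om p q (u + 1) := by
    obtain ⟨x, hx⟩ := H127.PSUThreeEx.ex_one hF (u + 1) dvd_rfl
    rw [← hx]
    exact h.om x
  have oB : Om p q ((u ^ 2 - 1) / Nat.gcd 3 (u + 1)) := by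
    obtain ⟨x, hx⟩ := H127.PSUThreeEx.ex_three hF _ dvd_rfl
    rw [← hx]
    exact h.om x
  have oD : Om p q (l * (u + 1) / Nat.gcd 3 (u + 1)) := by
    obtain ⟨x, hx⟩ := H127.PSUThreeEx.ex_two l hF _ dvd_rfl
    rw [← hx]
    exact h.om x
  have oA : Om p q ((u ^ 2 - u + 1) / Nat.gcd 3 (u + 1)) := by
    obtain ⟨x, hx⟩ := H127.PSUThreeEx.ex_four l hF _ dvd_rfl
    rw [← hx]
    exact h.om x
  have hd : Nat.gcd 3 (u + 1) = 1 ∨ Nat.gcd 3 (u + 1) = 3 := (Nat.dvd_prime Nat.prime_three).1 (Nat.gcd_dvd_left _ _)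
  have hdt : Nat.gcd 3 (u + 1) ∣ u + 1 := Nat.gcd_dvd_right _ _
  have hd3 : Nat.gcd 3 (u + 1) ∣ 3 := Nat.gcd_dvd_left _ _
  have hu1 : u ≤ u ^ 2 := by nlinarith only []
  have hu2 : 1 ≤ u ^ 2 := by linarith only [hu, hu1]
  have e1 : ((u ^ 2 - u + 1 : ℕ) : ℤ) = (u : ℤ) ^ 2 - u + 1 := by
    push_cast [Nat.cast_sub hu1]
    ring
  have e2 : ((u ^ 2 - 1 : ℕ) : ℤ) = (u : ℤ) ^ 2 - 1 := by
    push_cast [Nat.cast_sub hu2]
    ring
  have hdtI : ((Nat.gcd 3 (u + 1) : ℕ) : ℤ) ∣ (u : ℤ) + 1 := by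
    have := Int.natCast_dvd_natCast.2 hdt
    simpa only [_root_.Nat.cast_add, _root_.Nat.cast_one] using this
  have hd3I : ((Nat.gcd 3 (u + 1) : ℕ) : ℤ) ∣ 3 := by
    have := Int.natCast_dvd_natCast.2 hd3
    simpa only [_root_.Nat.cast_ofNat] using this
  have dA : Nat.gcd 3 (u + 1) ∣ u ^ 2 - u + 1 := by
    rw [← Int.natCast_dvd_natCast, e1]
    have : (u : ℤ) ^ 2 - u + 1 = (u + 1) * (u - 2) + 3 := by ring
    rw [this]
    exact dvd_add (hdtI.mul_right _) hd3I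
  have dB : Nat.gcd 3 (u + 1) ∣ u ^ 2 - 1 := by
    rw [← Int.natCast_dvd_natCast, e2]
    have : (u : ℤ) ^ 2 - 1 = (u + 1) * (u - 1) := by ring
    rw [this]
    exact hdtI.mul_right _
  have hA := Nat.mul_div_cancel' dA
  have hB := Nat.mul_div_cancel' dB
  have hD := Nat.mul_div_cancel' (hdt.mul_left l)
  have hdat : Dat (-(u : ℤ)) (Nat.gcd 3 (u + 1)) ((u ^ 2 - u + 1) / Nat.gcd 3 (u + 1))
      ((u ^ 2 - 1) / Nat.gcd 3 (u + 1)) (u + 1) (l * (u + 1) / Nat.gcd 3 (u + 1)) l := by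
    refine ⟨hd, ?_, Or.inl (by omega), ?_, ?_, Or.inr (by push_cast; ring), hD, ?_⟩
    · have : -(u : ℤ) - 1 = -((u : ℤ) + 1) := by ring
      rw [this, dvd_neg]
      exact hdtI
    · rw [← Nat.cast_mul, hA, e1]
      ring
    · rw [← Nat.cast_mul, hB, e2]
      ring
    · rcases hpar with ⟨a, b⟩ | ⟨a, b⟩
      · refine Or.inl ⟨a, ?_⟩
        have : u % 2 = 0 := by
          rcases Nat.mod_two_eq_zero_or_one u with h1 | h1
          · exact h1
          · rw [Nat.pow_mod, h1] at b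
            norm_num at b
        (clear * - this; omega)
      · refine Or.inr ⟨a, ?_⟩
        have : u % 2 = 1 := by
          rcases Nat.mod_two_eq_zero_or_one u with h1 | h1
          · rw [Nat.pow_mod, h1] at b
            norm_num at b
          · exact h1
        (clear * - this; omega)
  refine hdat.elim hP oA oB oC oD ?_
  rcases hex with h1 | h1 | h1 | h1 | ⟨-, h1⟩
  · exact Or.inr (Or.inr (Or.inl h1))
  · rw [← Nat.mul_div_assoc l hdt] at h1
    exact Or.inr (Or.inr (Or.inr (Or.inl h1)))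
  · exact Or.inr (Or.inl h1)
  · exact Or.inl h1
  · exact Or.inr (Or.inr (Or.inr (Or.inr h1)))

end Cfsg.Agent.H481.P4
end
end
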