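import Mathlib
import Cfsg.Agent.H561.Eight.Blk
import Cfsg.Agent.SmallSimple.Sieve
import Cfsg.Agent.SmallSimple.FiveSq
import Cfsg.Agent.S0243
import Cfsg.Agent.S0144
import Cfsg.Agent.S1016
import Cfsg.Agent.S1017
import Cfsg.Agent.S0997
import Cfsg.Agent.S0999
import Cfsg.Agent.S0494
import Cfsg.Agent.S0495
import Cfsg.Agent.S0496
import Cfsg.Agent.S0497
import Cfsg.Agent.S0498
import Cfsg.Agent.S0981
import Cfsg.Agent.S0983
import Cfsg.Agent.S0984
import Cfsg.Agent.S1000
import Cfsg.Agent.S1011
import Cfsg.Agent.S1020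
import Cfsg.Agent.S1021
import Cfsg.Agent.SmallSimple.S1000.PSLFacts
import Cfsg.Agent.LieClassical.FieldTransfer
import Cfsg.Agent.Prune
set_option linter.all false
prune_inst 0x7f00000000000000000000000000000000000000000000000000000000000000000000000000000000000000000000000000000000000000000000000000000000000000000000000000000000000000003fffffffffffffffffffffffffffbeffbdffffffff
open scoped Cfsg.Agent.FastGrp

-- part: H424/SimpleOrders
section
/-!
# Orders of nonabelian simple groups between 1093 and 3640

`survivors` : such an order is 2448, 2520, 3420 or one of the orders 1512, 1620, 2160, 2880, 3024,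
3240 of the form `p 3 ^ a 2 ^ b` (excluded by S1000).
-/

set_option autoImplicit false

namespace Cfsg.Agent.H424.SimpleOrders

open Cfsg Cfsg.Agent.Characters.Core Cfsg.Agent.H424.DegTools
open Cfsg.Agent.H424.BlockTools Cfsg.Agent.H424.BlockTools2
open Cfsg.Agent.SmallSimple Cfsg.Agent.SmallSimple.LocalData Cfsg.Agent.SmallSimple.DegreeData
open Cfsg.Agent.SmallSimple.OrdersA Cfsg.Agent.SmallSimple.Sieve
open Subgroup

variable {G : Type*} [Group G] [Finite G] [IsSimpleGroup G]

private def frc {α : Type} (n : ℕ) (f : ℕ → α) : α := Nat.rec (motive := fun _ => α) (f 0) (fun k _ => f (Nat.succ k)) n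

private theorem frc_eq {α : Type} (n : ℕ) (f : ℕ → α) : frc n f = f n := by cases n <;> rfl

private def cert (L : List ℕ) (n k : ℕ) : Bool :=
  bif Nat.blt k 22 then frc (primes.getD k 2) (minRuleAt n) else
  bif Nat.blt k 44 then frc (primes.getD (Nat.sub k 22) 2) fun p => Nat.beq (n % p) 0 && frc (expo 13 n p) (killed n p) else
  bif Nat.beq k 44 then frc (primes.foldl (strip 13) n) fun q => noSmall q && Nat.blt 1 q && killed n q 1 else
  bif Nat.beq k 45 then L.any (Nat.beq n) else noSmall n

private theorem cert_ok {L : List ℕ} {n k : ℕ} (h : cert L n k = true) : (autoDead n || L.any (Nat.beq n)) = true := by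
  have hm : ∀ j, primes.getD j 2 ∈ primes := fun j => by
    rw [List.getD_eq_getElem?_getD]
    cases h : primes[j]? with
    | none => exact List.mem_cons_self
    | some x => exact List.mem_of_getElem? h
  simp only [cert, frc_eq, Bool.cond_eq_ite] at h
  simp only [autoDead, Bool.or_eq_true]
  split_ifs at h
  · exact Or.inl (Or.inl (Or.inl (Or.inr (List.any_eq_true.2 ⟨_, hm _, h⟩))))
  · exact Or.inl (Or.inl (Or.inr (List.any_eq_true.2 ⟨_, hm _, h⟩)))
  · exact Or.inl (Or.inr h)
  · exact Or.inr h
  · exact Or.inl (Or.inl (Or.inl (Or.inl h)))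

private def run (L : List ℕ) (C a len : ℕ) : Bool :=
  Nat.rec (motive := fun _ => Bool) true (fun i ih => frc (Nat.add a i) (fun n =>
    frc (Nat.land (Nat.shiftRight C (Nat.mul 6 i)) 63) (cert L n)) && ih) len

private theorem run_ok {L : List ℕ} (C : ℕ) {a len : ℕ} (h : run L C a len = true) :
    ((List.range len).all fun i => autoDead (a + i) || L.any (Nat.beq (a + i))) = true := by
  induction len with
  | zero => rfl
  | succ i ih =>
    have h1 : (frc (Nat.add a i) (fun n => frc (Nat.land (Nat.shiftRight C (Nat.mul 6 i)) 63) (cert L n)) &&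
      run L C a i) = true := h
    rw [Bool.and_eq_true, frc_eq, frc_eq] at h1
    rw [List.range_succ, List.all_append, ih h1.2, Bool.true_and, List.all_cons, List.all_nil, Bool.and_true]
    exact cert_ok h1.1

theorem check1 : ((List.range 1307).all fun i => autoDead (1093 + i) ||
    [1224, 1344, 1440, 1512, 1560, 1620, 1680, 1716, 1728, 1800, 1980, 2016, 2080, 2100, 2160,
      2268].any (Nat.beq (1093 + i))) = true :=
  run_ok 0x2e00100202e78102eb03001b2e02e00102e69800102e01e841002b1c00198302e00100566e01f02e002b0102e6ee001a8202e001006b0500101e0047c1003b0200172e02e00100258300101a02e89c02eb1f0016ee00200102e76500100202ea4102eb6e001b2000300102190200102e005b0100272e02c66e02e00100381e00101c002b0102e843001b0202e0010247ae00102e02060101b9c2001b030040170026e100102e003701022b05001b0400200102eb5c00100202eb01003b1d001a2e02e00102eb0202b02e02e74101898400194501f00102e6ae001003002b01004b6e001b0200300102e7ee00102e02eb5a020b0200185d02e0010028ee00101f01ab0102e74300159e00200100572e00100201db0102e6ee01879c02400102eb4200102e003b01002b2e001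62e02e00102eb0400102e002801003b6e00174202e02a00488300100502164101db020019ee02e0010025df00100300568102e7ae001b2400200101c59d02900202eb0101e96e00170402e001003ac200102002e981002b0300192e02e00102e6ee00102e002b1e02e81b0017c201c0010236ae00101d003781004702001b2e02000100276e00101c01eb01003b2e028b0500200102eb4300100200458102eb2e001b2e00500102e84200100301f6c10026630016ae00301b02ea8600102e002b0102e62100180202e001003b4400102e02e8c101cb59001b2602e001002a4501702e02e94102e91d001b03002001022b5e00100200374102eb2e0016ee00400102e78200100501cb27002b2000188402e00101e70300102e0187c102eb6e001b0202e00102ea2e00100302e60102e742026b230030010026ae00102e01db0101ab2e00166e002001003b6e00100202eb0102e8c3001b2e01e01d01f58200102e004b01002b2e00174302200101cb6e00100400290101d62e00170202e00102e82e01a02e02e8410038820017ae01b0010029c300102e0206c102e6ae001b2e002001004b6e00100202eb2502e72e001b2e00300101b98200101c02e6810026de00162e0040010037db00101d002b0102e7830178d802e00102176e00101f02e70101eb020016c301d001002b5c00101b003b0102085a001b2e00201902e6ae00100201b881003b2e001b2e02e00102e5c200102e02e781002b2e0015ae02e00101d962024003002ac101b66e001b0200300102e6df00100401c80102eb0200166e02e001002b6e00101e02e75702eb03001b1c00200102e60400100202eb0101f6ae00185b02e00100464200102e003a81002b2e0237dd01b00102e5ae0010210026c100361c001a4200400102e90300102e01d64102e802001b0402e0220027ae00100302eb0102e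 (by decide +kernel)

theorem check2 : ((List.range 1241).all fun i => autoDead (2400 + i) ||
    [2400, 2448, 2464, 2520, 2688, 2700, 2880, 2976, 3024, 3120, 3168, 3240, 3360, 3420, 3432,
      3444, 3600].any (Nat.beq (2400 + i))) = true :=
  run_ok 0x1b040bac08006cb801c004062cb800400c0bac040ba3780062b8008004016d9c0040080bac74085e700056b80b800400ec080040b808ec04009a0c006cb80b80040121940040b800ac040ba6b80b1b080b80040b99b800401400da040bac08006cb806800400aa800040b8015e0400ecb8006c1000808c099f0c00400807a0040b9cb8006cb80b80040b960800400c0bac0400ad1000637400c0040bad900b007800ac04012d140067080b800400e9b80040b0075c0408ec080065b80b800400a470004080012c600bacb8006c0c0080040badb800400800ec040720b8005db8014004092c080040b80b9b0400acb808acb80800040b9e0c0040b800a6040b9ab8006c08084004012c7400400c07220407db08006cb800c068009c140040b80ba1040bacb8005f7000800400ed8800400809ec040bac0c0060100b80040ba80807006c0bac0400acb800580c0b0004081db80040b800ac040ba570006c080740040badb80040b807eb5c00ec08006c7809000400ac0c00408c0b9904015f80005e980600040badb80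04008012c040ba11407ac7c00c0040763080040100bac0400acb80059b807000400d6840040b800ac040b9c0c006c0808c0b00bac100040700b9d040b9e08006c0c01400400adb80040b800df0407acb80064800080040b98b8084008089c0400ec7c006c74010004016d080040b80ba504009bb80061100b80040ba21400400c009eb00719b8006c0800c00407e7b800408407aa040b9708005b880b8004009ab80040140bac04012c0c0b1db800800408edb800406006ec04076c90006c0c0b80040b9c080040b800ec0400abb80069700b805c0ba67400401000ac0400e4b800560807c004095b0c0040b80b98040bac08006cb80b8004009f780b000c0bac04099a70006cb8008004011e800040080ba3040bac880059140b800400dd080040b80ba0b000ac0c005cb80100040bacb80040b8009b04086db8006c080b80040badb80040b800e8040bac0805ecb807000400a1b80040b80bac0400db10006cb8008004075a0c0040080ba404012a8400628c0b80b00bac0800400c0bac0400a074005b7800c0040b97b8004014009d0407e3b8005e0808000400ec700740100156040ba908005fb80b800400a5b80040b808ec04072cb8006b740080040bad1000400800ec80015d78006cb8088004011b08004094076c04009e140060840b80040bac0c0040b800ad0407a2b806ec08010004082db800400c0ba7040b9f08005d1000c00400acb80040880bac040768b800637c0080b0066d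 (by decide +kernel)

omit [Finite G] [IsSimpleGroup G] in
theorem not_cyclic (hG : ¬ IsMulCommutative G) : ¬ IsCyclic G := fun _ => hG inferInstance

omit [Finite G] [IsSimpleGroup G] in
/-- The order of `PSL₂(q)`. -/
theorem psl_card {n q : ℕ} (hn : Nat.card G = n) {F : Type} [Field F] [Fintype F]
    (hF : Fintype.card F = q)
    (e : Nonempty (G ≃* Matrix.ProjectiveSpecialLinearGroup (Fin 2) F)) :
    Nat.gcd 2 (q - 1) * ((q - 1) * n) = (q ^ 2 - 1) * (q ^ 2 - q) := by
  obtain ⟨e⟩ := e
  have h1 := Cfsg.Agent.S0243.result hF 2 le_rfl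
  rw [Fin.prod_univ_two, ← Nat.card_congr e.toEquiv, hn] at h1
  simpa only [_root_.Fin.isValue, _root_.Fin.coe_ofNat_eq_mod, _root_.Nat.zero_mod, _root_.pow_zero, _root_.Nat.mod_succ, _root_.pow_one] using h1

theorem ne_thirteen (m : ℕ) : 13 ≠ 2 ^ m + 1 := by
  intro h
  rcases Nat.lt_or_ge m 4 with h1 | h1
  · interval_cases m <;> omega
  · have := Nat.pow_le_pow_right (n := 2) (by norm_num) h1
    omega

theorem kill_large {n : ℕ} (h : Nat.card G = n) (hn : ¬ n.Prime) (p : ℕ) (hp : p.Prime)
    (hdvd : p ∣ n) (hbig : n < p ^ 3)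
    (h1 : Nat.gcd 2 (p - 1) * ((p - 1) * n) ≠ (p ^ 2 - 1) * (p ^ 2 - p))
    (h2 : (∀ m : ℕ, p ≠ 2 ^ m + 1) ∨
      Nat.gcd 2 (p - 1 - 1) * ((p - 1 - 1) * n) ≠ ((p - 1) ^ 2 - 1) * ((p - 1) ^ 2 - (p - 1))) :
    False := by
  have hG := not_comm h hn
  rcases S0999.result (not_cyclic hG) p hp (h ▸ hdvd) (h ▸ hbig) with
    ⟨F, _, _, hF, -, e⟩ | ⟨m, F, _, _, hF, hpm, -, e⟩
  · exact h1 (psl_card h hF e)
  · have hF' : Fintype.card F = p - 1 := by omega
    rcases h2 with h2 | h2
    · exact h2 m hpm
    · exact h2 (psl_card h hF' e)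

theorem kill_pqg {n : ℕ} (h : Nat.card G = n) (hn : ¬ n.Prime) (p q b g : ℕ) (hp : p.Prime)
    (hq : q.Prime) (hpq : p ≠ q) (hfac : n = p * q ^ b * g) (hg : g < p - 1)
    (h1 : Nat.gcd 2 (p - 1) * ((p - 1) * n) ≠ (p ^ 2 - 1) * (p ^ 2 - p))
    (h2 : Nat.gcd 2 (p - 1 - 1) * ((p - 1 - 1) * n) ≠ ((p - 1) ^ 2 - 1) * ((p - 1) ^ 2 - (p - 1))) :
    False := by
  have hG := not_comm h hn
  rcases S0997.result (not_cyclic hG) p q b g hp hq hpq (h.trans hfac) hg with
    ⟨m, F, _, _, hF, -, e⟩ | ⟨m, F, _, _, hF, hpm, -, e⟩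
  · exact h1 (psl_card h hF e)
  · have hF' : Fintype.card F = p - 1 := by omega
    exact h2 (psl_card h hF' e)

theorem kill_five {n : ℕ} (h : Nat.card G = n) (hn : ¬ n.Prime) (m : ℕ) (hm : n = m * 5 ^ 2)
    (h5 : ¬ 5 ∣ m) (hlt : n < 4500) (h300 : n ≠ 300)
    (hdiv : ∀ t ∈ Nat.divisors m, 15 * t ≤ m → (∃ s ∈ Nat.divisors t, s % 5 = 1 ∧ s ≠ 1) →
      t = 6 ∨ t = 12)
    (hmod : ∀ r ∈ Nat.divisors m, 5 ≤ r → ¬ r ≡ 1 [MOD 5 ^ 2]) : False := by
  have hG := not_comm h hn
  have : Fact (Nat.Prime 5) := ⟨by norm_num⟩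
  have hm' : Nat.card G = m * 5 ^ 2 := h.trans hm
  have hmm : m ≠ 0 := by
    rintro rfl
    exact h5 (dvd_zero 5)
  have h5n : 5 ∣ Nat.card G := by rw [hm']; exact (dvd_pow_self 5 two_ne_zero).mul_left m
  have hmod' : ¬ Nat.card (Sylow 5 G) ≡ 1 [MOD 5 ^ 2] := by
    have h1 : Nat.card (Sylow 5 G) ∣ m := PSqQR.card_sylow_dvd_of_card_eq hm' h5
    have h3 := Embed.five_le_card_sylow hG (p := 5) h5n
    exact hmod _ (Nat.mem_divisors.2 ⟨h1, hmm⟩) h3
  obtain ⟨R, hPR, hD5, hPC, hRC, hC⟩ := FiveSq.exists_config hG (by omega) hm' h5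
    hdiv hmod' (default : Sylow 5 G)
  set P : Sylow 5 G := default with hP
  set C : Subgroup G := centralizer (((P : Subgroup G) ⊓ R : Subgroup G) : Set G) with hCdef
  have h1 := C.card_mul_index
  rw [hC, h] at h1
  have hCtop : C ≠ ⊤ := by
    intro htop
    rw [htop, Subgroup.card_top, h] at hC
    exact h300 hC
  have h15 := IndexJordan.three_mul_le_index hG (by omega) 5 (le_refl 5)
    (by rw [hm']; exact dvd_mul_left _ _) _ hCtop
  omega

theorem kill_1980 (h : Nat.card G = 1980) : False := by
  have hG := not_comm h (by norm_num)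
  have : Fact (Nat.Prime 11) := ⟨by norm_num⟩
  obtain ⟨d, e, k, h1, h2, h3⟩ := data_cases h hG 11 (by norm_num) (by norm_num) (by norm_num)
    (by norm_num) [(45, 2, 2)] (by decide +kernel)
  simp only [List.mem_cons, Prod.mk.injEq, List.mem_nil_iff, or_false] at h3
  obtain ⟨rfl, rfl, rfl⟩ := h3
  obtain ⟨M, hM, ⟨D⟩⟩ := exists_block h1 (by norm_num) default (t := 5) (by norm_num)
  have h4 := degs_simple D (h1.card_eq _) rfl h (by norm_num) (by norm_num)
    (L := [(2, 2), (3, 2), (5, 1), (11, 1)]) (by norm_num) (by norm_num)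
    (C := [-10, 12, 45]) (Ds := [-20, -9, 2, 90]) (by decide) (o := 10) (w := 1000)
    (Q := fun l => [[-10]].contains l) (by decide +kernel)
  have h5 : D.degs = [-10] := by simpa using h4
  exact no_pred (by rw [h]; norm_num) h1 (by norm_num) hM D (by rw [h5]; simp)

theorem kill_3432 (h : Nat.card G = 3432) : False := by
  have hG := not_comm h (by norm_num)
  have : Fact (Nat.Prime 13) := ⟨by norm_num⟩
  obtain ⟨d, e, k, h1, h2, h3⟩ := data_cases h hG 13 (by norm_num) (by norm_num) (by norm_num)
    (by norm_num) [(66, 2, 2), (66, 4, 1)] (by decide +kernel)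
  simp only [List.mem_cons, Prod.mk.injEq, List.mem_nil_iff, or_false] at h3
  rcases h3 with ⟨rfl, rfl, rfl⟩ | ⟨rfl, rfl, rfl⟩
  · obtain ⟨M, hM, ⟨D⟩⟩ := exists_block h1 (by norm_num) default (t := 6) (by norm_num)
    have h4 := degs_simple D (h1.card_eq _) rfl h (by norm_num) (by norm_num)
      (L := [(2, 3), (3, 1), (11, 1), (13, 1)]) (by norm_num) (by norm_num)
      (C := [-12, 66]) (Ds := [-24, -11, 2, 132]) (by decide) (o := 12) (w := 1000)
      (Q := fun l => [[-12]].contains l) (by decide +kernel)
    have h5 : D.degs = [-12] := by simpa using h4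
    exact no_pred (by rw [h]; norm_num) h1 (by norm_num) hM D (by rw [h5]; simp)
  · obtain ⟨M, hM, ⟨D⟩⟩ := exists_block h1 (by norm_num) default (t := 3) (by norm_num)
    have h4 := degs_simple D (h1.card_eq _) rfl h (by norm_num) (by norm_num)
      (L := [(2, 3), (3, 1), (11, 1), (13, 1)]) (by norm_num) (by norm_num)
      (C := [-12, 66]) (Ds := [-22, 4, 264]) (by decide) (o := 12) (w := 1000)
      (Q := fun _ => false) (by decide +kernel)
    exact absurd h4 (by simp)

theorem kill_3120 (h : Nat.card G = 3120) : False := by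
  have hG := not_comm h (by norm_num)
  have : Fact (Nat.Prime 13) := ⟨by norm_num⟩
  obtain ⟨d, e, k, h1, h2, h3⟩ := data_cases h hG 13 (by norm_num) (by norm_num) (by norm_num)
    (by norm_num) [(40, 2, 3), (40, 6, 1)] (by decide +kernel)
  simp only [List.mem_cons, Prod.mk.injEq, List.mem_nil_iff, or_false] at h3
  rcases h3 with ⟨rfl, rfl, rfl⟩ | ⟨rfl, rfl, rfl⟩
  · obtain ⟨M, hM, ⟨D⟩⟩ := exists_block h1 (by norm_num) default (t := 6) (by norm_num)
    have h4 := degs_simple D (h1.card_eq _) rfl h (by norm_num) (by norm_num)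
      (L := [(2, 4), (3, 1), (5, 1), (13, 1)]) (by norm_num) (by norm_num)
      (C := [-12, 40]) (Ds := [-24, 2, 15, 80]) (by decide) (o := 12) (w := 1000)
      (Q := fun _ => false) (by decide +kernel)
    exact absurd h4 (by simp)
  · obtain ⟨M, hM, ⟨D⟩⟩ := exists_block h1 (by norm_num) default (t := 2) (by norm_num)
    have h4 := degs_simple D (h1.card_eq _) rfl h (by norm_num) (by norm_num)
      (L := [(2, 4), (3, 1), (5, 1), (13, 1)]) (by norm_num) (by norm_num)
      (C := [-12, 40]) (Ds := [-20, 6, 240]) (by decide) (o := 12) (w := 1000)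
      (Q := fun _ => false) (by decide +kernel)
    exact absurd h4 (by simp)

theorem kill_3360 (h : Nat.card G = 3360) : False := by
  have hG := not_comm h (by norm_num)
  have : Fact (Nat.Prime 7) := ⟨by norm_num⟩
  have : Fact (Nat.Prime 5) := ⟨by norm_num⟩
  obtain ⟨d, e, k, h1, h2, h3⟩ := data_cases h hG 7 (by norm_num) (by norm_num) (by norm_num)
    (by norm_num) [(120, 2, 2)] (by decide +kernel)
  simp only [List.mem_cons, Prod.mk.injEq, List.mem_nil_iff, or_false] at h3
  obtain ⟨rfl, rfl, rfl⟩ := h3
  obtain ⟨M, hM, ⟨D⟩⟩ := exists_block h1 (by norm_num) default (t := 3) (by norm_num)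
  have h4 := degs_simple D (h1.card_eq _) rfl h (by norm_num) (by norm_num)
    (L := [(2, 5), (3, 1), (5, 1), (7, 1)]) (by norm_num) (by norm_num)
    (C := [-160, -48, -20, -6, 8, 15, 120]) (Ds := [-96, -40, -12, -5, 2, 16, 30, 240])
    (by decide) (o := 160) (w := 1000)
    (Q := fun l => [[-6], [15]].contains l) (by decide +kernel)
  have h5 : D.degs = [-6] ∨ D.degs = [15] := by simpa using h4
  rcases h5 with h5 | h5
  · exact no_pred (by rw [h]; norm_num) h1 (by norm_num) hM D (by rw [h5]; simp)
  have h16 : 16 ∈ charDegrees G := by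
    have := dexc_mem D (by norm_num)
    rw [h5] at this
    exact this
  obtain ⟨d', e', k', h1', h2', h3'⟩ := data_cases h hG 5 (by norm_num) (by norm_num) (by norm_num)
    (by norm_num) [(56, 2, 6), (56, 4, 3), (336, 2, 1)] (by decide +kernel)
  obtain ⟨d'', e'', k'', h1'', h2'', h3''⟩ := data_cases h hG 3 (by norm_num) (by norm_num)
    (by norm_num) (by norm_num) [(28, 2, 20), (40, 2, 14), (70, 2, 8), (112, 2, 5), (280, 2, 2)]
    (by decide +kernel)
  simp only [List.mem_cons, Prod.mk.injEq, List.mem_nil_iff, or_false] at h3' h3''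
  have hcases : (k' = 1 ∧ e' = 2) ∨ (3 ∣ k' ∧ 5 * e' * k' = 60 ∧ k' ≤ 6) := by
    rcases h3' with ⟨-, rfl, rfl⟩ | ⟨-, rfl, rfl⟩ | ⟨-, rfl, rfl⟩
    · exact Or.inr ⟨by norm_num, by norm_num, by norm_num⟩
    · exact Or.inr ⟨by norm_num, by norm_num, by norm_num⟩
    · exact Or.inl ⟨rfl, rfl⟩
  rcases hcases with ⟨rfl, rfl⟩ | ⟨hk', hek, hk6⟩
  · obtain ⟨M', hM', ⟨D'⟩⟩ := exists_block h1' (by norm_num) default (t := 2) (by norm_num)
    have h6 := degs_simple D' (h1'.card_eq _) rfl h (by norm_num) (by norm_num)
      (L := [(2, 5), (3, 1), (5, 1), (7, 1)]) (by norm_num) (by norm_num)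
      (C := [-224, -84, -24, -14, -4, 6, 16, 21, 56, 96, 336])
      (Ds := [-168, -48, -28, -8, -3, 2, 7, 12, 32, 42, 112, 672])
      (by decide) (o := 224) (w := 1000)
      (Q := fun l => [[-4], [6]].contains l) (by decide +kernel)
    have h7 : D'.degs = [-4] ∨ D'.degs = [6] := by simpa using h6
    have h8 := degree_cases hM' D' (h1'.card_eq _) (by rw [h1'.card_centralizer]) (by norm_num)
      h16 (by norm_num)
    rcases h7 with h7 | h7 <;> (rw [h7] at h8; simp only [_root_.OfNat.ofNat_ne_one, _root_.Int.reduceNeg, _root_.List.mem_cons, _root_.List.not_mem_nil, _root_.or_false, _root_.exists_eq_left, _root_.Int.natAbs_neg, _root_.Int.reduceAbs, _root_.Nat.reduceEqDiff, _root_.List.sum_cons, _root_.List.sum_nil, _root_.add_zero, _root_.Int.reduceAdd, _root_.or_self] at h8)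
  · have h6 := h1'.dvd_of_dvd h1'' (by norm_num) hk'
    have h7 := h1'.dvd_normalizer h1'' hk' (by
      intro r hr hr'
      have : k' = 3 ∨ k' = 6 := by (clear * - h3' hk'; omega)
      rcases this with rfl | rfl
      · have : r ≤ 1 := Nat.le_of_dvd (by norm_num) hr
        omega
      · have : r ≤ 2 := Nat.le_of_dvd (by norm_num) hr
        omega)
    rw [hek] at h7
    have h8 : k'' = 20 ∧ e'' = 2 := by
      rcases h3'' with ⟨-, rfl, rfl⟩ | ⟨-, rfl, rfl⟩ | ⟨-, rfl, rfl⟩ | ⟨-, rfl, rfl⟩ | ⟨-, rfl, rfl⟩
        <;> omega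
    obtain ⟨rfl, rfl⟩ := h8
    have h9 := h1''.dvd_normalizer h1' (by norm_num) (by
      intro r hr hr'
      have : r ≤ 4 := Nat.le_of_dvd (by norm_num) hr
      omega)
    rw [hek] at h9
    omega

theorem kill_1680 (h : Nat.card G = 1680) : False := by
  have hG := not_comm h (by norm_num)
  have : Fact (Nat.Prime 7) := ⟨by norm_num⟩
  have : Fact (Nat.Prime 5) := ⟨by norm_num⟩
  obtain ⟨d, e, k, h1, h2, h3⟩ := data_cases h hG 7 (by norm_num) (by norm_num) (by norm_num)
    (by norm_num) [(120, 2, 1)] (by decide +kernel)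
  simp only [List.mem_cons, Prod.mk.injEq, List.mem_nil_iff, or_false] at h3
  obtain ⟨rfl, rfl, rfl⟩ := h3
  obtain ⟨M, hM, ⟨D⟩⟩ := exists_block h1 (by norm_num) default (t := 3) (by norm_num)
  have h4 := degs_simple D (h1.card_eq _) rfl h (by norm_num) (by norm_num)
    (L := [(2, 4), (3, 1), (5, 1), (7, 1)]) (by norm_num) (by norm_num)
    (C := [-48, -20, -6, 8, 15, 120]) (Ds := [-40, -12, -5, 2, 16, 30, 240])
    (by decide) (o := 48) (w := 1000)
    (Q := fun l => [[-6], [15]].contains l) (by decide +kernel)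
  have h5 : D.degs = [-6] ∨ D.degs = [15] := by simpa using h4
  obtain ⟨d', e', k', h1', h2', h3'⟩ := data_cases h hG 5 (by norm_num) (by norm_num) (by norm_num)
    (by norm_num) [(21, 4, 4), (56, 2, 3)] (by decide +kernel)
  obtain ⟨d'', e'', k'', h1'', h2'', h3''⟩ := data_cases h hG 3 (by norm_num) (by norm_num)
    (by norm_num) (by norm_num) [(28, 2, 10), (40, 2, 7), (70, 2, 4), (280, 2, 1)]
    (by decide +kernel)
  simp only [List.mem_cons, Prod.mk.injEq, List.mem_nil_iff, or_false] at h3' h3''
  rcases h5 with h5 | h5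
  · have h6 := dexc_mem D (by norm_num)
    rw [h5] at h6
    obtain ⟨χ, hχ⟩ := h6
    have h7 := MTwelve.SmallDegree.centralizer_eq_of_degree_eq
      (MTwelve.SmallDegree.commutator_eq_top_of_card (by rw [h]; norm_num)) (default : Sylow 5 G)
      (h1'.card_eq _) χ.2 (by
        rw [Blocks.Basic.irr_one_eq_charDegree χ.2, hχ]
        norm_num)
    have h8 := h1'.card_centralizer (default : Sylow 5 G)
    have h9 := h1'.card_eq (default : Sylow 5 G)
    have h10 : Nat.card (centralizer ((default : Sylow 5 G) : Set G)) = 5 := by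
      have : centralizer ((default : Sylow 5 G) : Set G) = ((default : Sylow 5 G) : Subgroup G) := h7
      rw [this]
      exact h9
    rw [h10] at h8
    omega
  · rcases h3' with ⟨rfl, rfl, rfl⟩ | ⟨rfl, rfl, rfl⟩
    · -- the principal 5-block
      obtain ⟨M', hM', ⟨D'⟩⟩ := exists_block h1' (by norm_num) default (t := 1) (by norm_num)
      have hf : D.f = 16 := by
        rw [← D.natAbs_dexc, ← D.dexc_eq (by norm_num), h5]
        rfl
      have key : ∀ χ : IrrCharacter G, (charDegree (χ : G → ℂ) = 1 ∨ charDegree (χ : G → ℂ) = 15 ∨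
          charDegree (χ : G → ℂ) = 16) ∨ (7 ∣ charDegree (χ : G → ℂ) ∧
            charDegree (χ : G → ℂ) ≤ 26) := by
        intro χ
        by_cases hχ : χ ∈ principalBlock M G
        · left
          have h6 := block_degree_cases D (by norm_num) hχ
          rw [h5] at h6
          simp only [List.mem_cons, List.mem_nil_iff, or_false] at h6
          rcases h6 with h6 | ⟨z, rfl, h6⟩ | h6
          · exact Or.inl h6
          · exact Or.inr (Or.inl h6.symm)
          · exact Or.inr (Or.inr h6)
        · right
          constructor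
          · by_contra h7
            exact hχ (mem_principalBlock hM D (h1.card_eq _) (by rw [h1.card_centralizer]) h7)
          · have h6 := sq_add_le D hχ
            rw [h5, hf, h] at h6
            norm_num at h6
            by_contra h7
            push Not at h7
            have h8 : (27 : ℤ) ≤ charDegree (χ : G → ℂ) := by exact_mod_cast h7
            nlinarith only [h6, h7]
      have h6 := SmallSimple.DegreeCheck.degs_check D' (h1'.card_eq _) rfl h
        (L := [(2, 4), (3, 1), (5, 1), (7, 1)]) (by norm_num) (by norm_num)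
        (F := fun z => decide (3 ≤ z.natAbs) && (decide (z.natAbs = 15) || decide (z.natAbs = 16) ||
          (decide (z.natAbs % 7 = 0) && decide (z.natAbs ≤ 26))))
        (FX := fun z => (decide (z.natAbs = 1) || decide (z.natAbs = 15) || decide (z.natAbs = 16) ||
          (decide (z.natAbs % 7 = 0) && decide (z.natAbs ≤ 26))))
        (C := [-14, 16, 21]) (Ds := [-21, -16, -1, 14]) (o := 14) (w := 1000) (M := 0)
        (wt := fun _ => 0) (V := 0) (P := fun _ => false) (by
          intro z hz
          have h7 := degs_three_le (by rw [h]; norm_num) (by rw [h]; norm_num) D' z hz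
          obtain ⟨χ, hχ⟩ := degs_mem D' hz
          have h8 := key χ
          rw [hχ] at h8
          simp only [Bool.and_eq_true, Bool.or_eq_true, decide_eq_true_eq]
          (clear * - h7 h8; omega)) (by
          have h6 := dexc_mem D' (by norm_num)
          rw [D'.dexc_eq (by norm_num)] at h6
          obtain ⟨χ, hχ⟩ := h6
          have h8 := key χ
          rw [hχ] at h8
          simp only [Bool.and_eq_true, Bool.or_eq_true, decide_eq_true_eq]
          omega) (by decide) (Or.inl rfl) (by decide +kernel)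
      exact absurd h6 (by simp)
    · have h6 := h1'.dvd_of_dvd h1'' (by norm_num) (by norm_num)
      have h8 : k'' = 10 ∧ e'' = 2 := by omega
      obtain ⟨rfl, rfl⟩ := h8
      have h9 := h1''.dvd_normalizer h1' (by norm_num) (by
        intro r hr hr'
        have : r ≤ 2 := Nat.le_of_dvd (by norm_num) hr
        omega)
      omega

/-- The orders of nonabelian simple groups between 1093 and 3640, up to orders `p 3 ^ a 2 ^ b`. -/
theorem survivors (hG : ¬ IsMulCommutative G) (h1 : 1092 < Nat.card G) (h2 : Nat.card G ≤ 3640) :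
    Nat.card G = 2448 ∨ Nat.card G = 2520 ∨ Nat.card G = 3420 ∨
    Nat.card G ∈ [1512, 1620, 2160, 2880, 3024, 3240] := by
  have hsolv : ¬ Group.IsSolvable G := fun hs => hG ⟨⟨IsSimpleGroup.comm_iff_isSolvable.mpr hs⟩⟩
  by_cases h : Nat.card G ≤ 2399
  · have h3 := mem_of_range hG 1093 1307 _ check1 (by omega) (by omega) (by omega)
    simp only [List.mem_cons, List.mem_nil_iff, or_false] at h3
    rcases h3 with h | h | h | h | h | h | h | h | h | h | h | h | h | h | h | h
    · exact (kill_large h (by norm_num) 17 (by norm_num) (by norm_num) (by norm_num) (by norm_num)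
        (Or.inr (by norm_num))).elim
    · exact (kill_pqg h (by norm_num) 7 2 6 3 (by norm_num) (by norm_num) (by norm_num)
        (by norm_num) (by norm_num) (by norm_num) (by norm_num)).elim
    · exact absurd h S1016.result
    · simp [h]
    · exact (kill_large h (by norm_num) 13 (by norm_num) (by norm_num) (by norm_num) (by norm_num)
        (Or.inl ne_thirteen)).elim
    · simp [h]
    · exact (kill_1680 h).elim
    · exact (kill_large h (by norm_num) 13 (by norm_num) (by norm_num) (by norm_num) (by norm_num)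
        (Or.inl ne_thirteen)).elim
    · exact (hsolv (S0144.result 2 3 6 3 Nat.prime_two Nat.prime_three (by rw [h]; norm_num))).elim
    · exact (kill_five h (by norm_num) 72 (by norm_num) (by norm_num) (by norm_num) (by norm_num)
        (by decide +kernel) (by decide +kernel)).elim
    · exact (kill_1980 h).elim
    · exact absurd h S1017.result
    · exact (kill_large h (by norm_num) 13 (by norm_num) (by norm_num) (by norm_num) (by norm_num)
        (Or.inl ne_thirteen)).elim
    · exact (kill_five h (by norm_num) 84 (by norm_num) (by norm_num) (by norm_num) (by norm_num)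
        (by decide +kernel) (by decide +kernel)).elim
    · simp [h]
    · exact (kill_pqg h (by norm_num) 7 3 4 4 (by norm_num) (by norm_num) (by norm_num)
        (by norm_num) (by norm_num) (by norm_num) (by norm_num)).elim
  · have h3 := mem_of_range hG 2400 1241 _ check2 (by omega) (by omega) (by omega)
    simp only [List.mem_cons, List.mem_nil_iff, or_false] at h3
    rcases h3 with h | h | h | h | h | h | h | h | h | h | h | h | h | h | h | h | h
    · exact (kill_five h (by norm_num) 96 (by norm_num) (by norm_num) (by norm_num) (by norm_num)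
        (by decide +kernel) (by decide +kernel)).elim
    · exact Or.inl h
    · exact (kill_pqg h (by norm_num) 11 2 5 7 (by norm_num) (by norm_num) (by norm_num)
        (by norm_num) (by norm_num) (by norm_num) (by norm_num)).elim
    · exact Or.inr (Or.inl h)
    · exact (kill_pqg h (by norm_num) 7 2 7 3 (by norm_num) (by norm_num) (by norm_num)
        (by norm_num) (by norm_num) (by norm_num) (by norm_num)).elim
    · exact (kill_five h (by norm_num) 108 (by norm_num) (by norm_num) (by norm_num) (by norm_num)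
        (by decide +kernel) (by decide +kernel)).elim
    · simp [h]
    · exact (kill_large h (by norm_num) 31 (by norm_num) (by norm_num) (by norm_num) (by norm_num)
        (Or.inr (by norm_num))).elim
    · simp [h]
    · exact (kill_3120 h).elim
    · exact (kill_pqg h (by norm_num) 11 2 5 9 (by norm_num) (by norm_num) (by norm_num)
        (by norm_num) (by norm_num) (by norm_num) (by norm_num)).elim
    · simp [h]
    · exact (kill_3360 h).elim
    · exact Or.inr (Or.inr (Or.inl h))
    · exact (kill_3432 h).elim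
    · exact (kill_large h (by norm_num) 41 (by norm_num) (by norm_num) (by norm_num) (by norm_num)
        (Or.inr (by norm_num))).elim
    · exact (kill_five h (by norm_num) 144 (by norm_num) (by norm_num) (by norm_num) (by norm_num)
        (by decide +kernel) (by decide +kernel)).elim

end Cfsg.Agent.H424.SimpleOrders
end

-- part: H424/SmallIso
section
/-!
# The simple groups of order less than 6000

* `orders` : the eleven orders;
* `iso` : two nonabelian simple groups of the same order less than 6000 are isomorphic.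
-/

set_option autoImplicit false

namespace Cfsg.Agent.H424.SmallIso

open Cfsg Cfsg.Agent.H424.SimpleOrders Cfsg.Agent.SmallSimple.PSLFacts

universe u v

variable {G : Type u} [Group G] [Finite G] [IsSimpleGroup G]

theorem known_orders (hG : ¬ IsMulCommutative G) {n : ℕ} (hn : Nat.card G = n) (p a b : ℕ)
    (hp : p.Prime) (hG' : n = p * 3 ^ a * 2 ^ b) :
    n = 60 ∨ n = 360 ∨ n = 25920 ∨ n = 168 ∨ n = 504 ∨ n = 2448 ∨ n = 6048 ∨ (n = 5616 ∧
      ∃ (F : Type) (_ : Field F) (_ : Fintype F), Fintype.card F = 3 ∧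
        Nonempty (G ≃* Matrix.ProjectiveSpecialLinearGroup (Fin 3) F)) := by
  rcases S1000.result hG p a b hp (hn.trans hG') with ⟨⟨e⟩⟩ | ⟨⟨e⟩⟩ | ⟨F, _, _, hF, ⟨e⟩⟩ |
    ⟨F, _, _, hF, ⟨e⟩⟩ | ⟨F, _, _, hF, ⟨e⟩⟩ | ⟨F, _, _, hF, ⟨e⟩⟩
  · left; rw [← hn, Nat.card_congr e.toEquiv, card_alt_five]
  · right; left; rw [← hn, Nat.card_congr e.toEquiv, card_alt_six]
  · right; right; left; rw [← hn, Nat.card_congr e.toEquiv, card_psp_two_three hF]
  · rcases hF with hF | hF | hF
    · right; right; right; left; rw [← hn, Nat.card_congr e.toEquiv, card_psl_two_seven hF]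
    · right; right; right; right; left
      rw [← hn, Nat.card_congr e.toEquiv, card_psl_two_eight hF]
    · right; right; right; right; right; left
      rw [← hn, Nat.card_congr e.toEquiv, card_psl_two_seventeen hF]
  · right; right; right; right; right; right; left
    rw [← hn, Nat.card_congr e.toEquiv, card_psu_three_three hF]
  · right; right; right; right; right; right; right
    refine ⟨?_, F, _, _, hF, ⟨e⟩⟩
    rw [← hn, Nat.card_congr e.toEquiv, card_psl_three_three hF]

/-- The orders of the nonabelian simple groups of order less than 6000. -/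
theorem orders (hG : ¬ IsMulCommutative G) (h : Nat.card G < 6000) :
    Nat.card G = 60 ∨ Nat.card G = 168 ∨ Nat.card G = 360 ∨ Nat.card G = 504 ∨ Nat.card G = 660 ∨
      Nat.card G = 1092 ∨ Nat.card G = 2448 ∨ Nat.card G = 2520 ∨ Nat.card G = 3420 ∨
      Nat.card G = 4080 ∨ Nat.card G = 5616 := by
  rcases Nat.lt_or_ge 1092 (Nat.card G) with h1 | h1
  · rcases Nat.lt_or_ge 3640 (Nat.card G) with h2 | h2
    · have := S0983.result hG h2 (by omega)
      omega
    · rcases survivors hG h1 h2 with h3 | h3 | h3 | h3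
      · omega
      · omega
      · omega
      · exfalso
        simp only [List.mem_cons, List.mem_nil_iff, or_false] at h3
        rcases h3 with h3 | h3 | h3 | h3 | h3 | h3
        · have := known_orders hG h3 7 3 3 (by norm_num) (by norm_num)
          omega
        · have := known_orders hG h3 5 4 2 (by norm_num) (by norm_num)
          omega
        · have := known_orders hG h3 5 3 4 (by norm_num) (by norm_num)
          omega
        · have := known_orders hG h3 5 2 6 (by norm_num) (by norm_num)
          omega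
        · have := known_orders hG h3 7 3 4 (by norm_num) (by norm_num)
          omega
        · have := known_orders hG h3 5 4 3 (by norm_num) (by norm_num)
          omega
  · have := S0496.result hG h1
    omega

/-- Two nonabelian simple groups of the same order less than 6000 are isomorphic. -/
theorem iso (hG : ¬ IsMulCommutative G) (h : Nat.card G < 6000) {S : Type v} [Group S] [Finite S]
    [IsSimpleGroup S] (hS : ¬ IsMulCommutative S) (hcard : Nat.card S = Nat.card G) :
    Nonempty (G ≃* S) := by
  have : Fact (Nat.Prime 7) := ⟨by norm_num⟩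
  have : Fact (Nat.Prime 11) := ⟨by norm_num⟩
  have : Fact (Nat.Prime 13) := ⟨by norm_num⟩
  have : Fact (Nat.Prime 17) := ⟨by norm_num⟩
  have : Fact (Nat.Prime 19) := ⟨by norm_num⟩
  have : Fact (Nat.Prime 2) := ⟨by norm_num⟩
  rcases orders hG h with h1 | h1 | h1 | h1 | h1 | h1 | h1 | h1 | h1 | h1 | h1
  · obtain ⟨e⟩ := S0494.result h1
    obtain ⟨f⟩ := S0494.result (hcard.trans h1)
    exact ⟨e.trans f.symm⟩
  · obtain ⟨e⟩ := S0495.result h1 (F := ZMod 7) (by rw [ZMod.card])
    obtain ⟨f⟩ := S0495.result (hcard.trans h1) (F := ZMod 7) (by rw [ZMod.card])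
    exact ⟨e.trans f.symm⟩
  · obtain ⟨e⟩ := S0497.result h1
    obtain ⟨f⟩ := S0497.result (hcard.trans h1)
    exact ⟨e.trans f.symm⟩
  · have := Fintype.ofFinite (GaloisField 2 3)
    have hF : Fintype.card (GaloisField 2 3) = 8 := by
      rw [← Nat.card_eq_fintype_card, GaloisField.card 2 3 (by norm_num)]; norm_num
    obtain ⟨e⟩ := S1011.result h1 hF
    obtain ⟨f⟩ := S1011.result (hcard.trans h1) hF
    exact ⟨e.trans f.symm⟩
  · obtain ⟨e⟩ := S0498.result (G := G) 11 (by norm_num) (by rw [h1]; norm_num) (F := ZMod 11)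
      (by rw [ZMod.card])
    obtain ⟨f⟩ := S0498.result (G := S) 11 (by norm_num) (by rw [hcard, h1]; norm_num) (F := ZMod 11)
      (by rw [ZMod.card])
    exact ⟨e.trans f.symm⟩
  · obtain ⟨e⟩ := S0498.result (G := G) 13 (by norm_num) (by rw [h1]; norm_num) (F := ZMod 13)
      (by rw [ZMod.card])
    obtain ⟨f⟩ := S0498.result (G := S) 13 (by norm_num) (by rw [hcard, h1]; norm_num) (F := ZMod 13)
      (by rw [ZMod.card])
    exact ⟨e.trans f.symm⟩
  · obtain ⟨e⟩ := S1020.result h1 (F := ZMod 17) (by rw [ZMod.card])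
    obtain ⟨f⟩ := S1020.result (hcard.trans h1) (F := ZMod 17) (by rw [ZMod.card])
    exact ⟨e.trans f.symm⟩
  · obtain ⟨e⟩ := S0984.result h1
    obtain ⟨f⟩ := S0984.result (hcard.trans h1)
    exact ⟨e.trans f.symm⟩
  · obtain ⟨e⟩ := S1021.result h1 (F := ZMod 19) (by rw [ZMod.card])
    obtain ⟨f⟩ := S1021.result (hcard.trans h1) (F := ZMod 19) (by rw [ZMod.card])
    exact ⟨e.trans f.symm⟩
  · have := Fintype.ofFinite (GaloisField 2 4)
    have hF : Fintype.card (GaloisField 2 4) = 16 := by
      rw [← Nat.card_eq_fintype_card, GaloisField.card 2 4 (by norm_num)]; norm_num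
    obtain ⟨e⟩ := S0981.result h1 hF
    obtain ⟨f⟩ := S0981.result (hcard.trans h1) hF
    exact ⟨e.trans f.symm⟩
  · have h2 := known_orders hG h1 13 3 4 (by norm_num) (by norm_num)
    have h3 := known_orders hS (hcard.trans h1) 13 3 4 (by norm_num) (by norm_num)
    rcases h2 with h2 | h2 | h2 | h2 | h2 | h2 | h2 | ⟨-, F, _, _, hF, ⟨e⟩⟩
    iterate 7 exact absurd h2 (by norm_num)
    rcases h3 with h3 | h3 | h3 | h3 | h3 | h3 | h3 | ⟨-, K, _, _, hK, ⟨f⟩⟩
    iterate 7 exact absurd h3 (by norm_num)
    have : Fact (Nat.Prime 3) := ⟨by norm_num⟩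
    have i : F ≃+* K := FiniteField.ringEquivOfCardEq (hF.trans hK.symm)
    exact ⟨(e.trans (LieClassical.FieldTransfer.pslCongr i)).trans f.symm⟩

end Cfsg.Agent.H424.SmallIso
end
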